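import Cfsg.Agent.DistinctClass.Small

/-!
# Consequences of the absence of centralisers of order at most four
-/

set_option autoImplicit false
set_option linter.style.haveILetI false

namespace CfsgLib.DistinctClass

open Subgroup

variable {G : Type*} [Group G] [Finite G]

/-- The minimal configuration: distinct class sizes and no centraliser of order below five. -/
structure Base (G : Type*) [Group G] : Prop where
  inj : Inj G
  solvable : Group.IsSolvable G
  small : ∀ x : G, 5 ≤ cz x

theorem Base.rat (hB : Base G) : Rat G := rat_of_inj hB.inj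

theorem base_of_cz_ne_two [Nontrivial G] (hI : Inj G) (hsol : Group.IsSolvable G)
    (h2 : ∀ g : G, cz g ≠ 2) : Base G := by
  refine ⟨hI, hsol, fun x => ?_⟩
  have := two_le_cz hI x
  have := h2 x
  have := cz_ne_three_of_four hI hsol h2 x
  have := cz_ne_four hI hsol h2 x
  omega

theorem small_data {n : ℕ} (h : n ∈ ({1, 2, 3, 4} : Finset ℕ)) : n ≠ 0 ∧ Adm n ∧ n < 5 := by
  simp only [Finset.mem_insert, Finset.mem_singleton] at h
  rcases h with rfl | rfl | rfl | rfl <;>
    exact ⟨by norm_num, adm_of_lt_five (by norm_num) (by norm_num), by norm_num⟩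

theorem sum_small : ∑ n ∈ ({1, 2, 3, 4} : Finset ℕ), (1 : ℚ) / n = 25 / 12 := by
  norm_num [Finset.sum_insert]

/-- Every set of further centraliser orders missing from the group costs its reciprocal sum. -/
theorem Base.total_le (hB : Base G) (Ex : Finset ℕ) (hEx : ∀ n ∈ Ex, 5 ≤ n ∧ Adm n)
    (h : ∀ x : G, cz x ∉ Ex) : (1 : ℚ) ≤ 3228 / 1000 - 25 / 12 - ∑ n ∈ Ex, (1 : ℚ) / n := by
  classical
  have hd : Disjoint ({1, 2, 3, 4} : Finset ℕ) Ex := Finset.disjoint_left.2 fun n h1 h2 => by
    have := (small_data h1).2.2
    have := (hEx n h2).1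
    omega
  have hm := mass_le hB.inj hB.solvable (Set.univ : Set G) sumBound_two_all sumBound_three_all
    ({1, 2, 3, 4} ∪ Ex) (1076 / 1000)
    (fun y _ => ⟨trivial, trivial, fun h' => by
      rcases Finset.mem_union.1 h' with h1 | h1
      · have := (small_data h1).2.2
        have := hB.small y
        omega
      · exact h y h1⟩)
    (fun n hn => by
      rcases Finset.mem_union.1 hn with h1 | h1
      · exact ⟨(small_data h1).1, (small_data h1).2.1, trivial, trivial⟩
      · exact ⟨by have := (hEx n h1).1; omega, (hEx n h1).2, trivial, trivial⟩)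
    (Or.inl le_rfl)
  rw [Finset.sum_union hd, sum_small, Nat.card_congr (Equiv.Set.univ G)] at hm
  have hpos : (0 : ℚ) < Nat.card G := by exact_mod_cast Nat.card_pos
  have := (le_mul_iff_one_le_right hpos).1 hm
  linarith

theorem Base.exists_six (hB : Base G) : ∃ x : G, cz x = 6 := by
  by_contra h
  push Not at h
  have := hB.total_le {6} (by simp [adm_six]) (by simpa using h)
  norm_num at this

theorem Base.exists_nine_or (hB : Base G) : ∃ y : G, cz y = 9 ∨ cz y = 25 := by
  by_contra h
  push Not at h
  have := hB.total_le {9, 25} (by simp [adm_nine, adm_twentyFive])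
    (fun x => by simp [(h x).1, (h x).2])
  norm_num at this

theorem Base.five_dvd (hB : Base G) : 5 ∣ Nat.card G := by
  classical
  by_contra h
  have hm := mass_le hB.inj hB.solvable (Set.univ : Set G) sumBound_two_all sumBound_three_all
    {1, 2, 3, 4} (1025 / 1000)
    (fun y _ => ⟨trivial, trivial, fun h' => by
      have := (small_data h').2.2
      have := hB.small y
      omega⟩)
    (fun n hn => ⟨(small_data hn).1, (small_data hn).2.1, trivial, trivial⟩)
    (Or.inr ⟨le_rfl, fun y _ h5 => h (h5.trans (card_subgroup_dvd_card _)), fun n hn h5 => by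
      have h' := small_data hn
      have := Nat.le_of_dvd (Nat.pos_of_ne_zero h'.1) h5
      omega⟩)
  rw [sum_small, Nat.card_congr (Equiv.Set.univ G)] at hm
  have hpos : (0 : ℚ) < Nat.card G := by exact_mod_cast Nat.card_pos
  have := (le_mul_iff_one_le_right hpos).1 hm
  norm_num at this

/-- There is no normal subgroup with quotient a two-group of order at least eight. -/
theorem Base.index_le_four (hB : Base G) {K : Subgroup G} [K.Normal] (hK : IsPGroup 2 (G ⧸ K)) :
    K.index ≤ 4 := by
  obtain ⟨j, hj⟩ := IsPGroup.iff_card.1 hK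
  rw [← index_eq_card] at hj
  by_contra h
  have hj3 : 3 ≤ j := by
    by_contra hh
    have : 2 ^ j ≤ 2 ^ 2 := Nat.pow_le_pow_right two_pos (by omega)
    omega
  have h8 : (8 : ℚ) ≤ K.index := by
    have : 2 ^ 3 ≤ 2 ^ j := Nat.pow_le_pow_right two_pos hj3
    rw [hj]
    exact_mod_cast this
  have hm := compl_le hB.inj hB.solvable K sumBound_two_pos sumBound_three_all {2, 4}
    (fun y hy => ⟨one_le_factorization_two (two_dvd_orderOf hK hy), trivial, by
      have := hB.small y
      simp only [Finset.mem_insert, Finset.mem_singleton]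
      omega⟩)
    (fun n hn => by
      simp only [Finset.mem_insert, Finset.mem_singleton] at hn
      rcases hn with rfl | rfl <;>
      exact ⟨by norm_num, adm_of_lt_five (by norm_num) (by norm_num),
        (Nat.prime_two.pow_dvd_iff_le_factorization (by norm_num)).1 (by norm_num), trivial⟩)
  have : 1 / (K.index : ℚ) ≤ 1 / 8 := by gcongr
  norm_num at hm this
  linarith

theorem Base.two_dvd [Nontrivial G] (hB : Base G) : 2 ∣ Nat.card G := by
  haveI := hB.solvable
  obtain ⟨g, hg⟩ : ∃ g : G, g ∉ commutator G := by
    by_contra h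
    push Not at h
    exact (Group.IsSolvable.commutator_lt_top_of_nontrivial G).ne (eq_top_iff.2 fun a _ => h a)
  exact (two_dvd_orderOf (isPGroup_abelianization hB.rat) hg).trans (orderOf_dvd_natCard g)

/-- An element with centraliser of order six has order six. -/
theorem Base.orderOf_eq_six [Nontrivial G] (hB : Base G) {x : G} (hx : cz x = 6) :
    orderOf x = 6 := by
  haveI := hB.solvable
  have hd : orderOf x ∣ 6 := hx ▸ orderOf_dvd_cz x
  have hle := Nat.le_of_dvd (by norm_num) hd
  rcases (show orderOf x = 0 ∨ orderOf x = 1 ∨ orderOf x = 2 ∨ orderOf x = 3 ∨ orderOf x = 4 ∨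
      orderOf x = 5 ∨ orderOf x = 6 by omega) with h | h | h | h | h | h | h
  · exact absurd h (orderOf_pos x).ne'
  · exfalso
    rw [orderOf_eq_one_iff] at h
    rw [h, cz_one] at hx
    obtain ⟨y, hy⟩ := exists_ne (1 : G)
    refine hy (eq_one_of_cz hB.inj ?_)
    have h1 : cz y ∣ 6 := hx ▸ card_subgroup_dvd_card _
    have h5 := hB.small y
    have := Nat.le_of_dvd (by norm_num) h1
    rcases (show cz y = 5 ∨ cz y = 6 by omega) with h' | h'
    · rw [h'] at h1; norm_num at h1
    · rw [h', hx]
  · exfalso
    haveI : Fact (Nat.Prime 2) := ⟨Nat.prime_two⟩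
    have hv : (cz x).factorization 2 = 1 := by
      rw [hx, show 6 = 2 * 3 from rfl, Nat.factorization_mul (by norm_num) (by norm_num),
        Finsupp.add_apply, Nat.prime_two.factorization_self,
        Nat.factorization_eq_zero_of_not_dvd (by norm_num)]
    obtain ⟨P, hP⟩ := sylow_eq_zpowers (p := 2) h hv
    have hG2 : (Nat.card G).factorization 2 = 1 := by
      have := P.card_eq_multiplicity
      rw [hP, Nat.card_zpowers, h] at this
      exact (Nat.pow_right_injective le_rfl ((pow_one 2).trans this)).symm
    have hidx : 2 ≤ (commutator G).index := by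
      have h1 : (commutator G).index ≠ 1 := fun h =>
        (Group.IsSolvable.commutator_lt_top_of_nontrivial G).ne (index_eq_one.1 h)
      have := (commutator G).index_ne_zero_of_finite
      omega
    have hm := compl_le hB.inj hB.solvable (commutator G) (a := 1 / 2)
      (sumBound_of_subset (P := fun a => a = 1) (by norm_num) {1} (fun a ha => by simp [ha])
        (by simp))
      sumBound_three_all {2}
      (fun y hy => ⟨by
        have h1 := one_le_factorization_two (two_dvd_orderOf (isPGroup_abelianization hB.rat) hy)
        have h2 := (Nat.factorization_le_iff_dvd (cz_pos y).ne' Nat.card_pos.ne').2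
          (card_subgroup_dvd_card (centralizer ({y} : Set G))) 2
        omega, trivial, by have := hB.small y; simp; omega⟩)
      (fun n hn => by
        simp only [Finset.mem_singleton] at hn
        subst hn
        exact ⟨by norm_num, adm_of_lt_five (by norm_num) (by norm_num),
          Nat.prime_two.factorization_self, trivial⟩)
    have : 1 / ((commutator G).index : ℚ) ≤ 1 / 2 := by
      gcongr
      exact_mod_cast hidx
    norm_num at hm this
    linarith
  · exfalso
    obtain ⟨⟨u, huC⟩, hu⟩ := exists_prime_orderOf_dvd_card' (hp := ⟨Nat.prime_two⟩) 2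
      (show 2 ∣ cz x by rw [hx]; norm_num)
    rw [orderOf_mk] at hu
    have hc : Commute x u := (mem_centralizer_single.1 huC).symm
    have hord : orderOf (x * u) = 6 := by
      rw [hc.orderOf_mul_eq_mul_orderOf_of_coprime (by rw [h, hu]; norm_num), h, hu]
    have hle' : centralizer ({x * u} : Set G) ≤ centralizer ({x} : Set G) := fun a ha => by
      refine mem_centralizer_single.2 ?_
      have h4 : (x * u) ^ 4 = x := by
        rw [hc.mul_pow, show u ^ 4 = 1 from orderOf_dvd_iff_pow_eq_one.1 (by rw [hu]; norm_num),
          mul_one, pow_succ, show x ^ 3 = 1 by rw [← h, pow_orderOf_eq_one], one_mul]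
      rw [← h4]
      exact (mem_centralizer_single.1 ha).pow_right 4
    have h6 : cz (x * u) = 6 := by
      have h1 : cz (x * u) ∣ 6 := hx ▸ card_dvd_of_le hle'
      have h2 : 6 ∣ cz (x * u) := hord ▸ orderOf_dvd_cz _
      exact Nat.dvd_antisymm h1 h2
    obtain ⟨g, hg⟩ := isConj_iff.1 (hB.inj (x * u) x (h6.trans hx.symm))
    have := orderOf_injective (MulAut.conj g).toMonoidHom (MulAut.conj g).injective (x * u)
    rw [hord] at this
    change orderOf (g * (x * u) * g⁻¹) = 6 at this
    rw [hg, h] at this
    omega
  · rw [h] at hd; norm_num at hd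
  · rw [h] at hd; norm_num at hd
  · exact h

end CfsgLib.DistinctClass
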