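import Mathlib

/-!
# Rational groups and distinct class sizes: basic facts
-/

set_option autoImplicit false
set_option linter.style.haveILetI false

namespace CfsgLib.DistinctClass

open Subgroup
open scoped commutatorElement

/-- Every element is conjugate to all generators of the cyclic subgroup it generates. -/
def Rat (G : Type*) [Group G] : Prop :=
  ∀ (x : G) (k : ℕ), k.Coprime (orderOf x) → IsConj x (x ^ k)

/-- The order of the centraliser of an element. -/
noncomputable def cz {G : Type*} [Group G] (x : G) : ℕ := Nat.card (centralizer ({x} : Set G))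

/-- The order of the centraliser determines the conjugacy class. -/
def Inj (G : Type*) [Group G] : Prop := ∀ x y : G, cz x = cz y → IsConj x y

variable {G : Type*} [Group G]

theorem Rat.exists_conj (hR : Rat G) {x : G} {k : ℕ} (hk : k.Coprime (orderOf x)) :
    ∃ g : G, g * x * g⁻¹ = x ^ k := isConj_iff.1 (hR x k hk)

theorem cz_pos [Finite G] (x : G) : 0 < cz x := Nat.card_pos

theorem mem_centralizer_single {x y : G} : y ∈ centralizer ({x} : Set G) ↔ Commute y x :=
  mem_centralizer_singleton_iff

/-- An element which commutes with a generator of a cyclic group commutes with the group. -/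
theorem centralizer_pow_eq {x : G} {k : ℕ} (hk : k.Coprime (orderOf x)) :
    centralizer ({x ^ k} : Set G) = centralizer ({x} : Set G) := by
  ext y
  rw [mem_centralizer_single, mem_centralizer_single]
  refine ⟨fun h => ?_, fun h => h.pow_right k⟩
  obtain ⟨m, hm⟩ := exists_pow_eq_self_of_coprime hk
  rw [← hm]
  exact h.pow_right m

theorem cz_eq_of_isConj [Finite G] {x y : G} (h : IsConj x y) : cz x = cz y := by
  obtain ⟨g, rfl⟩ := isConj_iff.1 h
  have : centralizer ({g * x * g⁻¹} : Set G) =
      (centralizer ({x} : Set G)).map (MulAut.conj g).toMonoidHom := by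
    ext y
    rw [mem_centralizer_single, Subgroup.mem_map_equiv, mem_centralizer_single, MulAut.conj_symm_apply]
    constructor <;> intro h'
    · show (g⁻¹ * y * g) * x = x * (g⁻¹ * y * g)
      calc (g⁻¹ * y * g) * x = g⁻¹ * (y * (g * x * g⁻¹)) * g := by group
        _ = g⁻¹ * ((g * x * g⁻¹) * y) * g := by rw [h'.eq]
        _ = x * (g⁻¹ * y * g) := by group
    · show y * (g * x * g⁻¹) = g * x * g⁻¹ * y
      calc y * (g * x * g⁻¹) = g * ((g⁻¹ * y * g) * x) * g⁻¹ := by group
        _ = g * (x * (g⁻¹ * y * g)) * g⁻¹ := by rw [h'.eq]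
        _ = g * x * g⁻¹ * y := by group
  unfold cz
  rw [this, card_map_of_injective (MulAut.conj g).injective]

/-- The class of `x` times the centraliser order is the group order. -/
theorem card_class_mul_cz [Finite G] (x : G) :
    Nat.card {y : G | IsConj x y} * cz x = Nat.card G := by
  classical
  haveI := Fintype.ofFinite G
  have h1 := Subgroup.nat_card_centralizer_nat_card_stabilizer (G := G) x
  have h2 := MulAction.card_orbit_mul_card_stabilizer_eq_card_group (ConjAct G) x
  have hset : {y : G | IsConj x y} = MulAction.orbit (ConjAct G) x := by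
    ext y
    rw [ConjAct.mem_orbit_conjAct, Set.mem_setOf_eq]
    exact isConj_comm
  rw [hset, cz, h1, Nat.card_eq_fintype_card, Nat.card_eq_fintype_card, h2, Nat.card_eq_fintype_card]
  rfl

theorem rat_of_inj [Finite G] (h : Inj G) : Rat G := fun x k hk =>
  h x (x ^ k) (by rw [cz, cz, centralizer_pow_eq hk])

theorem Rat.map {G' : Type*} [Group G'] [Finite G] (hR : Rat G) (f : G →* G')
    (hf : Function.Surjective f) : Rat G' := by
  intro x k hk
  obtain ⟨a, rfl⟩ := hf x
  -- adjust the exponent to be prime to the order of the preimage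
  have hdvd : orderOf (f a) ∣ orderOf a := orderOf_map_dvd f a
  haveI : NeZero (orderOf a) := ⟨(orderOf_pos a).ne'⟩
  obtain ⟨u, hu⟩ := ZMod.unitsMap_surjective hdvd (ZMod.unitOfCoprime k hk)
  have hk' : ((u : ZMod (orderOf a)).val).Coprime (orderOf a) := ZMod.val_coe_unit_coprime u
  have hcong : ((u : ZMod (orderOf a)).val : ZMod (orderOf (f a))) = (k : ZMod (orderOf (f a))) := by
    have := congrArg Units.val hu
    rw [ZMod.unitsMap_val, ZMod.coe_unitOfCoprime] at this
    rw [← this, ZMod.natCast_val]
  obtain ⟨g, hg⟩ := hR.exists_conj hk'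
  refine isConj_iff.2 ⟨f g, ?_⟩
  rw [← map_inv, ← map_mul, ← map_mul, hg, map_pow, pow_eq_pow_iff_modEq]
  exact (ZMod.natCast_eq_natCast_iff _ _ _).1 hcong

theorem Rat.quotient [Finite G] (hR : Rat G) (N : Subgroup G) [N.Normal] : Rat (G ⧸ N) :=
  hR.map (QuotientGroup.mk' N) (QuotientGroup.mk'_surjective N)

theorem Rat.exists_inv [Finite G] (hR : Rat G) (x : G) : ∃ g : G, g * x * g⁻¹ = x⁻¹ := by
  have hpos := orderOf_pos x
  have hk : (orderOf x - 1).Coprime (orderOf x) := by
    rcases Nat.lt_or_ge 1 (orderOf x) with h1 | h1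
    · have h := Nat.coprime_self_sub_right (m := 1) (n := orderOf x) h1.le
      exact (h.2 (Nat.coprime_one_right _)).symm
    · rw [show orderOf x = 1 by omega]; exact Nat.coprime_one_right _
  obtain ⟨g, hg⟩ := hR.exists_conj hk
  refine ⟨g, hg.trans (eq_inv_of_mul_eq_one_left ?_)⟩
  rw [← pow_succ, Nat.sub_add_cancel hpos, pow_orderOf_eq_one]

/-- A rational commutative group has exponent two. -/
theorem Rat.sq_eq_one_of_comm [Finite G] (hR : Rat G) (hc : ∀ a b : G, a * b = b * a) (x : G) :
    x * x = 1 := by
  obtain ⟨g, hg⟩ := hR.exists_inv x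
  rw [hc g x, mul_inv_cancel_right] at hg
  nth_rewrite 2 [hg]
  exact mul_inv_cancel x

/-- A homomorphism from a rational group to a commutative group has values of square one. -/
theorem Rat.hom_sq [Finite G] (hR : Rat G) {C : Type*} [CommGroup C] (f : G →* C) (x : G) :
    f x * f x = 1 := by
  obtain ⟨g, hg⟩ := hR.exists_inv x
  have := congrArg f hg
  rw [map_mul, map_mul, map_inv, map_inv, mul_comm (f g), mul_inv_cancel_right] at this
  nth_rewrite 2 [this]
  exact mul_inv_cancel (f x)

/-- Passing to a quotient does not increase centraliser orders. -/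
theorem cz_map_le [Finite G] {G' : Type*} [Group G'] (f : G →* G') (hf : Function.Surjective f)
    (x : G) : cz (f x) ≤ cz x := by
  classical
  haveI : Finite G' := Finite.of_surjective f hf
  have h1 := card_class_mul_cz x
  have h2 := card_class_mul_cz (f x)
  have h3 : Nat.card G = Nat.card f.ker * Nat.card G' := by
    rw [card_eq_card_quotient_mul_card_subgroup f.ker, mul_comm]
    rw [Nat.card_congr (QuotientGroup.quotientKerEquivOfSurjective f hf).toEquiv]
  -- the class of `x` lies over the class of `f x`
  have h4 : Nat.card {y : G | IsConj x y} ≤ Nat.card {y : G' | IsConj (f x) y} * Nat.card f.ker := by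
    rw [← Nat.card_prod]
    let sec : G' → G := Function.surjInv hf
    refine Nat.card_le_card_of_injective
      (fun y => (⟨f y.1, f.map_isConj y.2⟩,
        ⟨(sec (f y.1))⁻¹ * y.1, by
          rw [MonoidHom.mem_ker, map_mul, map_inv, Function.surjInv_eq hf, inv_mul_cancel]⟩)) ?_
    rintro ⟨a, ha⟩ ⟨b, hb⟩ hab
    simp only [Prod.mk.injEq, Subtype.mk.injEq] at hab
    rw [hab.1] at hab
    exact Subtype.ext (mul_left_cancel hab.2)
  have hpos : 0 < Nat.card {y : G | IsConj x y} := by
    haveI : Nonempty {y : G | IsConj x y} := ⟨⟨x, IsConj.refl x⟩⟩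
    exact Nat.card_pos
  have : Nat.card {y : G | IsConj x y} * cz (f x) ≤ Nat.card {y : G | IsConj x y} * cz x := by
    rw [h1, h3, ← h2]
    calc Nat.card {y : G | IsConj x y} * cz (f x)
        ≤ Nat.card {y : G' | IsConj (f x) y} * Nat.card f.ker * cz (f x) :=
          Nat.mul_le_mul_right _ h4
      _ = Nat.card f.ker * (Nat.card {y : G' | IsConj (f x) y} * cz (f x)) := by ring
  exact Nat.le_of_mul_le_mul_left this hpos

/-- Counting: in a group with `Inj`, the elements with centraliser order in `F` fill at most the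
fraction `∑ 1 / n` of the group. -/
theorem Inj.mass [Finite G] (h : Inj G) (Y : Set G) (F : Finset ℕ) (hY : ∀ y ∈ Y, cz y ∈ F) :
    (Nat.card Y : ℚ) ≤ (Nat.card G : ℚ) * ∑ n ∈ F, (1 : ℚ) / n := by
  classical
  haveI := Fintype.ofFinite G
  have hsum : Nat.card Y = ∑ n ∈ F, ((Y.toFinset).filter fun y => cz y = n).card := by
    rw [Nat.card_eq_fintype_card, ← Set.toFinset_card]
    exact Finset.card_eq_sum_card_fiberwise fun y hy => hY y (Set.mem_toFinset.1 hy)
  rw [hsum, Nat.cast_sum, Finset.mul_sum]
  refine Finset.sum_le_sum fun n _ => ?_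
  rcases ((Y.toFinset).filter fun y => cz y = n).eq_empty_or_nonempty with he | ⟨y₀, hy₀⟩
  · rw [he, Finset.card_empty, Nat.cast_zero]
    positivity
  · have hn : cz y₀ = n := (Finset.mem_filter.1 hy₀).2
    have hsub : ((Y.toFinset).filter fun y => cz y = n).card ≤ Nat.card {y : G | IsConj y₀ y} := by
      rw [Nat.card_eq_fintype_card, ← Set.toFinset_card]
      refine Finset.card_le_card fun y hy => Set.mem_toFinset.2 ?_
      exact h y₀ y (hn.trans (Finset.mem_filter.1 hy).2.symm)
    have hc := card_class_mul_cz y₀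
    rw [hn] at hc
    have hnpos : (0 : ℚ) < n := by rw [← hn]; exact_mod_cast cz_pos y₀
    rw [mul_one_div, le_div_iff₀ hnpos]
    calc ((((Y.toFinset).filter fun y => cz y = n).card : ℕ) : ℚ) * n
        ≤ (Nat.card {y : G | IsConj y₀ y} : ℚ) * n :=
          mul_le_mul_of_nonneg_right (by exact_mod_cast hsub) hnpos.le
      _ = _ := by exact_mod_cast hc

theorem inj_of_card_injective [Finite G]
    (h : Function.Injective fun C : ConjClasses G => Nat.card C.carrier) : Inj G := by
  intro x y hxy
  have hcl : ∀ a : G, (ConjClasses.mk a).carrier = {b : G | IsConj a b} := by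
    intro a; ext b
    rw [ConjClasses.mem_carrier_iff_mk_eq, Set.mem_setOf_eq, ConjClasses.mk_eq_mk_iff_isConj]
    exact isConj_comm
  have hx := card_class_mul_cz x
  have hy := card_class_mul_cz y
  rw [hxy] at hx
  have := Nat.eq_of_mul_eq_mul_right (cz_pos y) (hx.trans hy.symm)
  exact ConjClasses.mk_eq_mk_iff_isConj.1 (h (by simp only [hcl, this]))

/-- Counting in commutator cosets. -/
theorem index_centralizer_le_card_commutator [Finite G] (w : G) :
    (centralizer ({w} : Set G)).index ≤ Nat.card (commutator G) := by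
  let f : G ⧸ centralizer ({w} : Set G) → commutator G := Quotient.lift
    (fun g : G => (⟨g * w * g⁻¹ * w⁻¹, by
      rw [← commutatorElement_def]
      exact commutator_mem_commutator (mem_top g) (mem_top w)⟩ : commutator G))
    (fun a b hab => by
      have hc := mem_centralizer_singleton_iff.1 (QuotientGroup.leftRel_apply.1 hab)
      refine Subtype.ext ?_
      show a * w * a⁻¹ * w⁻¹ = b * w * b⁻¹ * w⁻¹
      calc a * w * a⁻¹ * w⁻¹ = a * (w * (a⁻¹ * b)) * b⁻¹ * w⁻¹ := by group
        _ = a * ((a⁻¹ * b) * w) * b⁻¹ * w⁻¹ := by rw [hc]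
        _ = b * w * b⁻¹ * w⁻¹ := by group)
  rw [index_eq_card]
  refine Nat.card_le_card_of_injective f fun a b h => ?_
  induction a using QuotientGroup.induction_on with | H a => ?_
  induction b using QuotientGroup.induction_on with | H b => ?_
  have h' : a * w * a⁻¹ = b * w * b⁻¹ :=
    mul_right_cancel (congrArg Subtype.val h : a * w * a⁻¹ * w⁻¹ = b * w * b⁻¹ * w⁻¹)
  refine QuotientGroup.eq.2 (mem_centralizer_singleton_iff.2 ?_)
  calc a⁻¹ * b * w = a⁻¹ * (b * w * b⁻¹) * b := by group
    _ = a⁻¹ * (a * w * a⁻¹) * b := by rw [h']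
    _ = w * (a⁻¹ * b) := by group

/-- The commutator index is at most any centraliser order. -/
theorem index_commutator_le_cz [Finite G] (w : G) : (commutator G).index ≤ cz w := by
  have h1 := card_mul_index (centralizer ({w} : Set G))
  have h2 := card_mul_index (commutator G)
  have h3 := index_centralizer_le_card_commutator w
  refine Nat.le_of_mul_le_mul_left ?_ (Nat.card_pos (α := commutator G))
  rw [h2, ← h1, mul_comm (Nat.card (commutator G))]
  exact Nat.mul_le_mul_left _ h3

end CfsgLib.DistinctClass
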