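import Mathlib

/-!
# Fixed-point-free actions of elements of order three

* `frobenius_trivial`: an element of order three without nontrivial fixed points on an abelian
  group and on a group of automorphisms of coprime order which it normalises forces the latter
  to be trivial.
* `noncyclic_trivial`: the same for a commuting element of order three.
* `fpf_of_chain`: fixed-point-freeness is passed on inside a `3`-group normalised by an involution.
-/

set_option autoImplicit false
set_option linter.style.haveILetI false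

namespace CfsgLib.DistinctClass

open Subgroup

/-- A fixed point of an automorphism of period `p` in an invariant set of size prime to `p`. -/
theorem exists_fixed_in {α : Type*} [Finite α] {p : ℕ} [Fact p.Prime] (f : α ≃ α)
    (hf : ∀ a, (f : α → α)^[p] a = a) (h : ¬ p ∣ Nat.card α) : ∃ a, f a = a := by
  classical
  haveI := Fintype.ofFinite α
  refine Equiv.Perm.exists_fixed_point_of_prime (p := p) (n := 1)
    (by rwa [← Nat.card_eq_fintype_card]) (σ := f) (Equiv.ext fun a => ?_)
  rw [pow_one, ← Equiv.Perm.iterate_eq_pow]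
  exact hf a

section module

variable {W : Type*} [CommGroup W] [Finite W]

omit [Finite W] in
/-- The norm of a fixed-point-free automorphism of period three is trivial. -/
theorem norm_eq_one {w : MulAut W} (h3 : w ^ 3 = 1) (hfix : ∀ v, w v = v → v = 1) (v : W) :
    v * w v * (w * w) v = 1 := by
  refine hfix _ ?_
  have h : (w * (w * w)) v = v := by rw [← mul_assoc, ← pow_three', h3, MulAut.one_apply]
  rw [map_mul, map_mul, ← MulAut.mul_apply, ← MulAut.mul_apply, h]
  ac_rfl

/-- **Frobenius lemma.** -/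
theorem frobenius_trivial (M : Subgroup (MulAut W)) (w : MulAut W) (h3 : w ^ 3 = 1)
    (hW : ∀ v, w v = v → v = 1) (hnorm : ∀ m ∈ M, w * m * w⁻¹ ∈ M)
    (hM : ∀ m ∈ M, Commute w m → m = 1) (hcop : (Nat.card W).Coprime (Nat.card M)) : M = ⊥ := by
  classical
  haveI := Fintype.ofFinite W
  haveI : Finite (MulAut W) := Finite.of_injective (fun f => (f : W → W)) DFunLike.coe_injective
  haveI := Fintype.ofFinite M
  -- the twisted product map
  have key : ∀ (z : MulAut W), (∀ m ∈ M, z * m * z⁻¹ ∈ M) → (∀ m ∈ M, Commute z m → m = 1) →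
      ∀ v, ∏ n : M, ((n : MulAut W) * z * (n : MulAut W)⁻¹) v = ∏ m : M, (m : MulAut W) (z v) := by
    intro z hz hzM v
    let F : M → M := fun n => ⟨n * (z * (n : MulAut W)⁻¹ * z⁻¹), M.mul_mem n.2 (hz _ (M.inv_mem n.2))⟩
    have hF : Function.Bijective F := by
      refine Finite.injective_iff_bijective.1 fun a b hab => ?_
      have h : (a : MulAut W) * (z * (a : MulAut W)⁻¹ * z⁻¹) = b * (z * (b : MulAut W)⁻¹ * z⁻¹) :=
        congrArg Subtype.val hab
      have hc : Commute z ((b : MulAut W)⁻¹ * a) := by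
        show z * ((b : MulAut W)⁻¹ * a) = (b : MulAut W)⁻¹ * a * z
        calc z * ((b : MulAut W)⁻¹ * a) = (b : MulAut W)⁻¹ * (b * (z * (b : MulAut W)⁻¹ * z⁻¹)) * z * a := by
              group
          _ = (b : MulAut W)⁻¹ * (a * (z * (a : MulAut W)⁻¹ * z⁻¹)) * z * a := by rw [h]
          _ = (b : MulAut W)⁻¹ * a * z := by group
      exact Subtype.ext (inv_mul_eq_one.1 (hzM _ (M.mul_mem (M.inv_mem b.2) a.2) hc)).symm
    refine Fintype.prod_bijective F hF _ _ fun n => ?_
    show _ = ((n : MulAut W) * (z * (n : MulAut W)⁻¹ * z⁻¹) * z) v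
    group
  have hnorm2 : ∀ m ∈ M, w * w * m * (w * w)⁻¹ ∈ M := fun m hm => by
    have := hnorm _ (hnorm m hm)
    simpa [mul_assoc, mul_inv_rev] using this
  have hM2 : ∀ m ∈ M, Commute (w * w) m → m = 1 := fun m hm hc => hM m hm (by
    have h : w = (w * w) * (w * w) := by
      calc w = w ^ 3 * w := by rw [h3, one_mul]
        _ = (w * w) * (w * w) := by rw [pow_three]; group
    rw [h]
    exact hc.mul_left hc)
  rw [eq_bot_iff]
  intro m₀ hm₀
  rw [mem_bot]
  refine MulEquiv.ext fun v => ?_
  rw [MulAut.one_apply]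
  set S : W → W := fun u => ∏ m : M, (m : MulAut W) u with hS
  have hsum : ∀ u, S u = u ^ Nat.card M := by
    intro u
    have hn : ∀ n : M, u * (((n : MulAut W) * w * (n : MulAut W)⁻¹) u *
        ((n : MulAut W) * (w * w) * (n : MulAut W)⁻¹) u) = 1 := fun n => by
      have h := congrArg (n : MulAut W) (norm_eq_one h3 hW ((n : MulAut W)⁻¹ u))
      simp only [map_mul, map_one] at h
      simp only [MulAut.mul_apply] at h ⊢
      rw [MulAut.apply_inv_self] at h
      rw [← mul_assoc]
      exact h
    have h1 : u ^ Nat.card M * (S (w u) * S ((w * w) u)) = 1 := by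
      have hp : ∏ n : M, (u * (((n : MulAut W) * w * (n : MulAut W)⁻¹) u *
          ((n : MulAut W) * (w * w) * (n : MulAut W)⁻¹) u)) = 1 := Finset.prod_eq_one fun n _ => hn n
      rwa [Finset.prod_mul_distrib, Finset.prod_mul_distrib, key w hnorm hM u,
        key (w * w) hnorm2 hM2 u, Finset.prod_const, Finset.card_univ, ← Nat.card_eq_fintype_card] at hp
    have h2 : S u * (S (w u) * S ((w * w) u)) = 1 := by
      simp only [hS]
      rw [← Finset.prod_mul_distrib, ← Finset.prod_mul_distrib]
      refine Finset.prod_eq_one fun m _ => ?_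
      rw [← map_mul, ← map_mul, ← mul_assoc, norm_eq_one h3 hW u, map_one]
    exact mul_right_cancel (h2.trans h1.symm)
  have hfixed : m₀ (v ^ Nat.card M) = v ^ Nat.card M := by
    rw [← hsum, hS, map_prod]
    exact Fintype.prod_bijective (fun m : M => (⟨m₀, hm₀⟩ : M) * m) (Group.mulLeft_bijective _) _ _
      fun m => by rw [Subgroup.coe_mul, MulAut.mul_apply]
  rw [map_pow] at hfixed
  exact (powCoprime hcop).injective hfixed

omit [Finite W] in
/-- If `w`, `w * c`, `w * c * c` are fixed-point-free then `c = 1`. -/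
theorem noncyclic_trivial (hW : (Nat.card W).Coprime 3) {w c : MulAut W} (hc : Commute w c)
    (h3 : w ^ 3 = 1) (hc3 : c ^ 3 = 1) (h0 : ∀ v, w v = v → v = 1)
    (h1 : ∀ v, (w * c) v = v → v = 1) (h2 : ∀ v, (w * (c * c)) v = v → v = 1) : c = 1 := by
  refine MulEquiv.ext fun v => ?_
  rw [MulAut.one_apply]
  have e1 := norm_eq_one (by rw [hc.mul_pow, h3, hc3, mul_one]) h1 v
  have e2 := norm_eq_one (by
    rw [(hc.mul_right hc).mul_pow, (Commute.refl c).mul_pow, h3, hc3, mul_one, one_mul]) h2 v
  have e0 := norm_eq_one h3 h0 v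
  have hc4 : c * c * (c * c) = c := by
    calc c * c * (c * c) = c ^ 3 * c := by rw [pow_three]; group
      _ = c := by rw [hc3, one_mul]
  set q := v * c v * (c * c) v with hq
  have eq0 := norm_eq_one h3 h0 q
  have hA : (w * c * (w * c)) v = (w * w) ((c * c) v) := by
    rw [show w * c * (w * c) = w * w * (c * c) by
      rw [mul_assoc, ← mul_assoc c, ← hc.eq]; group, MulAut.mul_apply]
  have hB : (w * (c * c) * (w * (c * c))) v = (w * w) (c v) := by
    rw [show w * (c * c) * (w * (c * c)) = w * w * (c * c * (c * c)) by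
      rw [mul_assoc, ← mul_assoc (c * c), ← (hc.mul_right hc).eq]; group, hc4, MulAut.mul_apply]
  rw [hA] at e1
  rw [hB] at e2
  change v * w (c v) * (w * w) ((c * c) v) = 1 at e1
  change v * w ((c * c) v) * (w * w) (c v) = 1 at e2
  rw [hq, map_mul w, map_mul w, map_mul (w * w), map_mul (w * w), ← hq] at eq0
  have hv : v ^ 3 = q := by
    refine mul_right_cancel (b := w v * (w * w) v * (w (c v) * (w * w) ((c * c) v)) *
      (w ((c * c) v) * (w * w) (c v))) ?_
    calc v ^ 3 * (w v * (w * w) v * (w (c v) * (w * w) ((c * c) v)) *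
          (w ((c * c) v) * (w * w) (c v)))
        = (v * w v * (w * w) v) * (v * w (c v) * (w * w) ((c * c) v)) *
            (v * w ((c * c) v) * (w * w) (c v)) := by rw [pow_three]; ac_rfl
      _ = 1 := by rw [e0, e1, e2, one_mul, one_mul]
      _ = _ := by rw [← eq0]; ac_rfl
  have hcq : c q = q := by
    rw [hq, map_mul, map_mul, ← MulAut.mul_apply, ← MulAut.mul_apply,
      show c * (c * c) = 1 by rw [← pow_three, hc3], MulAut.one_apply]
    ac_rfl
  rw [← hv, map_pow] at hcq
  exact (powCoprime hW).injective hcq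

end module

section transfer

variable {G : Type*} [Group G] [Finite G] {W : Type*} [CommGroup W] [Finite W]

/-- The image of a fixed-point-free normalised `3'`-subgroup acts trivially. -/
theorem act_trivial (φ : G →* MulAut W) {p : ℕ} [Fact p.Prime] (hW : IsPGroup p W)
    (hA : ¬ p ∣ Nat.card φ.range) {w : G} (h3 : w ^ 3 = 1) (hfW : ∀ v, φ w v = v → v = 1)
    (N : Subgroup G) (hN : ¬ 3 ∣ Nat.card N) (hnorm : ∀ n ∈ N, w * n * w⁻¹ ∈ N)
    (hfN : ∀ n ∈ N, Commute w n → n = 1) : ∀ n ∈ N, φ n = 1 := by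
  classical
  haveI : Fact (Nat.Prime 3) := ⟨Nat.prime_three⟩
  have hbot : N.map φ = ⊥ := by
    refine frobenius_trivial _ (φ w) (by rw [← map_pow, h3, map_one]) hfW ?_ ?_ ?_
    · rintro _ ⟨n, hn, rfl⟩
      exact ⟨_, hnorm n hn, by rw [map_mul, map_mul, map_inv]⟩
    · rintro _ ⟨n, hn, rfl⟩ hc
      -- a fixed point in the fibre
      let K := φ.ker ⊓ N
      let f : K ≃ K :=
        { toFun := fun k => ⟨n⁻¹ * (w * (n * k) * w⁻¹), ?_⟩
          invFun := fun k => ⟨n⁻¹ * (w⁻¹ * (n * k) * w), ?_⟩
          left_inv := fun k => Subtype.ext (by simp only; group)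
          right_inv := fun k => Subtype.ext (by simp only; group) }
      have hiter : ∀ k, (f : K → K)^[3] k = k := fun k => Subtype.ext (by
        show n⁻¹ * (w * (n * (n⁻¹ * (w * (n * (n⁻¹ * (w * (n * (k : G)) * w⁻¹))) * w⁻¹))) * w⁻¹) = k
        have : w ^ 3 * (n * (k : G)) * (w ^ 3)⁻¹ = n * k := by rw [h3]; simp
        calc n⁻¹ * (w * (n * (n⁻¹ * (w * (n * (n⁻¹ * (w * (n * (k : G)) * w⁻¹))) * w⁻¹))) * w⁻¹)
            = n⁻¹ * (w ^ 3 * (n * (k : G)) * (w ^ 3)⁻¹) := by rw [pow_three]; group
          _ = k := by rw [this, inv_mul_cancel_left])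
      obtain ⟨k, hk⟩ := exists_fixed_in f (p := 3) hiter
        (fun h => hN (h.trans (card_dvd_of_le inf_le_right)))
      · have hk' : n⁻¹ * (w * (n * k) * w⁻¹) = (k : G) := congrArg Subtype.val hk
        rw [inv_mul_eq_iff_eq_mul, mul_inv_eq_iff_eq_mul] at hk'
        have h1 := hfN _ (N.mul_mem hn k.2.2) hk'
        have hkk : φ (k : G) = 1 := k.2.1
        rw [← mul_one (φ n)]
        nth_rewrite 1 [← hkk]
        rw [← map_mul, h1, map_one]
      · refine ⟨?_, N.mul_mem (N.inv_mem hn) (hnorm _ (N.mul_mem hn k.2.2))⟩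
        have hkk : φ (k : G) = 1 := k.2.1
        show φ (n⁻¹ * (w * (n * (k : G)) * w⁻¹)) = 1
        rw [map_mul, map_mul, map_mul, map_mul, hkk, mul_one,
          map_inv, map_inv, hc.eq, mul_inv_cancel_right, inv_mul_cancel]
      · have h' : ∀ a ∈ N, w⁻¹ * a * w ∈ N := fun a ha => by
          have h2 := hnorm _ (hnorm a ha)
          have hw : w⁻¹ = w * w := by
            refine inv_eq_of_mul_eq_one_right ?_
            rw [← pow_three, h3]
          rw [hw]
          convert h2 using 1
          have hw' : w = w⁻¹ * w⁻¹ := by rw [← mul_inv_rev, ← hw, inv_inv]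
          conv_lhs => arg 2; rw [hw']
          group
        refine ⟨?_, N.mul_mem (N.inv_mem hn) (h' _ (N.mul_mem hn k.2.2))⟩
        have hkk : φ (k : G) = 1 := k.2.1
        show φ (n⁻¹ * (w⁻¹ * (n * (k : G)) * w)) = 1
        rw [map_mul, map_mul, map_mul, map_mul, hkk, mul_one,
          map_inv, map_inv, hc.inv_left.eq, inv_mul_cancel_right, inv_mul_cancel]
    · obtain ⟨e, he⟩ := IsPGroup.iff_card.1 hW
      rw [he]
      refine Nat.Coprime.pow_left e ((Fact.out : p.Prime).coprime_iff_not_dvd.2 fun h => hA ?_)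
      exact h.trans (card_dvd_of_le (map_le_range φ N))
  intro n hn
  exact mem_bot.1 (hbot ▸ mem_map_of_mem φ hn)

/-- **Chain lemma.** Fixed-point-freeness of `u * w` and of one element of a `3`-group `P` which is
normalised by the involution `u` and in which `u` centralises only `⟨w⟩`, gives that of `w`. -/
theorem fpf_of_chain {M : Type*} [Group M] [Finite M] (φ : G →* MulAut M) {P : Subgroup G}
    (hP : IsPGroup 3 P) {u w y : G} (hu : u * u = 1) (hw : w ∈ P) (hc : Commute u w)
    (huP : ∀ a ∈ P, u * a * u ∈ P) (hPu : ∀ a ∈ P, Commute u a → a ∈ zpowers w)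
    (hy : y ∈ P) (hfy : ∀ m, φ y m = m → m = 1) (hfx : ∀ m, φ u m = m → φ w m = m → m = 1) :
    ∀ m, φ w m = m → m = 1 := by
  classical
  haveI : Fact (Nat.Prime 3) := ⟨Nat.prime_three⟩
  haveI : Fact (Nat.Prime 2) := ⟨Nat.prime_two⟩
  let X : Subgroup M :=
    { carrier := {m | φ w m = m}
      mul_mem' := fun {a b} ha hb => by
        show φ w (a * b) = a * b
        rw [map_mul, ha, hb]
      one_mem' := map_one _
      inv_mem' := fun {a} ha => by
        show φ w a⁻¹ = a⁻¹
        rw [map_inv, ha] }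
  have hmX : ∀ m, m ∈ X ↔ φ w m = m := fun m => Iff.rfl
  have huX : ∀ m ∈ X, φ u m ∈ X := fun m hm => by
    rw [hmX, ← MulAut.mul_apply, ← map_mul, ← hc.eq, map_mul, MulAut.mul_apply, (hmX m).1 hm]
  have hinv : ∀ m ∈ X, φ u m = m⁻¹ := by
    let f : X →* X := ((φ u).toMonoidHom.comp X.subtype).codRestrict X fun m => huX m m.2
    have hf : MonoidHom.FixedPointFree f := fun m hm =>
      Subtype.ext (hfx m (congrArg Subtype.val hm) m.2)
    have h2 : Function.Involutive f := fun m => Subtype.ext (by
      show φ u (φ u (m : M)) = m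
      rw [← MulAut.mul_apply, ← map_mul, hu, map_one, MulAut.one_apply])
    intro m hm
    exact congrArg Subtype.val (congrFun (hf.coe_eq_inv_of_involutive h2) ⟨m, hm⟩)
  let K : Subgroup P :=
    { carrier := {a | ∀ m ∈ X, φ (a : G) m = m}
      mul_mem' := fun {a b} ha hb m hm => by
        rw [Subgroup.coe_mul, map_mul, MulAut.mul_apply, hb m hm, ha m hm]
      one_mem' := fun m _ => by rw [Subgroup.coe_one, map_one, MulAut.one_apply]
      inv_mem' := fun {a} ha m hm => by
        conv_lhs => rw [← ha m hm]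
        rw [Subgroup.coe_inv, map_inv, MulAut.inv_apply_self] }
  have hmK : ∀ a : P, a ∈ K ↔ ∀ m ∈ X, φ (a : G) m = m := fun a => Iff.rfl
  have hwK : (⟨w, hw⟩ : P) ∈ K := (hmK _).2 fun m hm => (hmX m).1 hm
  have hKtop : K = ⊤ := by
    haveI := hP.isNilpotent
    refine normalizerCondition_iff_only_full_group_self_normalizing.1
      Group.normalizerCondition_of_isNilpotent K (le_antisymm ?_ le_normalizer)
    intro a ha
    have haX : ∀ m ∈ X, φ (a : G) m ∈ X := fun m hm => by
      rw [hmX]
      have h := (hmK _).1 ((mem_normalizer_iff''.1 ha ⟨w, hw⟩).1 hwK) m hm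
      simp only [Subgroup.coe_mul, Subgroup.coe_inv, map_mul, map_inv, MulAut.mul_apply] at h
      have h2 := congrArg (φ (a : G)) h
      rwa [MulAut.apply_inv_self] at h2
    -- `a⁻¹ * (u * a * u)` acts trivially on `X`
    set σ : P := ⟨u * (a : G) * u, huP a a.2⟩ with hσ
    have hkK : a⁻¹ * σ ∈ K := (hmK _).2 fun m hm => by
      have h1 : φ (σ : G) m = φ (a : G) m := by
        rw [hσ, map_mul, map_mul, MulAut.mul_apply, MulAut.mul_apply, hinv m hm, map_inv, map_inv,
          hinv _ (haX m hm), inv_inv]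
      rw [Subgroup.coe_mul, Subgroup.coe_inv, map_mul, map_inv, MulAut.mul_apply, h1,
        MulAut.inv_apply_self]
    -- a fixed point of `u` in the coset `a K`
    have huu : u⁻¹ = u := inv_eq_of_mul_eq_one_right hu
    have hKu : ∀ k ∈ K, ∀ m ∈ X, φ (u * (k : G) * u) m = m := fun k hk m hm => by
      rw [map_mul, map_mul, MulAut.mul_apply, MulAut.mul_apply, hinv m hm,
        (hmK k).1 hk _ (X.inv_mem hm), hinv _ (X.inv_mem hm), inv_inv]
    let f : K ≃ K := Function.Involutive.toPerm
      (fun k => ⟨a⁻¹ * σ * ⟨u * ((k : P) : G) * u, huP _ (k : P).2⟩,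
        K.mul_mem hkK ((hmK _).2 (hKu k k.2))⟩)
      (fun k => Subtype.ext (Subtype.ext (by
        show (a : G)⁻¹ * (u * a * u) * (u * ((a : G)⁻¹ * (u * a * u) * (u * ((k : P) : G) * u)) * u) =
          ((k : P) : G)
        calc (a : G)⁻¹ * (u * a * u) * (u * ((a : G)⁻¹ * (u * a * u) * (u * ((k : P) : G) * u)) * u)
            = (a : G)⁻¹ * (u * a) * (u * u) * ((a : G)⁻¹ * u * a) * (u * u) * ((k : P) : G) * (u * u) := by
              group
          _ = (a : G)⁻¹ * (u * u) * a * ((k : P) : G) := by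
              simp only [hu, mul_one, mul_assoc, mul_inv_cancel_left]
              rw [← mul_assoc u u, hu, one_mul]
          _ = ((k : P) : G) := by rw [hu]; group)))
    have hodd : ¬ 2 ∣ Nat.card K := fun h => by
      obtain ⟨e, he⟩ := IsPGroup.iff_card.1 (hP.to_subgroup K)
      rw [he] at h
      exact absurd (Nat.prime_two.dvd_of_dvd_pow h) (by norm_num)
    obtain ⟨k, hk⟩ := exists_fixed_in f (p := 2)
      (fun k => by
        show f (f k) = k
        exact Function.Involutive.toPerm_involutive _ k) hodd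
    have hk' : (a : G)⁻¹ * (u * a * u) * (u * ((k : P) : G) * u) = ((k : P) : G) :=
      congrArg (fun z : K => ((z : P) : G)) hk
    set b : G := (a : G) * ((k : P) : G) with hb
    have hbu : Commute u b := by
      have h1 : u * b * u = b := by
        conv_rhs => rw [hb, ← hk']
        rw [hb]
        calc u * ((a : G) * ((k : P) : G)) * u = u * (a : G) * (u * u) * ((k : P) : G) * u := by
              rw [hu]; group
          _ = _ := by group
      calc u * b = u * b * (u * u) := by rw [hu, mul_one]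
        _ = (u * b * u) * u := by group
        _ = b * u := by rw [h1]
    have hbP : b ∈ P := P.mul_mem a.2 (k : P).2
    have hbK : (⟨b, hbP⟩ : P) ∈ K := by
      obtain ⟨i, hi⟩ := hPu b hbP hbu
      have : (⟨b, hbP⟩ : P) = (⟨w, hw⟩ : P) ^ i := Subtype.ext (by rw [SubgroupClass.coe_zpow]; exact hi.symm)
      rw [this]
      exact K.zpow_mem hwK i
    have ha' : a = (⟨b, hbP⟩ : P) * (k : P)⁻¹ := by
      rw [eq_mul_inv_iff_mul_eq]
      exact Subtype.ext rfl
    rw [ha']
    exact K.mul_mem hbK (K.inv_mem k.2)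
  intro m hm
  exact hfy m ((hmK ⟨y, hy⟩).1 (hKtop ▸ mem_top _) m hm)

end transfer

end CfsgLib.DistinctClass
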