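import Cfsg.Agent.DistinctClass.Basic
import Cfsg.Agent.DistinctClass.Module

/-!
# A self-centralising elementary abelian normal three-subgroup as a vector space
-/

set_option autoImplicit false
set_option linter.style.haveILetI false
set_option linter.unusedSectionVars false

namespace CfsgLib.DistinctClass

open Subgroup

variable {X : Type*} [Group X] [Finite X]

/-- A self-centralising section, equal to the three-core, in a rational group, presented as a
module over the field with three elements. -/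
structure Rep (V : Subgroup X) (M : Type*) [AddCommGroup M] [Module (ZMod 3) M] where
  normal : V.Normal
  cent : ∀ a : X, (∀ v ∈ V, Commute a v) → a ∈ V
  core : ∀ K : Subgroup X, K.Normal → IsPGroup 3 K → K ≤ V
  rat : Rat X
  solvable : Group.IsSolvable X
  ρ : X →* Module.End (ZMod 3) M
  j : M → X
  j_mem : ∀ m, j m ∈ V
  j_inj : Function.Injective j
  j_surj : ∀ v ∈ V, ∃ m, j m = v
  j_add : ∀ m n, j (m + n) = j m * j n
  j_conj : ∀ a m, j (ρ a m) = a * j m * a⁻¹

variable {V : Subgroup X} {M : Type*} [AddCommGroup M] [Module (ZMod 3) M] (R : Rep V M)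

theorem Rep.finite_M (R : Rep V M) : Finite M := Finite.of_injective R.j R.j_inj

theorem Rep.card_eq (R : Rep V M) : Nat.card V = Nat.card M :=
  (Nat.card_eq_of_bijective (fun m => (⟨R.j m, R.j_mem m⟩ : V))
    ⟨fun _ _ h => R.j_inj (congrArg Subtype.val h), fun ⟨v, hv⟩ => by
      obtain ⟨m, rfl⟩ := R.j_surj v hv; exact ⟨m, rfl⟩⟩).symm

theorem Rep.j_zero : R.j 0 = 1 := by
  have h := R.j_add 0 0
  rw [add_zero] at h
  exact right_eq_mul.1 h

theorem Rep.commute_of_fix {a : X} {m : M} (h : R.ρ a m = m) : Commute a (R.j m) := by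
  have h' := R.j_conj a m
  rw [h] at h'
  exact (mul_inv_eq_iff_eq_mul.1 h'.symm)

theorem Rep.rho_of_mem {a : X} (ha : a ∈ V) : R.ρ a = 1 := by
  refine LinearMap.ext fun m => R.j_inj ?_
  rw [R.j_conj, Module.End.one_apply]
  obtain ⟨n, rfl⟩ := R.j_surj a ha
  rw [← R.j_add, add_comm, R.j_add, mul_inv_cancel_right]

theorem Rep.mem_of_rho {a : X} (ha : R.ρ a = 1) : a ∈ V := by
  refine R.cent a fun v hv => ?_
  obtain ⟨m, rfl⟩ := R.j_surj v hv
  exact R.commute_of_fix (by rw [ha, Module.End.one_apply])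

theorem Rep.isPGroup (R : Rep V M) : IsPGroup 3 V := by
  rintro ⟨v, hv⟩
  obtain ⟨m, rfl⟩ := R.j_surj v hv
  refine ⟨1, Subtype.ext ?_⟩
  rw [pow_one, SubgroupClass.coe_pow, OneMemClass.coe_one]
  show R.j m ^ 3 = 1
  rw [pow_three, ← R.j_add, ← R.j_add,
    show m + (m + m) = (3 : ZMod 3) • m by
      rw [show (3 : ZMod 3) = 1 + (1 + 1) by rfl, add_smul, add_smul, one_smul],
    show (3 : ZMod 3) = 0 by decide, zero_smul, R.j_zero]

/-- A subgroup of the quotient which is normal and a three-group is trivial. -/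
theorem Rep.eq_bot_of_isPGroup (R : Rep V M) [V.Normal] {K : Subgroup (X ⧸ V)} [K.Normal]
    (hK : IsPGroup 3 K) : K = ⊥ := by
  have h : K.comap (QuotientGroup.mk' V) ≤ V := by
    refine R.core _ inferInstance (hK.comap_of_ker_isPGroup _ ?_)
    rw [QuotientGroup.ker_mk']
    exact R.isPGroup
  rw [eq_bot_iff]
  intro q hq
  obtain ⟨a, rfl⟩ := QuotientGroup.mk'_surjective V q
  exact mem_bot.2 ((QuotientGroup.eq_one_iff a).2 (h hq))

theorem Rep.rho_cancel (a : X) (m : M) : R.ρ a⁻¹ (R.ρ a m) = m := by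
  rw [← Module.End.mul_apply, ← map_mul, inv_mul_cancel, map_one, Module.End.one_apply]

theorem Rep.rho_cancel' (a : X) (m : M) : R.ρ a (R.ρ a⁻¹ m) = m := by
  rw [← Module.End.mul_apply, ← map_mul, mul_inv_cancel, map_one, Module.End.one_apply]

/-- An endomorphism of period three fixes a nonzero vector of an invariant set of size divisible
by three. -/
theorem exists_fixed_nonzero [Finite M] (T : Module.End (ZMod 3) M) (hT : T * (T * T) = 1)
    (W : Submodule (ZMod 3) M) (hW : ∀ m ∈ W, T m ∈ W) (h3 : 3 ∣ Nat.card W) :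
    ∃ m ∈ W, m ≠ 0 ∧ T m = m := by
  classical
  haveI : Fintype M := Fintype.ofFinite M
  haveI : Fact (Nat.Prime 3) := ⟨Nat.prime_three⟩
  have happ : ∀ m, T (T (T m)) = m := fun m => congrArg (fun S : Module.End (ZMod 3) M => S m) hT
  let σ : Equiv.Perm W :=
    { toFun := fun m => ⟨T m, hW m m.2⟩
      invFun := fun m => ⟨T (T m), hW _ (hW m m.2)⟩
      left_inv := fun m => Subtype.ext (happ m)
      right_inv := fun m => Subtype.ext (happ m) }
  obtain ⟨b, hb, hb0⟩ := Equiv.Perm.exists_fixed_point_of_prime' (p := 3) (n := 1)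
    (by rwa [← Nat.card_eq_fintype_card]) (σ := σ)
    (Equiv.ext fun m => Subtype.ext (by rw [pow_one, pow_three]; exact happ m))
    (a := (0 : W)) (Subtype.ext (map_zero T))
  exact ⟨b, b.2, fun h => hb0 (Subtype.ext h), congrArg Subtype.val hb⟩

end CfsgLib.DistinctClass
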