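import Cfsg.Agent.DistinctClass.Pool

/-!
# Bounds on the number of elements with prescribed centraliser orders
-/

set_option autoImplicit false
set_option linter.style.haveILetI false

namespace CfsgLib.DistinctClass

open Subgroup Finset

variable {G : Type*} [Group G]

/-- `c` bounds `∑ r ^ a` over finite sets of exponents satisfying `P`. -/
def SumBound (r : ℚ) (P : ℕ → Prop) (c : ℚ) : Prop :=
  0 ≤ c ∧ ∀ A : Finset ℕ, (∀ a ∈ A, P a) → ∑ a ∈ A, r ^ a ≤ c

theorem sumBound_two_all : SumBound (1 / 2) (fun _ => True) 2 :=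
  ⟨by norm_num, fun A _ => (sum_inv_pow_le (by norm_num) (by norm_num) (e := 0) A
    fun a _ => Nat.zero_le a).trans (by norm_num)⟩

theorem sumBound_two_pos : SumBound (1 / 2) (fun a => 1 ≤ a) 1 :=
  ⟨by norm_num, fun A hA => (sum_inv_pow_le (by norm_num) (by norm_num) (e := 1) A hA).trans
    (by norm_num)⟩

theorem sumBound_three_all : SumBound (1 / 3) (fun _ => True) (3 / 2) :=
  ⟨by norm_num, fun A _ => (sum_inv_pow_le (by norm_num) (by norm_num) (e := 0) A
    fun a _ => Nat.zero_le a).trans (by norm_num)⟩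

theorem sumBound_of_subset {r : ℚ} (hr : 0 ≤ r) {P : ℕ → Prop} {c : ℚ} (B : Finset ℕ)
    (hP : ∀ a, P a → a ∈ B) (hc : ∑ a ∈ B, r ^ a ≤ c) : SumBound r P c :=
  ⟨le_trans (sum_nonneg fun a _ => pow_nonneg hr a) hc, fun A hA =>
    (sum_le_sum_of_subset_of_nonneg (fun a ha => hP a (hA a ha)) fun a _ _ => pow_nonneg hr a).trans
      hc⟩

theorem adm_cz [Finite G] (hsol : Group.IsSolvable G) (hR : Rat G) (x : G) : Adm (cz x) := by
  intro p hp h5 hpx
  haveI := Fact.mk hp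
  exact pow_dvd_cz h5 hsol hR hpx

theorem adm_of_lt_five {n : ℕ} (h0 : n ≠ 0) (hn : n < 5) : Adm n := fun p _ h5 hpn =>
  absurd (Nat.le_of_dvd (Nat.pos_of_ne_zero h0) hpn) (by omega)

theorem adm_six : Adm 6 := by
  intro p hp h5 hpn
  have := Nat.le_of_dvd (by norm_num) hpn
  interval_cases p <;> norm_num at *

theorem adm_nine : Adm 9 := by
  intro p hp h5 hpn
  have := (Nat.prime_dvd_prime_iff_eq hp Nat.prime_three).1
    (hp.dvd_of_dvd_pow (show p ∣ 3 ^ 2 by norm_num; exact hpn))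
  omega

theorem adm_twentyFive : Adm 25 := by
  intro p hp h5 hpn
  have := (Nat.prime_dvd_prime_iff_eq hp Nat.prime_five).1
    (hp.dvd_of_dvd_pow (show p ∣ 5 ^ 2 by norm_num; exact hpn))
  subst this
  norm_num [eExp]

/-- An element of even order has even centraliser order. -/
theorem two_dvd_cz [Finite G] {x : G} (h : 2 ∣ orderOf x) : 2 ∣ cz x :=
  h.trans ((centralizer ({x} : Set G)).orderOf_dvd_natCard (mem_centralizer_single.2 (Commute.refl x)))

theorem orderOf_dvd_cz [Finite G] (x : G) : orderOf x ∣ cz x :=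
  (centralizer ({x} : Set G)).orderOf_dvd_natCard (mem_centralizer_single.2 (Commute.refl x))

theorem one_le_factorization_two [Finite G] {x : G} (h : 2 ∣ orderOf x) :
    1 ≤ (cz x).factorization 2 :=
  (Nat.prime_two.pow_dvd_iff_le_factorization (cz_pos x).ne').1 (by rw [pow_one]; exact two_dvd_cz h)

/-- Outside a normal subgroup with quotient a `2`-group all elements have even order. -/
theorem two_dvd_orderOf [Finite G] {K : Subgroup G} [K.Normal] (hK : IsPGroup 2 (G ⧸ K)) {x : G}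
    (hx : x ∉ K) : 2 ∣ orderOf x := by
  obtain ⟨j, hj⟩ := IsPGroup.iff_orderOf.1 hK (x : G ⧸ K)
  have hj0 : j ≠ 0 := fun h => by
    rw [h, pow_zero, orderOf_eq_one_iff, QuotientGroup.eq_one_iff] at hj
    exact hx hj
  exact (dvd_pow_self 2 hj0).trans (hj ▸ orderOf_map_dvd (QuotientGroup.mk' K) x)

theorem isPGroup_abelianization [Finite G] (hR : Rat G) : IsPGroup 2 (G ⧸ commutator G) := by
  intro x
  obtain ⟨a, rfl⟩ := QuotientGroup.mk_surjective x
  refine ⟨1, ?_⟩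
  rw [pow_one, sq]
  exact hR.hom_sq (Abelianization.of (G := G)) a

/-- The complement of a subgroup. -/
theorem card_compl [Finite G] (K : Subgroup G) :
    (Nat.card {x : G | x ∉ K} : ℚ) = Nat.card G * (1 - 1 / K.index) := by
  classical
  haveI := Fintype.ofFinite G
  have h1 : Nat.card {x : G | x ∉ K} + Nat.card K = Nat.card G := by
    rw [Set.coe_setOf, Nat.card_eq_fintype_card, Nat.card_eq_fintype_card, Nat.card_eq_fintype_card,
      Fintype.card_subtype_compl, Nat.sub_add_cancel (Fintype.card_subtype_le _)]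
  have h2 := K.card_mul_index
  have h3 : (K.index : ℚ) ≠ 0 := by exact_mod_cast K.index_ne_zero_of_finite
  rw [← h1, Nat.cast_add]
  rw [← h1] at h2
  have h4 : (Nat.card K : ℚ) * K.index = Nat.card {x : G | x ∉ K} + Nat.card K := by exact_mod_cast h2
  field_simp
  linarith

/-- **The mass bound.** -/
theorem mass_le [Finite G] (hI : Inj G) (hsol : Group.IsSolvable G) (Y : Set G)
    {P2 P3 : ℕ → Prop} {a b : ℚ} (ha : SumBound (1 / 2) P2 a) (hb : SumBound (1 / 3) P3 b)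
    (Ex : Finset ℕ) (C : ℚ)
    (hY : ∀ y ∈ Y, P2 ((cz y).factorization 2) ∧ P3 ((cz y).factorization 3) ∧ cz y ∉ Ex)
    (hEx : ∀ n ∈ Ex, n ≠ 0 ∧ Adm n ∧ P2 (n.factorization 2) ∧ P3 (n.factorization 3))
    (hC : 1076 / 1000 ≤ C ∨
      (1025 / 1000 ≤ C ∧ (∀ y ∈ Y, ¬ 5 ∣ cz y) ∧ ∀ n ∈ Ex, ¬ 5 ∣ n)) :
    (Nat.card Y : ℚ) ≤ Nat.card G * (a * b * C - ∑ n ∈ Ex, (1 : ℚ) / n) := by
  classical
  haveI := Fintype.ofFinite G
  set F := Y.toFinset.image cz with hF
  have hdis : Disjoint F Ex := Finset.disjoint_left.2 fun n hn => by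
    obtain ⟨y, hy, rfl⟩ := mem_image.1 hn
    exact (hY y (Set.mem_toFinset.1 hy)).2.2
  have hall : ∀ n ∈ F ∪ Ex, n ≠ 0 ∧ Adm n ∧ P2 (n.factorization 2) ∧ P3 (n.factorization 3) := by
    intro n hn
    rcases mem_union.1 hn with hn | hn
    · obtain ⟨y, hy, rfl⟩ := mem_image.1 hn
      obtain ⟨h1, h2, -⟩ := hY y (Set.mem_toFinset.1 hy)
      exact ⟨(cz_pos y).ne', adm_cz hsol (rat_of_inj hI) y, h1, h2⟩
    · exact hEx n hn
  set A := (F ∪ Ex).image fun n : ℕ => n.factorization 2 with hA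
  set B := (F ∪ Ex).image fun n : ℕ => n.factorization 3 with hB
  have h := pool (F ∪ Ex) A B (fun n hn => ⟨(hall n hn).1, mem_image_of_mem _ hn,
    mem_image_of_mem _ hn, (hall n hn).2.1⟩) C (hC.imp id fun h => ⟨h.1, fun n hn => by
      rcases mem_union.1 hn with hn | hn
      · obtain ⟨y, hy, rfl⟩ := mem_image.1 hn
        exact h.2.1 y (Set.mem_toFinset.1 hy)
      · exact h.2.2 n hn⟩)
  have hC0 : 0 ≤ C := by rcases hC with h | ⟨h, -⟩ <;> linarith
  have hA' : ∑ k ∈ A, (1 / 2 : ℚ) ^ k ≤ a := ha.2 A fun k hk => by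
    obtain ⟨n, hn, rfl⟩ := mem_image.1 hk
    exact (hall n hn).2.2.1
  have hB' : ∑ k ∈ B, (1 / 3 : ℚ) ^ k ≤ b := hb.2 B fun k hk => by
    obtain ⟨n, hn, rfl⟩ := mem_image.1 hk
    exact (hall n hn).2.2.2
  rw [sum_union hdis] at h
  refine (hI.mass Y F fun y hy => mem_image_of_mem cz (Set.mem_toFinset.2 hy)).trans ?_
  refine mul_le_mul_of_nonneg_left ?_ (Nat.cast_nonneg _)
  have : (∑ k ∈ A, (1 / 2 : ℚ) ^ k) * (∑ k ∈ B, (1 / 3 : ℚ) ^ k) * C ≤ a * b * C :=
    mul_le_mul_of_nonneg_right (mul_le_mul hA' hB' (sum_nonneg fun k _ => by positivity) ha.1) hC0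
  linarith

/-- The mass bound for the complement of a subgroup. -/
theorem compl_le [Finite G] (hI : Inj G) (hsol : Group.IsSolvable G) (K : Subgroup G)
    {P2 P3 : ℕ → Prop} {a b : ℚ} (ha : SumBound (1 / 2) P2 a) (hb : SumBound (1 / 3) P3 b)
    (Ex : Finset ℕ)
    (hY : ∀ y : G, y ∉ K →
      P2 ((cz y).factorization 2) ∧ P3 ((cz y).factorization 3) ∧ cz y ∉ Ex)
    (hEx : ∀ n ∈ Ex, n ≠ 0 ∧ Adm n ∧ P2 (n.factorization 2) ∧ P3 (n.factorization 3)) :
    1 - 1 / (K.index : ℚ) ≤ a * b * (1076 / 1000) - ∑ n ∈ Ex, (1 : ℚ) / n := by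
  have h := mass_le hI hsol {x : G | x ∉ K} ha hb Ex (1076 / 1000) hY hEx (Or.inl le_rfl)
  rw [card_compl] at h
  exact le_of_mul_le_mul_left h (by exact_mod_cast Nat.card_pos)

end CfsgLib.DistinctClass
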