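import Mathlib

/-!
# Rational pairs of commuting operators over a prime field

If commuting operators `A`, `B` of order prime to `p` on a finite vector space over `ZMod p` have
traces invariant under `(A, B) ↦ (A ^ k, B ^ k)`, and some fixed vector of `B` is an eigenvector
of `A` for a primitive `(p - 1)`-st root `μ`, then `B` fixes a space of dimension `≥ φ(p - 1)`.
-/

set_option autoImplicit false
set_option linter.style.haveILetI false

namespace CfsgLib.DistinctClass

open Module Finset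

variable {p : ℕ} [Fact p.Prime] {V : Type*} [AddCommGroup V] [Module (ZMod p) V] [Finite V]

/-- The joint projection onto the `μ`-eigenvectors of `A` fixed by `B`. -/
noncomputable def jointProj (N : ℕ) (A B : End (ZMod p) V) (μ : ZMod p) : End (ZMod p) V :=
  ((N : ZMod p)⁻¹ • ∑ i ∈ range N, (μ⁻¹) ^ i • A ^ i) * ((N : ZMod p)⁻¹ • ∑ j ∈ range N, B ^ j)

theorem smul_sum_pow_mul {N : ℕ} {T : End (ZMod p) V} (hT : T ^ N = 1) :
    T * ((N : ZMod p)⁻¹ • ∑ i ∈ range N, T ^ i) = (N : ZMod p)⁻¹ • ∑ i ∈ range N, T ^ i := by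
  rw [mul_smul_comm, Finset.mul_sum]
  congr 1
  simp only [← pow_succ']
  rcases N with _ | n
  · simp
  · rw [Finset.sum_range_succ, Finset.sum_range_succ' (fun i => T ^ i), hT, pow_zero]

/-- The projection fixes joint eigenvectors and maps onto them. -/
theorem jointProj_spec {N : ℕ} (hN : ¬ p ∣ N) {A B : End (ZMod p) V} (hA : A ^ N = 1)
    (hB : B ^ N = 1) (hAB : Commute A B) {μ : ZMod p} (hμ : μ ^ N = 1) (hμ0 : μ ≠ 0) :
    LinearMap.IsProj (LinearMap.ker (A - μ • 1) ⊓ LinearMap.ker (B - 1))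
      (jointProj N A B μ) := by
  have hN0 : (N : ZMod p) ≠ 0 := by rwa [Ne, ZMod.natCast_eq_zero_iff]
  set T := μ⁻¹ • A with hTdef
  have hT : T ^ N = 1 := by rw [hTdef, smul_pow, hA, inv_pow, hμ, inv_one, one_smul]
  have hP : jointProj N A B μ = ((N : ZMod p)⁻¹ • ∑ i ∈ range N, T ^ i) *
      ((N : ZMod p)⁻¹ • ∑ j ∈ range N, B ^ j) := by
    unfold jointProj
    simp only [hTdef, smul_pow]
  have hTB : Commute B ((N : ZMod p)⁻¹ • ∑ i ∈ range N, T ^ i) :=
    (Commute.sum_right _ _ _ fun i _ => ((hAB.symm.smul_right _).pow_right i)).smul_right _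
  refine ⟨fun v => ⟨?_, ?_⟩, fun v hv => ?_⟩
  · have h := LinearMap.congr_fun (congrArg (fun X => X *
      ((N : ZMod p)⁻¹ • ∑ j ∈ range N, B ^ j)) (smul_sum_pow_mul hT)) v
    simp only [mul_assoc, ← hP] at h
    rw [SetLike.mem_coe, LinearMap.mem_ker, LinearMap.sub_apply, sub_eq_zero, LinearMap.smul_apply,
      End.one_apply]
    have h' : μ⁻¹ • A (jointProj N A B μ v) = jointProj N A B μ v := by
      simpa [hTdef] using h
    conv_rhs => rw [← h']
    rw [smul_smul, mul_inv_cancel₀ hμ0, one_smul]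
  · have h := LinearMap.congr_fun (congrArg (fun X => ((N : ZMod p)⁻¹ • ∑ i ∈ range N, T ^ i) * X)
      (smul_sum_pow_mul hB)) v
    simp only [← mul_assoc, ← hTB.eq] at h
    rw [mul_assoc, ← hP] at h
    rw [SetLike.mem_coe, LinearMap.mem_ker, LinearMap.sub_apply, sub_eq_zero, End.one_apply]
    simpa using h
  · obtain ⟨h1, h2⟩ := hv
    rw [SetLike.mem_coe, LinearMap.mem_ker, LinearMap.sub_apply, sub_eq_zero] at h1 h2
    simp only [LinearMap.smul_apply, End.one_apply] at h1 h2
    have hb : ∀ j : ℕ, (B ^ j) v = v := fun j => by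
      induction j with
      | zero => rfl
      | succ j ih => rw [pow_succ, Module.End.mul_apply, h2, ih]
    have ht : ∀ i : ℕ, (T ^ i) v = v := fun i => by
      induction i with
      | zero => rfl
      | succ i ih =>
        rw [pow_succ, Module.End.mul_apply, hTdef, LinearMap.smul_apply, h1, smul_smul,
          inv_mul_cancel₀ hμ0, one_smul, ← hTdef, ih]
    have hs : ∀ X : ℕ → End (ZMod p) V, (∀ i, X i v = v) →
        ((N : ZMod p)⁻¹ • ∑ i ∈ range N, X i) v = v := fun X hX => by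
      rw [LinearMap.smul_apply, LinearMap.sum_apply, Finset.sum_congr rfl fun i _ => hX i,
        Finset.sum_const, card_range, ← Nat.cast_smul_eq_nsmul (ZMod p), smul_smul,
        inv_mul_cancel₀ hN0, one_smul]
    rw [hP, Module.End.mul_apply, hs _ hb, hs _ ht]

theorem trace_jointProj {N : ℕ} [NeZero N] (A B : End (ZMod p) V) (μ : ZMod p) :
    LinearMap.trace (ZMod p) V (jointProj N A B μ) = (N : ZMod p)⁻¹ * (N : ZMod p)⁻¹ *
      ∑ i : ZMod N, ∑ j : ZMod N, μ⁻¹ ^ i.val *
        LinearMap.trace (ZMod p) V (A ^ i.val * B ^ j.val) := by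
  have hre : ∀ f : ℕ → End (ZMod p) V, ∑ i ∈ range N, f i = ∑ i : ZMod N, f i.val := fun f =>
    Finset.sum_bij' (fun i _ => (i : ZMod N)) (fun i _ => i.val) (fun i _ => mem_univ _)
      (fun i _ => mem_range.2 i.val_lt) (fun i hi => ZMod.val_cast_of_lt (mem_range.1 hi))
      (fun i _ => ZMod.natCast_rightInverse i)
      (fun i hi => by rw [ZMod.val_cast_of_lt (mem_range.1 hi)])
  unfold jointProj
  rw [hre, hre, smul_mul_assoc, mul_smul_comm, smul_smul, map_smul, smul_eq_mul, Finset.sum_mul,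
    map_sum]
  congr 1
  refine Finset.sum_congr rfl fun i _ => ?_
  rw [Finset.mul_sum, map_sum]
  refine Finset.sum_congr rfl fun j _ => ?_
  rw [smul_mul_assoc, map_smul, smul_eq_mul]

theorem pow_eq_pow_iff_of_ne_zero {μ : ZMod p} (h : μ ≠ 0) {a b : ℕ} :
    μ ^ a = μ ^ b ↔ a ≡ b [MOD orderOf μ] := by
  rw [← Units.val_mk0 h, ← Units.val_pow_eq_pow_val, ← Units.val_pow_eq_pow_val, Units.val_inj,
    orderOf_units, pow_eq_pow_iff_modEq]

/-- **Galois invariance of the eigenvalues on the fixed space.** -/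
theorem totient_le_finrank {A B : End (ZMod p) V} {N : ℕ} (hN : ¬ p ∣ N) (hA : A ^ N = 1)
    (hB : B ^ N = 1) (hAB : Commute A B)
    (hgal : ∀ i j k : ℕ, k.Coprime N → LinearMap.trace (ZMod p) V (A ^ (i * k) * B ^ (j * k)) =
      LinearMap.trace (ZMod p) V (A ^ i * B ^ j))
    {w : V} (hw : w ≠ 0) (hBw : B w = w) {μ : ZMod p} (hμo : orderOf μ = p - 1)
    (hAw : A w = μ • w) :
    p ≤ finrank (ZMod p) (LinearMap.ker (B - 1)) ∨
      (p - 1).totient ≤ finrank (ZMod p) (LinearMap.ker (B - 1)) := by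
  classical
  haveI : NeZero N := ⟨fun h => hN (h ▸ dvd_zero p)⟩
  have hp1 : 0 < p - 1 := by have := (Fact.out : p.Prime).two_le; omega
  have hμ0 : μ ≠ 0 := fun h => by
    rw [h, orderOf_zero] at hμo
    omega
  have hμN : μ ^ N = 1 := by
    have h1 : ∀ n : ℕ, (A ^ n) w = μ ^ n • w := fun n => by
      induction n with
      | zero => simp
      | succ n ih => rw [pow_succ, Module.End.mul_apply, hAw, map_smul, ih, smul_smul,
          mul_comm, pow_succ]
    have h2 := h1 N
    rw [hA, End.one_apply] at h2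
    by_contra h
    exact hw (smul_eq_zero_iff_right (sub_ne_zero.2 h) |>.1
      (by rw [sub_smul, one_smul, ← h2, sub_self]))
  have hdvd : p - 1 ∣ N := hμo ▸ orderOf_dvd_of_pow_eq_one hμN
  set E : ZMod p → Submodule (ZMod p) V := fun ν =>
    LinearMap.ker (A - ν • 1) ⊓ LinearMap.ker (B - 1) with hE
  have htr : ∀ ν : ZMod p, ν ^ N = 1 → ν ≠ 0 →
      LinearMap.trace (ZMod p) V (jointProj N A B ν) = (finrank (ZMod p) (E ν) : ZMod p) :=
    fun ν h h0 => LinearMap.IsProj.trace (jointProj_spec hN hA hB hAB h h0)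
  by_cases hbig : p ≤ finrank (ZMod p) (E μ)
  · exact Or.inl (hbig.trans (Submodule.finrank_mono inf_le_right))
  right
  have hEμ : E μ ≠ ⊥ := fun h => hw (by
    have : w ∈ E μ := ⟨by simp [LinearMap.mem_ker, hAw], by simp [LinearMap.mem_ker, hBw]⟩
    rwa [h, Submodule.mem_bot] at this)
  have hne : (finrank (ZMod p) (E μ) : ZMod p) ≠ 0 := by
    rw [Ne, ZMod.natCast_eq_zero_iff]
    intro hd
    rcases Nat.eq_zero_or_pos (finrank (ZMod p) (E μ)) with h0 | h0
    · exact hEμ (Submodule.finrank_eq_zero.1 h0)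
    · exact hbig (Nat.le_of_dvd h0 hd)
  -- every conjugate of `μ` is an eigenvalue on the fixed space
  have hall : ∀ l : ℕ, l.Coprime (p - 1) → E (μ ^ l) ≠ ⊥ := by
    intro l hl hbot
    haveI : NeZero (p - 1) := ⟨hp1.ne'⟩
    obtain ⟨u, hu⟩ := ZMod.unitsMap_surjective hdvd (ZMod.unitOfCoprime l hl)
    set k := (u : ZMod N).val with hk
    have hkN : k.Coprime N := ZMod.val_coe_unit_coprime u
    have hkl : μ ^ k = μ ^ l := by
      have h1 := congrArg Units.val hu
      rw [ZMod.unitsMap_val, ZMod.coe_unitOfCoprime, ← ZMod.natCast_val] at h1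
      rw [pow_eq_pow_iff_of_ne_zero hμ0, hμo]
      exact (ZMod.natCast_eq_natCast_iff _ _ _).1 h1
    have h1 := htr (μ ^ k) (by rw [← pow_mul, mul_comm, pow_mul, hμN, one_pow]) (pow_ne_zero _ hμ0)
    rw [hkl, show finrank (ZMod p) (E (μ ^ l)) = 0 by rw [hbot, finrank_bot], Nat.cast_zero,
      trace_jointProj] at h1
    have h2 := htr μ hμN hμ0
    rw [trace_jointProj] at h2
    refine hne ?_
    rw [← h2, ← h1]
    congr 1
    have hmod : ∀ (X : End (ZMod p) V), X ^ N = 1 → ∀ a : ℕ, X ^ a = X ^ (a % N) := fun X hX a =>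
      pow_eq_pow_mod a hX
    have hμmod : ∀ a : ℕ, μ⁻¹ ^ a = μ⁻¹ ^ (a % N) := fun a =>
      pow_eq_pow_mod a (by rw [inv_pow, hμN, inv_one])
    have hku : ((k : ℕ) : ZMod N) = (u : ZMod N) := ZMod.natCast_rightInverse _
    set T : ZMod N → ZMod N → ZMod p := fun i j =>
      LinearMap.trace (ZMod p) V (A ^ i.val * B ^ j.val) with hT
    have hTu : ∀ i j : ZMod N, T (i * u) (j * u) = T i j := fun i j => by
      simp only [hT]
      rw [← hgal i.val j.val k hkN, hmod A hA (i.val * k), hmod B hB (j.val * k)]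
      simp only [ZMod.val_mul, hk]
    -- substitute `i ↦ u * i` and `j ↦ u * j`
    calc ∑ i : ZMod N, ∑ j : ZMod N, μ⁻¹ ^ i.val * T i j
        = ∑ i : ZMod N, ∑ j : ZMod N, μ⁻¹ ^ (i * u : ZMod N).val * T (i * u) (j * u) :=
          (Fintype.sum_equiv (Units.mulRight u) _ _ fun i =>
            Fintype.sum_equiv (Units.mulRight u)
              (fun j : ZMod N => μ⁻¹ ^ (i * u : ZMod N).val * T (i * u) (j * u))
              (fun j : ZMod N => μ⁻¹ ^ (i * u : ZMod N).val * T (i * u) j) fun j => rfl).symm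
      _ = ∑ i : ZMod N, ∑ j : ZMod N, (μ ^ k)⁻¹ ^ i.val * T i j := by
          refine Finset.sum_congr rfl fun i _ => Finset.sum_congr rfl fun j _ => ?_
          rw [hTu, ← inv_pow, ← pow_mul, hμmod (k * i.val), ZMod.val_mul, hk, mul_comm i.val]
      _ = _ := by rw [hkl]
  -- eigenvectors for distinct conjugates are independent
  let ι := {l : ℕ // l ∈ range (p - 1) ∧ (p - 1).Coprime l}
  haveI : Fintype ι := Fintype.ofFinset ((range (p - 1)).filter fun l => (p - 1).Coprime l)
    fun l => by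
      rw [Finset.mem_filter]
      rfl
  have hex : ∀ l : ι, ∃ v : V, v ∈ E (μ ^ l.1) ∧ v ≠ 0 := fun l =>
    Submodule.exists_mem_ne_zero_of_ne_bot (hall l.1 l.2.2.symm)
  choose v hv hv0 using hex
  have hinj : Function.Injective fun l : ι => μ ^ l.1 := by
    intro a b hab
    refine Subtype.ext ?_
    have h1 : μ ^ a.1 = μ ^ b.1 := hab
    rw [pow_eq_pow_iff_of_ne_zero hμ0, hμo] at h1
    exact h1.eq_of_lt_of_lt (mem_range.1 a.2.1) (mem_range.1 b.2.1)
  have hli := Module.End.eigenvectors_linearIndependent' A _ hinj v fun l => by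
    have h1 := (hv l).1
    rw [SetLike.mem_coe, LinearMap.mem_ker, LinearMap.sub_apply, sub_eq_zero, LinearMap.smul_apply,
      End.one_apply] at h1
    exact ⟨End.mem_eigenspace_iff.2 h1, hv0 l⟩
  have hli' : LinearIndependent (ZMod p) fun l : ι => (⟨v l, (hv l).2⟩ : LinearMap.ker (B - 1)) :=
    LinearIndependent.of_comp (LinearMap.ker (B - 1)).subtype hli
  have hcard : Fintype.card ι = (p - 1).totient := by
    rw [Nat.totient_eq_card_coprime]
    exact Fintype.card_of_subtype _ fun l => by rw [Finset.mem_filter]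
  rw [← hcard]
  exact hli'.fintype_card_le_finrank

/-- An even number at least ten has at least four prime residues. -/
theorem four_le_totient {n : ℕ} (hn : 10 ≤ n) (he : Even n) : 4 ≤ n.totient := by
  rw [Nat.totient_eq_card_coprime]
  obtain ⟨m, rfl⟩ := he
  -- a residue near one half
  obtain ⟨k, hk1, hk2, hk⟩ : ∃ k, 1 < k ∧ k < m ∧ (m + m).Coprime k := by
    rcases Nat.even_or_odd m with hm | hm
    · refine ⟨m - 1, by omega, by omega, ?_⟩
      refine Nat.coprime_of_dvd' fun q hq h1 h2 => ?_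
      have h3 : q ∣ (m + m) - 2 * (m - 1) := Nat.dvd_sub h1 (h2.trans (dvd_mul_left _ 2))
      rw [show (m + m) - 2 * (m - 1) = 2 by omega] at h3
      have hq2 : q = 2 := (Nat.prime_dvd_prime_iff_eq hq Nat.prime_two).1 h3
      subst hq2
      obtain ⟨c, rfl⟩ := hm
      omega
    · refine ⟨m - 2, by omega, by omega, ?_⟩
      refine Nat.coprime_of_dvd' fun q hq h1 h2 => ?_
      have h3 : q ∣ (m + m) - 2 * (m - 2) := Nat.dvd_sub h1 (h2.trans (dvd_mul_left _ 2))
      rw [show (m + m) - 2 * (m - 2) = 2 ^ 2 by omega] at h3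
      have hq2 : q = 2 := (Nat.prime_dvd_prime_iff_eq hq Nat.prime_two).1 (hq.dvd_of_dvd_pow h3)
      subst hq2
      obtain ⟨c, rfl⟩ := hm
      omega
  have hk' : (m + m).Coprime (m + m - k) :=
    ((Nat.coprime_self_sub_right (by omega)).2 hk)
  have h1 : (m + m).Coprime (m + m - 1) :=
    ((Nat.coprime_self_sub_right (by omega)).2 (Nat.coprime_one_right _))
  refine le_trans ?_ (Finset.card_le_card (s := ({1, k, m + m - k, m + m - 1} : Finset ℕ)) ?_)
  · rw [Finset.card_insert_of_notMem, Finset.card_insert_of_notMem, Finset.card_pair]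
    · omega
    · simp only [Finset.mem_insert, Finset.mem_singleton]; omega
    · simp only [Finset.mem_insert, Finset.mem_singleton]; omega
  · intro x hx
    simp only [Finset.mem_insert, Finset.mem_singleton] at hx
    rw [Finset.mem_filter, Finset.mem_range]
    rcases hx with rfl | rfl | rfl | rfl
    · exact ⟨by omega, Nat.coprime_one_right _⟩
    · exact ⟨by omega, hk⟩
    · exact ⟨by omega, hk'⟩
    · exact ⟨by omega, h1⟩

end CfsgLib.DistinctClass
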