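import Cfsg.Agent.DistinctClass.FiveNormal
import Cfsg.Agent.DistinctClass.Rational
import Cfsg.Agent.Coprime.Action
import Cfsg.Agent.Solvable.Frattini

/-!
# The prime-power part of centraliser orders in solvable rational groups

For `p ≥ 5` dividing the order of `C(x)`, the `p`-part of `|C(x)|` is at least `p ^ φ(p - 1)`
(or `p ^ p`), in particular at least `p ^ 2`, and `p ^ 4` for `p ≥ 11`.
-/

set_option autoImplicit false
set_option linter.style.haveILetI false

namespace CfsgLib.DistinctClass

open Subgroup Module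
open scoped commutatorElement

/-- The least exponent of `p` in a centraliser order. -/
def eExp (p : ℕ) : ℕ := if p ≤ 7 then 2 else 4

theorem eExp_le {p : ℕ} (hp : p.Prime) (h5 : 5 ≤ p) : eExp p ≤ p ∧ eExp p ≤ (p - 1).totient := by
  unfold eExp
  split_ifs with h
  · refine ⟨by omega, ?_⟩
    interval_cases p
    · decide
    · exact absurd hp (by decide)
    · decide
  · refine ⟨by omega, four_le_totient ?_ ?_⟩
    · rcases (show p = 8 ∨ p = 9 ∨ p = 10 ∨ 11 ≤ p by omega) with rfl | rfl | rfl | h11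
      · exact absurd hp (by decide)
      · exact absurd hp (by decide)
      · exact absurd hp (by decide)
      · omega
    · exact hp.even_sub_one (by omega)

variable {G : Type*} [Group G] [Finite G]

theorem mem_sylow_of_normal {p : ℕ} [Fact p.Prime] (P : Sylow p G) (hP : (P : Subgroup G).Normal)
    {y : G} {j : ℕ} (hy : y ^ p ^ j = 1) : y ∈ (P : Subgroup G) := by
  have hY : IsPGroup p (zpowers y) := by
    rintro ⟨_, z, rfl⟩
    refine ⟨j, Subtype.ext ?_⟩
    show (y ^ z) ^ p ^ j = 1
    rw [← zpow_natCast, ← zpow_mul, mul_comm, zpow_mul, zpow_natCast, hy, one_zpow]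
  obtain ⟨Q, hQ⟩ := hY.exists_le_sylow
  haveI : Unique (Sylow p G) := P.unique_of_normal hP
  rw [Subsingleton.elim P Q]
  exact hQ (mem_zpowers y)

/-- An action by automorphisms on a group of exponent `p`, as linear maps. -/
def actEnd {p : ℕ} {H W : Type*} [Group H] [CommGroup W] [Module (ZMod p) (Additive W)]
    (c : H →* MulAut W) : H →* Module.End (ZMod p) (Additive W) where
  toFun g := (MonoidHom.toAdditive (c g).toMonoidHom).toZModLinearMap p
  map_one' := by
    refine LinearMap.ext fun u => ?_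
    show Additive.ofMul (c 1 (Additive.toMul u)) = u
    rw [map_one]
    rfl
  map_mul' g h := by
    refine LinearMap.ext fun u => ?_
    show Additive.ofMul (c (g * h) (Additive.toMul u)) = _
    rw [map_mul]
    rfl

/-- Rationality bounds below the fixed points of a `p'`-element on an elementary abelian section. -/
theorem card_fixed_ge {p : ℕ} [Fact p.Prime] {G W : Type*} [Group G] [Finite G] [CommGroup W]
    [Finite W] (hp : 5 ≤ p) (hexp : ∀ u : W, u ^ p = 1) (hR : Rat G) (c : G →* MulAut W) {g s : G}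
    (hgs : Commute g s) {N : ℕ} (hN : ¬ p ∣ N) (hgN : g ^ N = 1) (hsN : s ^ N = 1) {w : W}
    (hw : w ≠ 1) (hsw : c s w = w) {l : ℕ} (hl : orderOf (l : ZMod p) = p - 1)
    (hgw : c g w = w ^ l) : p ^ eExp p ≤ Nat.card {u : W // c s u = u} := by
  have hexp' : ∀ u : Additive W, p • u = 0 := fun u => by
    show Additive.ofMul ((Additive.toMul u) ^ p) = 0
    rw [hexp]
    rfl
  letI : Module (ZMod p) (Additive W) := AddCommGroup.zmodModule (n := p) (G := Additive W) hexp'
  let ρ : G →* Module.End (ZMod p) (Additive W) := actEnd c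
  have hρ : ∀ (g : G) (u : W), ρ g (Additive.ofMul u) = Additive.ofMul (c g u) := fun g u => rfl
  have hw0 : Additive.ofMul w ≠ 0 := fun h => hw (congrArg Additive.toMul h)
  have hBw : ρ s (Additive.ofMul w) = Additive.ofMul w := by rw [hρ, hsw]
  have hAw : ρ g (Additive.ofMul w) = (l : ZMod p) • Additive.ofMul w := by
    rw [hρ, hgw, Nat.cast_smul_eq_nsmul, ofMul_pow]
  have hfin := totient_le_finrank (A := ρ g) (B := ρ s) hN (by rw [← map_pow, hgN, map_one])
    (by rw [← map_pow, hsN, map_one]) (hgs.map ρ) (fun i j k hk => by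
      simp only [← map_pow, ← map_mul]
      have hy : orderOf (g ^ i * s ^ j) ∣ N := orderOf_dvd_of_pow_eq_one (by
        rw [(hgs.pow_pow i j).mul_pow, ← pow_mul, ← pow_mul, mul_comm i, mul_comm j, pow_mul,
          pow_mul, hgN, hsN, one_pow, one_pow, one_mul])
      obtain ⟨y, hy'⟩ := hR.exists_conj (hk.coprime_dvd_right hy)
      rw [pow_mul, pow_mul, ← (hgs.pow_pow i j).mul_pow, ← hy', map_mul ρ, map_mul ρ,
        LinearMap.trace_mul_comm, ← mul_assoc, ← map_mul ρ, inv_mul_cancel, map_one, one_mul])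
    hw0 hBw hl hAw
  obtain ⟨h1, h2⟩ := eExp_le (Fact.out : p.Prime) hp
  have hfr : eExp p ≤ finrank (ZMod p) (LinearMap.ker (ρ s - 1)) := by
    rcases hfin with h | h
    · exact h1.trans h
    · exact h2.trans h
  refine (Nat.pow_le_pow_right (Fact.out : p.Prime).pos hfr).trans (le_of_eq ?_)
  have hcard := Module.natCard_eq_pow_finrank (K := ZMod p) (V := LinearMap.ker (ρ s - 1))
  rw [Nat.card_zmod] at hcard
  rw [← hcard]
  refine Nat.card_congr (Additive.toMul.subtypeEquiv fun u => ?_)
  rw [LinearMap.mem_ker, LinearMap.sub_apply, sub_eq_zero, Module.End.one_apply]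
  conv_lhs => rw [show u = Additive.ofMul (Additive.toMul u) from rfl, hρ]
  exact Additive.ofMul.injective.eq_iff

/-- **Main lemma.** -/
theorem pow_dvd_cz {p : ℕ} [Fact p.Prime] (hp : 5 ≤ p) (hsol : Group.IsSolvable G) (hR : Rat G)
    {x : G} (hx : p ∣ cz x) : p ^ eExp p ∣ cz x := by
  classical
  haveI := hsol
  have hpp : p.Prime := Fact.out
  obtain ⟨P⟩ := (inferInstance : Nonempty (Sylow p G))
  have hPn := sylow_normal hp hsol hR P
  -- the decomposition of `x`
  obtain ⟨e, m, hm, hord⟩ := Nat.exists_eq_pow_mul_and_not_dvd (orderOf_pos x).ne' p hpp.ne_one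
  have hcop : m.Coprime (p ^ e) := ((hpp.coprime_iff_not_dvd.2 hm).pow_left e).symm
  obtain ⟨a, ha1, ha2⟩ := Nat.chineseRemainder hcop 1 0
  obtain ⟨b, hb1, hb2⟩ := Nat.chineseRemainder hcop 0 1
  set s := x ^ a with hs
  set v := x ^ b with hv
  have hsv : s * v = x := by
    rw [hs, hv, ← pow_add]
    conv_rhs => rw [← pow_one x]
    rw [pow_eq_pow_iff_modEq, hord]
    refine (Nat.modEq_and_modEq_iff_modEq_mul hcop.symm).1 ⟨?_, ?_⟩
    · simpa using ha2.add hb2
    · simpa using ha1.add hb1
  have hsm : s ^ m = 1 := by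
    rw [hs, ← pow_mul, ← orderOf_dvd_iff_pow_eq_one, hord]
    exact Nat.mul_dvd_mul (Nat.modEq_zero_iff_dvd.1 ha2) dvd_rfl
  have hvp : v ^ p ^ e = 1 := by
    rw [hv, ← pow_mul, ← orderOf_dvd_iff_pow_eq_one, hord, mul_comm b]
    exact Nat.mul_dvd_mul dvd_rfl (Nat.modEq_zero_iff_dvd.1 hb1)
  have hsv' : Commute s v := Commute.pow_pow_self x a b
  have hso : ¬ p ∣ orderOf s := fun h => hm (h.trans (orderOf_dvd_of_pow_eq_one hsm))
  -- the Sylow subgroup of the centraliser of `s`
  set R₀ := (P : Subgroup G) ⊓ centralizer ({s} : Set G) with hR₀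
  have hvR : v ∈ R₀ :=
    ⟨mem_sylow_of_normal P hPn hvp, mem_centralizer_singleton_iff.2 hsv'.symm⟩
  have hR₀ne : R₀ ≠ ⊥ := by
    obtain ⟨⟨y, hy⟩, hyo⟩ := exists_prime_orderOf_dvd_card' p hx
    rw [Subgroup.orderOf_mk] at hyo
    intro hbot
    have hyR : y ∈ R₀ := by
      refine ⟨mem_sylow_of_normal P hPn (j := 1) (by rw [pow_one, ← hyo, pow_orderOf_eq_one]),
        mem_centralizer_singleton_iff.2 ?_⟩
      exact ((show Commute y x from mem_centralizer_singleton_iff.1 hy).pow_right a).eq
    rw [hbot, mem_bot] at hyR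
    rw [hyR, orderOf_one] at hyo
    exact hpp.ne_one hyo.symm
  -- the Frattini quotient of the normal closure
  set K := normalClosure (R₀ : Set G) with hK
  haveI hKn : K.Normal := normalClosure_normal
  have hRK : R₀ ≤ K := subset_normalClosure
  have hKP : K ≤ (P : Subgroup G) := normalClosure_le_normal inf_le_left
  have hKp : IsPGroup p K := P.isPGroup'.to_le hKP
  set F := frattini K with hF
  haveI hFn : F.Normal := by rw [hF]; infer_instance
  have hQ'F : commutator K ≤ F := Solvable.commutator_le_frattini hKp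
  have hcommF : ∀ a c : K ⧸ F, a * c = c * a := by
    intro a c
    induction a using QuotientGroup.induction_on with
    | H a =>
      induction c using QuotientGroup.induction_on with
      | H c =>
        show ((a * c : K) : K ⧸ F) = ((c * a : K) : K ⧸ F)
        rw [QuotientGroup.eq,
          show (a * c)⁻¹ * (c * a) = ⁅c⁻¹, a⁻¹⁆ by rw [commutatorElement_def]; group]
        exact hQ'F (Subgroup.commutator_mem_commutator (Subgroup.mem_top _) (Subgroup.mem_top _))
  letI : CommGroup (K ⧸ F) := { (inferInstance : Group (K ⧸ F)) with mul_comm := hcommF }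
  have hexpF : ∀ u : K ⧸ F, u ^ p = 1 := by
    intro u
    induction u using QuotientGroup.induction_on with
    | H u =>
      rw [← QuotientGroup.mk_pow]
      exact (QuotientGroup.eq_one_iff _).2 (Solvable.pow_mem_frattini hKp u)
  have hmapF : ∀ f : MulAut K, F.map (f : K →* K) = F := fun f =>
    Subgroup.characteristic_iff_map_eq.1 (inferInstance : (frattini K).Characteristic) f
  let bar : MulAut K →* MulAut (K ⧸ F) :=
    { toFun := fun f => QuotientGroup.congr F F f (hmapF f)
      map_one' := by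
        ext u
        induction u using QuotientGroup.induction_on
        simp
      map_mul' := fun f f' => by
        ext u
        induction u using QuotientGroup.induction_on
        simp [MulAut.mul_apply] }
  let c : G →* MulAut (K ⧸ F) := bar.comp MulAut.conjNormal
  have hc : ∀ (g : G) (u : K), c g (u : K ⧸ F) = ((MulAut.conjNormal g u : K) : K ⧸ F) :=
    fun g u => rfl
  -- an element of `R₀` outside the Frattini subgroup
  obtain ⟨r, hrR, hrF⟩ : ∃ r : K, (r : G) ∈ R₀ ∧ r ∉ F := by
    by_contra hcon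
    push Not at hcon
    have hle : K ≤ F.map K.subtype := by
      haveI : (F.map K.subtype).Normal := by
        refine ⟨fun z hz g => ?_⟩
        obtain ⟨u, hu, rfl⟩ := hz
        exact ⟨MulAut.conjNormal g u, by
          rw [SetLike.mem_coe, ← hmapF (MulAut.conjNormal g)]
          exact ⟨u, hu, rfl⟩, MulAut.conjNormal_apply g u⟩
      exact normalClosure_le_normal fun z hz => ⟨⟨z, hRK hz⟩, hcon _ hz, rfl⟩
    have hFtop : F = ⊤ := by
      refine (eq_top_iff' _).2 fun u => ?_
      obtain ⟨u', hu', he⟩ := hle u.2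
      rwa [← Subtype.ext he]
    haveI : Nontrivial K := (Subgroup.nontrivial_iff_ne_bot _).2 fun h => hR₀ne (le_bot_iff.1 (h ▸ hRK))
    obtain ⟨M, hM, -⟩ := Solvable.exists_coatom_ge (G := K) (H := ⊥) bot_ne_top
    exact hM.1 (top_le_iff.1 (hFtop ▸ frattini_le_coatom hM))
  obtain ⟨hrP, hrs⟩ := hrR
  have hrs' : Commute (r : G) s := mem_centralizer_singleton_iff.1 hrs
  obtain ⟨j, hj⟩ := IsPGroup.iff_orderOf.1 P.isPGroup' ⟨r, hrP⟩
  rw [Subgroup.orderOf_mk] at hj
  -- a primitive root and an element inducing it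
  obtain ⟨μ, hμ⟩ := IsCyclic.exists_ofOrder_eq_natCard (α := (ZMod p)ˣ)
  have hμo : orderOf (μ : ZMod p) = p - 1 := by
    rw [orderOf_units, hμ, Nat.card_eq_fintype_card, ZMod.card_units]
  have hcopj : (p ^ (j + 1)).Coprime (orderOf s) := (hpp.coprime_iff_not_dvd.2 hso).pow_left _
  obtain ⟨k, hk1, hk2⟩ := Nat.chineseRemainder hcopj (μ : ZMod p).val 1
  have hkμ : (k : ZMod p) = μ := by
    rw [← ZMod.natCast_zmod_val (μ : ZMod p), ZMod.natCast_eq_natCast_iff]
    exact hk1.of_dvd (dvd_pow_self p (Nat.succ_ne_zero j))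
  have hkcop : k.Coprime (orderOf ((r : G) * s)) := by
    refine Nat.Coprime.coprime_dvd_right hrs'.orderOf_mul_dvd_mul_orderOf (Nat.Coprime.mul_right ?_ ?_)
    · rw [hj]
      refine (Nat.Coprime.pow_left j (hpp.coprime_iff_not_dvd.2 fun hd => μ.ne_zero ?_)).symm
      rw [← hkμ, ZMod.natCast_eq_zero_iff]
      exact hd
    · rw [Nat.coprime_iff_gcd_eq_one, hk2.gcd_eq]
      exact Nat.gcd_one_left _
  obtain ⟨g₀, hg₀⟩ := hR.exists_conj hkcop
  rw [hrs'.mul_pow, show s ^ k = s from (pow_eq_pow_iff_modEq.2 hk2).trans (pow_one s)] at hg₀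
  -- separate the commuting parts
  have hsep : g₀ * r * g₀⁻¹ = (r : G) ^ k ∧ g₀ * s * g₀⁻¹ = s := by
    have hc1 : Commute (g₀ * r * g₀⁻¹) (g₀ * s * g₀⁻¹) := hrs'.map (MulAut.conj g₀).toMonoidHom
    have hc2 : Commute ((r : G) ^ k) s := hrs'.pow_left k
    obtain ⟨d, hd1, hd2⟩ := Nat.chineseRemainder hcopj 0 1
    have hrd : ∀ y : G, y ^ p ^ (j + 1) = 1 → y ^ d = 1 := fun y hy =>
      orderOf_dvd_iff_pow_eq_one.1 ((orderOf_dvd_of_pow_eq_one hy).trans
        (Nat.modEq_zero_iff_dvd.1 hd1))
    have hsd : ∀ y : G, orderOf y = orderOf s → y ^ d = y := fun y hy => by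
      conv_rhs => rw [← pow_one y]
      rw [pow_eq_pow_iff_modEq, hy]
      exact hd2
    have hr1 : (r : G) ^ p ^ (j + 1) = 1 := by
      rw [← orderOf_dvd_iff_pow_eq_one, hj]; exact pow_dvd_pow p j.le_succ
    have h1 : g₀ * r * g₀⁻¹ * (g₀ * s * g₀⁻¹) = (r : G) ^ k * s := by rw [← hg₀]; group
    have h2 : g₀ * s * g₀⁻¹ = s := by
      have h3 := congrArg (· ^ d) h1
      simp only [hc1.mul_pow, hc2.mul_pow] at h3
      rw [hrd _ (by rw [conj_pow, hr1, mul_one, mul_inv_cancel]),
        hrd ((r : G) ^ k) (by rw [← pow_mul, mul_comm, pow_mul, hr1, one_pow]), hsd _ rfl,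
        hsd (g₀ * s * g₀⁻¹) (by rw [← MulAut.conj_apply, MulEquiv.orderOf_eq]), one_mul, one_mul]
        at h3
      exact h3
    rw [h2] at h1
    exact ⟨mul_right_cancel h1, h2⟩
  obtain ⟨hg₀r, hg₀s⟩ := hsep
  obtain ⟨i, m', hm', hg₀o⟩ := Nat.exists_eq_pow_mul_and_not_dvd (orderOf_pos g₀).ne' p hpp.ne_one
  set g := g₀ ^ p ^ i with hg
  have hgs : Commute g s := (show Commute g₀ s from mul_inv_eq_iff_eq_mul.1 hg₀s).pow_left _
  have hgm : g ^ m' = 1 := by rw [hg, ← pow_mul, ← hg₀o, pow_orderOf_eq_one]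
  set N := m' * orderOf s with hN
  have hpN : ¬ p ∣ N := fun h => (hpp.dvd_mul.1 h).elim hm' hso
  have hgN : g ^ N = 1 := by rw [hN, pow_mul, hgm, one_pow]
  have hsN : s ^ N = 1 := by rw [hN, mul_comm, pow_mul, pow_orderOf_eq_one, one_pow]
  set w : K ⧸ F := (r : K ⧸ F) with hw
  have hw0 : w ≠ 1 := fun h => hrF ((QuotientGroup.eq_one_iff r).1 h)
  have hAw : c g₀ w = w ^ k := by
    rw [hw, hc, ← QuotientGroup.mk_pow]
    congr 1
    exact Subtype.ext (by rw [MulAut.conjNormal_apply, hg₀r, SubgroupClass.coe_pow])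
  have hAw' : c g w = w ^ k ^ p ^ i := by
    have h1 : ∀ n : ℕ, c (g₀ ^ n) w = w ^ k ^ n := fun n => by
      induction n with
      | zero => rw [pow_zero, map_one, pow_zero, pow_one]; rfl
      | succ n ih => rw [pow_succ', map_mul, MulAut.mul_apply, ih, map_pow, hAw, ← pow_mul, pow_succ']
    rw [hg, h1]
  have hl : orderOf ((k ^ p ^ i : ℕ) : ZMod p) = p - 1 := by
    rw [Nat.cast_pow, hkμ, ZMod.pow_card_pow, hμo]
  have hBw : c s w = w := by
    rw [hw, hc]
    congr 1
    exact Subtype.ext (by rw [MulAut.conjNormal_apply, hrs'.symm.eq, mul_inv_cancel_right])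
  have hfr := card_fixed_ge hp hexpF hR c hgs hpN hgN hsN hw0 hBw hl hAw'
  -- fixed points of `s` lift
  set f : ↥R₀ →* K ⧸ F := (QuotientGroup.mk' F).comp (inclusion hRK) with hf
  have hcoprime : (Nat.card (zpowers s)).Coprime (Nat.card (F.map K.subtype)) := by
    obtain ⟨n, hn⟩ := IsPGroup.iff_card.1 (hKp.to_subgroup F)
    rw [Subgroup.card_map_of_injective K.subtype_injective, hn, Nat.card_zpowers]
    exact ((hpp.coprime_iff_not_dvd.2 hso).pow_left n).symm
  have hlift : ∀ u : {u : K ⧸ F // c s u = u}, ∃ z : ↥R₀, f z = u.1 := by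
    rintro ⟨u, hu⟩
    induction u using QuotientGroup.induction_on with
    | H u =>
      rw [hc] at hu
      have hu' : u⁻¹ * MulAut.conjNormal s u ∈ F := QuotientGroup.eq.1 hu.symm
      have hnorm : zpowers s ≤ normalizer ((F.map K.subtype : Subgroup G) : Set G) := by
        rw [zpowers_le, mem_normalizer_iff]
        intro z
        constructor
        · rintro ⟨q, hq, rfl⟩
          exact ⟨MulAut.conjNormal s q, by
            rw [SetLike.mem_coe, ← hmapF (MulAut.conjNormal s)]; exact ⟨q, hq, rfl⟩,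
            MulAut.conjNormal_apply s q⟩
        · rintro ⟨q, hq, hqz⟩
          refine ⟨MulAut.conjNormal s⁻¹ q, by
            rw [SetLike.mem_coe, ← hmapF (MulAut.conjNormal s⁻¹)]; exact ⟨q, hq, rfl⟩, ?_⟩
          rw [coe_subtype, MulAut.conjNormal_apply, show ((q : K) : G) = s * z * s⁻¹ from hqz]
          group
      obtain ⟨cc, hcc, hcu⟩ := Coprime.exists_fixed_mem_coset (k := (u : G)) hnorm hcoprime
        (Or.inl inferInstance) (by
          intro a ha
          -- the fixed coset of a generator is fixed by all powers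
          let St : Subgroup G :=
            { carrier := {y | c y (u : K ⧸ F) = (u : K ⧸ F)}
              one_mem' := by simp
              mul_mem' := fun {y y'} h h' => by
                show c (y * y') _ = _
                rw [map_mul, MulAut.mul_apply, h', h]
              inv_mem' := fun {y} h => by
                show c y⁻¹ _ = _
                conv_lhs => rw [← h]
                rw [← MulAut.mul_apply, ← map_mul, inv_mul_cancel, map_one, MulAut.one_apply] }
          have hsSt : s ∈ St := by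
            show c s _ = _
            rw [hc]; exact hu
          have haSt : a ∈ St := (zpowers_le.2 hsSt) ha
          have h3 : u⁻¹ * MulAut.conjNormal a u ∈ F := by
            have h4 : c a _ = _ := haSt
            rw [hc] at h4
            exact QuotientGroup.eq.1 h4.symm
          exact ⟨_, h3, by simp [MulAut.conjNormal_apply]⟩)
      obtain ⟨q, hq, hqe⟩ := hcu
      have hcK : cc = (u * q : K) := by
        rw [Subgroup.coe_mul, show ((q : K) : G) = (u : G)⁻¹ * cc from hqe, mul_inv_cancel_left]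
      have hcR : cc ∈ R₀ := ⟨hKP (hcK ▸ (u * q).2),
        mem_centralizer_singleton_iff.2 (mem_centralizer_iff.1 hcc s (mem_zpowers s)).symm⟩
      refine ⟨⟨cc, hcR⟩, ?_⟩
      show ((inclusion hRK ⟨cc, hcR⟩ : K) : K ⧸ F) = (u : K ⧸ F)
      rw [QuotientGroup.eq, show inclusion hRK ⟨cc, hcR⟩ = u * q from Subtype.ext hcK]
      simpa using F.inv_mem hq
  have hcard : p ^ eExp p ≤ (commutator ↥R₀).index := by
    have h1 : p ^ eExp p ≤ Nat.card f.range := by
      refine hfr.trans ?_
      choose z hz using hlift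
      refine Nat.card_le_card_of_injective (fun u => (⟨f (z u), z u, rfl⟩ : f.range)) fun u u' h => ?_
      have h' := congrArg Subtype.val h
      simp only [hz] at h'
      exact Subtype.ext h'
    refine h1.trans ?_
    rw [← Subgroup.index_ker f]
    exact Nat.le_of_dvd (Nat.pos_of_ne_zero index_ne_zero_of_finite)
      (index_dvd_of_le (Abelianization.commutator_subset_ker f))
  -- inside the centraliser of `x`
  have h2 := hcard.trans (index_commutator_le_cz (⟨v, hvR⟩ : ↥R₀))
  obtain ⟨n, hn⟩ := IsPGroup.iff_card.1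
    (P.isPGroup'.to_le (inf_le_left : (P : Subgroup G) ⊓ centralizer ({x} : Set G) ≤ P))
  have h3 : cz (⟨v, hvR⟩ : ↥R₀) ≤ p ^ n := by
    rw [← hn]
    refine Nat.card_le_card_of_injective
      (fun z => ⟨((z : ↥R₀) : G), (z : ↥R₀).2.1, mem_centralizer_singleton_iff.2 ?_⟩) ?_
    · have h4 : Commute ((z : ↥R₀) : G) v :=
        congrArg Subtype.val (mem_centralizer_singleton_iff.1 z.2)
      rw [← hsv]
      exact ((show Commute ((z : ↥R₀) : G) s from mem_centralizer_singleton_iff.1 (z : ↥R₀).2.2).mul_right h4).eq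
    · intro z z' h
      exact Subtype.ext (Subtype.ext (congrArg Subtype.val h : _))
  refine (pow_dvd_pow p ((Nat.pow_le_pow_iff_right hpp.one_lt).1 (h2.trans h3))).trans ?_
  rw [← hn]
  exact Subgroup.card_dvd_of_le inf_le_right

end CfsgLib.DistinctClass
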