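import Cfsg.Agent.DistinctClass.Base
import Cfsg.Agent.Solvable.Frattini

/-!
# The Frattini quotient of the normal Sylow five-subgroup as a module
-/

set_option autoImplicit false
set_option linter.style.haveILetI false

namespace CfsgLib.DistinctClass

open Subgroup

variable {G : Type*} [Group G] [Finite G]

/-- An action of a rational group on a section of `G` on which conjugation is visible: the data
extracted from the normal Sylow five-subgroup. -/
structure FiveData (G : Type*) [Group G] (L : Subgroup G) where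
  /-- The Frattini subgroup of `L`, in `G`. -/
  F : Subgroup G
  normal : F.Normal
  le : F ≤ L
  comm : ∀ a ∈ L, ∀ b ∈ L, a * b * a⁻¹ * b⁻¹ ∈ F
  pow : ∀ a ∈ L, a ^ 5 ∈ F
  ne : F ≠ L

theorem exists_fiveData (L : Sylow 5 G) [Fact (Nat.Prime 5)] [hL : (L : Subgroup G).Normal]
    (hne : (L : Subgroup G) ≠ ⊥) : Nonempty (FiveData G L) := by
  have hp : IsPGroup 5 (L : Subgroup G) := L.isPGroup'
  refine ⟨⟨(frattini (L : Subgroup G)).map (L : Subgroup G).subtype, ?_, map_subtype_le _,
    fun a ha b hb => ?_, fun a ha => ?_, fun h => ?_⟩⟩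
  · exact ConjAct.normal_of_characteristic_of_normal
  · exact ⟨_, Solvable.commutator_le_frattini hp
      (commutator_mem_commutator (mem_top (⟨a, ha⟩ : (L : Subgroup G))) (mem_top (⟨b, hb⟩ : (L : Subgroup G)))),
      rfl⟩
  · exact ⟨_, Solvable.pow_mem_frattini hp (⟨a, ha⟩ : (L : Subgroup G)), rfl⟩
  · refine hne ?_
    have htop : frattini (L : Subgroup G) = ⊤ := by
      refine map_injective (L : Subgroup G).subtype_injective ?_
      rw [h, ← MonoidHom.range_eq_map, range_subtype]
    have : (⊥ : Subgroup (L : Subgroup G)) = ⊤ :=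
      Solvable.eq_top_of_sup_frattini (by rw [htop, sup_top_eq])
    have h2 := congrArg (Subgroup.map (L : Subgroup G).subtype) this
    rw [Subgroup.map_bot, ← MonoidHom.range_eq_map, range_subtype] at h2
    exact h2.symm

section

variable {L : Subgroup G} [L.Normal] (D : FiveData G L)

instance : D.F.Normal := D.normal

/-- The section `L / Φ(L)`. -/
abbrev FiveData.W : Subgroup (G ⧸ D.F) := L.map (QuotientGroup.mk' D.F)

instance : D.W.Normal := Subgroup.Normal.map inferInstance _ (QuotientGroup.mk'_surjective _)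

omit [Finite G] in
theorem FiveData.w_comm (a b : D.W) : a * b = b * a := by
  obtain ⟨_, a, ha, rfl⟩ := a
  obtain ⟨_, b, hb, rfl⟩ := b
  refine Subtype.ext ?_
  show (a : G ⧸ D.F) * b = b * a
  rw [← commutatorElement_eq_one_iff_mul_comm]
  show ((a * b * a⁻¹ * b⁻¹ : G) : G ⧸ D.F) = 1
  exact (QuotientGroup.eq_one_iff _).2 (D.comm a ha b hb)

instance : CommGroup D.W := { (inferInstance : Group D.W) with mul_comm := D.w_comm }

omit [Finite G] in
theorem FiveData.w_pow (a : D.W) : a ^ 5 = 1 := by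
  obtain ⟨_, a, ha, rfl⟩ := a
  refine Subtype.ext ?_
  show (a : G ⧸ D.F) ^ 5 = 1
  rw [← QuotientGroup.mk_pow]
  exact (QuotientGroup.eq_one_iff _).2 (D.pow a ha)

theorem FiveData.isPGroup : IsPGroup 5 D.W := fun a => ⟨1, by rw [pow_one, D.w_pow]⟩

omit [Finite G] in
theorem FiveData.exists_ne : ∃ v : D.W, v ≠ 1 := by
  by_contra h
  push Not at h
  refine D.ne (le_antisymm D.le fun a ha => ?_)
  exact (QuotientGroup.eq_one_iff a).1 (congrArg Subtype.val (h ⟨_, a, ha, rfl⟩))

/-- The conjugation action. -/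
noncomputable def FiveData.act : G →* MulAut D.W :=
  (MulAut.conjNormal : G ⧸ D.F →* MulAut D.W).comp (QuotientGroup.mk' D.F)

omit [Finite G] in
theorem FiveData.act_apply (g : G) (v : D.W) :
    (D.act g v : G ⧸ D.F) = (g : G ⧸ D.F) * v * (g : G ⧸ D.F)⁻¹ := rfl

omit [Finite G] in
theorem FiveData.act_eq_one {g : G} (hg : g ∈ L) : D.act g = 1 := by
  refine MulEquiv.ext fun v => Subtype.ext ?_
  rw [D.act_apply, MulAut.one_apply]
  have h : (⟨_, g, hg, rfl⟩ : D.W) * v = v * ⟨_, g, hg, rfl⟩ := D.w_comm _ _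
  exact mul_inv_eq_iff_eq_mul.2 (congrArg Subtype.val h)

theorem FiveData.five_not_dvd_range (hL : ¬ 5 ∣ L.index) : ¬ 5 ∣ Nat.card D.act.range := by
  rw [← index_ker]
  exact fun h => hL (h.trans (index_dvd_of_le fun g hg => MonoidHom.mem_ker.2 (D.act_eq_one hg)))

omit [Finite G] in
/-- Conjugation in the quotient by `Φ(L)`, from rationality. -/
theorem FiveData.exists_act_sq (hR : Rat (G ⧸ D.F)) (v : D.W) : ∃ g : G, D.act g v = v ^ 2 := by
  have hord : orderOf (v : G ⧸ D.F) ∣ 5 := orderOf_dvd_of_pow_eq_one (by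
    rw [← SubgroupClass.coe_pow, D.w_pow, OneMemClass.coe_one])
  obtain ⟨c, hc⟩ := hR.exists_conj (x := (v : G ⧸ D.F)) (k := 2)
    (Nat.Coprime.coprime_dvd_right hord (by norm_num))
  obtain ⟨g, rfl⟩ := QuotientGroup.mk'_surjective D.F c
  exact ⟨g, Subtype.ext (by rw [D.act_apply]; exact hc)⟩

/-- An element whose order and centraliser order are small fixes no nontrivial vector. -/
theorem FiveData.fpf (hF : ¬ 2 ∣ Nat.card D.F) (hG : 2 ∣ Nat.card G) {g : G} (h9 : cz g < 10)
    (hg : ¬ 5 ∣ orderOf g) : ∀ v : D.W, D.act g v = v → v = 1 := by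
  intro v hv
  by_contra hv1
  haveI : Fact (Nat.Prime 5) := ⟨by norm_num⟩
  set f := QuotientGroup.mk' D.F
  set C := centralizer ({f g} : Set (G ⧸ D.F)) with hC
  have hc : Commute (v : G ⧸ D.F) (f g) := by
    have h := congrArg Subtype.val hv
    rw [D.act_apply] at h
    exact (mul_inv_eq_iff_eq_mul.1 h).symm
  have hvC : (v : G ⧸ D.F) ∈ C := mem_centralizer_single.2 hc
  have hvo : orderOf (v : G ⧸ D.F) = 5 := by
    rw [Subgroup.orderOf_coe]
    exact orderOf_eq_prime (D.w_pow v) hv1
  have h5 : 5 ∣ Nat.card C := hvo ▸ C.orderOf_dvd_natCard hvC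
  have hle : Nat.card C ≤ cz g := cz_map_le f (QuotientGroup.mk'_surjective _) g
  have hC5 : Nat.card C = 5 := by
    obtain ⟨k, hk⟩ := h5
    have := Nat.card_pos (α := C)
    omega
  have hgo : orderOf (f g) ∣ 5 := hC5 ▸ C.orderOf_dvd_natCard (mem_centralizer_single.2 (Commute.refl _))
  have hg1 : f g = 1 := by
    rcases (Nat.dvd_prime (by norm_num)).1 hgo with h | h
    · exact orderOf_eq_one_iff.1 h
    · exact absurd (h ▸ orderOf_map_dvd f g) hg
  rw [hC, hg1, show centralizer ({1} : Set (G ⧸ D.F)) = ⊤ from eq_top_iff.2 fun a _ =>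
    mem_centralizer_single.2 (Commute.one_right a), card_top] at hC5
  rw [card_eq_card_quotient_mul_card_subgroup D.F, hC5] at hG
  rcases Nat.prime_two.dvd_mul.1 hG with h | h
  · norm_num at h
  · exact hF h

end

theorem FiveData.two_not_dvd [Fact (Nat.Prime 5)] {L : Sylow 5 G} (D : FiveData G (L : Subgroup G)) :
    ¬ 2 ∣ Nat.card D.F := by
  obtain ⟨e, he⟩ := IsPGroup.iff_card.1 (L.isPGroup'.to_le D.le)
  rw [he]
  exact fun h => absurd (Nat.prime_two.dvd_of_dvd_pow h) (by norm_num)

end CfsgLib.DistinctClass
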