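import Cfsg.Agent.DistinctClass.Basic
import Cfsg.Agent.Solvable.Basic

/-!
# A solvable rational group has normal Sylow `p`-subgroups for all primes `p ≥ 5`

If `N` is an abelian normal subgroup with complement `H`, and `θ` is a linear character of `N`
fixed by `a ∈ H`, rationality of the elements `n * a` gives an `h ∈ H` with `h a h⁻¹ = a ^ k` and
`θ ^ h = θ ^ k`. A linear character whose stabiliser in a normal elementary abelian `p`-subgroup
has order `p` then leads to a contradiction.
-/

set_option autoImplicit false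
set_option linter.style.haveILetI false

namespace CfsgLib.DistinctClass

open Subgroup

variable {G : Type*} [Group G] {N : Subgroup G} [N.Normal]

/-- A linear character composed with conjugation. -/
noncomputable def twist (θ : N →* ℂˣ) (g : G) : N →* ℂˣ :=
  θ.comp (MulAut.conjNormal g : N ≃* N).toMonoidHom

@[simp] theorem twist_apply (θ : N →* ℂˣ) (g : G) (n : N) :
    twist θ g n = θ (MulAut.conjNormal g n) := rfl

theorem twist_twist (θ : N →* ℂˣ) (g g' : G) : twist (twist θ g) g' = twist θ (g * g') := by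
  ext n
  simp only [twist_apply, map_mul, MulAut.mul_apply]

theorem twist_one (θ : N →* ℂˣ) : twist θ (1 : G) = θ := by
  ext n
  simp only [twist_apply, map_one, MulAut.one_apply]

theorem pow_decomp (a : G) (n : N) : ∀ j : ℕ, ∃ m : N, ((n : G) * a) ^ j = m * a ^ j ∧
    ∀ ψ : N →* ℂˣ, twist ψ a = ψ → ψ m = ψ n ^ j := by
  intro j
  induction j with
  | zero => exact ⟨1, by simp, fun ψ _ => by simp⟩
  | succ j ih =>
    obtain ⟨m, hm, hψ⟩ := ih
    refine ⟨m * MulAut.conjNormal (a ^ j) n, ?_, fun ψ hinv => ?_⟩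
    · rw [pow_succ, hm, Subgroup.coe_mul, MulAut.conjNormal_apply, pow_succ]
      group
    · rw [map_mul, hψ ψ hinv, pow_succ]
      congr 1
      have : ∀ i : ℕ, twist ψ (a ^ i) = ψ := by
        intro i
        induction i with
        | zero => rw [pow_zero, twist_one]
        | succ i hi => rw [pow_succ, ← twist_twist, hi, hinv]
      exact DFunLike.congr_fun (this j) n

/-- **Transfer of rationality to linear characters of a complemented abelian normal subgroup.** -/
theorem exists_conj_twist [Finite G] (hR : Rat G) {H : Subgroup G} (hdis : N ⊓ H = ⊥)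
    (hsup : N ⊔ H = ⊤) {a : G} (ha : a ∈ H) (θ : N →* ℂˣ)
    (hθ : twist θ a = θ) {k : ℕ} (hk : k.Coprime (orderOf a * Nat.card N)) :
    ∃ h ∈ H, h * a * h⁻¹ = a ^ k ∧ twist θ h = θ ^ k := by
  classical
  haveI := Fintype.ofFinite G
  have huniq : ∀ m m' : N, ∀ b b' : G, b ∈ H → b' ∈ H → (m : G) * b = m' * b' → m = m' ∧ b = b' := by
    intro m m' b b' hb hb' he
    have h1 : (m' : G)⁻¹ * m = b' * b⁻¹ := by
      calc (m' : G)⁻¹ * m = (m' : G)⁻¹ * (m * b) * b⁻¹ := by group
        _ = b' * b⁻¹ := by rw [he]; group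
    have h2 : (m' : G)⁻¹ * m ∈ N ⊓ H :=
      ⟨N.mul_mem (N.inv_mem m'.2) m.2, h1 ▸ H.mul_mem hb' (H.inv_mem hb)⟩
    rw [hdis, mem_bot, inv_mul_eq_one] at h2
    exact ⟨Subtype.ext h2.symm, mul_left_cancel (h2 ▸ he)⟩
  -- conjugators coming from the elements `n * a`
  have key : ∀ n : N, ∃ h ∈ H, h * a * h⁻¹ = a ^ k ∧
      ∀ ψ : N →* ℂˣ, twist ψ a = ψ → ψ (MulAut.conjNormal h n) = ψ n ^ k := by
    intro n
    have hord : orderOf ((n : G) * a) ∣ orderOf a * Nat.card N := by
      obtain ⟨m, hm, -⟩ := pow_decomp a n (orderOf a)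
      rw [pow_orderOf_eq_one, mul_one] at hm
      refine orderOf_dvd_of_pow_eq_one ?_
      rw [pow_mul, hm, ← SubgroupClass.coe_pow, pow_card_eq_one', OneMemClass.coe_one]
    obtain ⟨g, hg⟩ := hR.exists_conj (hk.coprime_dvd_right hord)
    obtain ⟨g', hg', rfl⟩ : ∃ g', g' ∈ N ⊔ H ∧ g'⁻¹ = g := ⟨g⁻¹, by rw [hsup]; trivial, inv_inv g⟩
    rw [Subgroup.mem_sup_of_normal_left] at hg'
    obtain ⟨m, hm, b, hb, rfl⟩ := hg'
    set h := b⁻¹ with hh
    set m₀ : N := ⟨m⁻¹, N.inv_mem hm⟩ with hm₀
    -- the conjugate written as `N`-part times `H`-part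
    set m' : N := m₀ * n * (MulAut.conjNormal a m₀)⁻¹ with hm'
    have hcalc : (m * b)⁻¹ * ((n : G) * a) * ((m * b)⁻¹)⁻¹ =
        (MulAut.conjNormal h m' : G) * (h * a * h⁻¹) := by
      rw [MulAut.conjNormal_apply, hm', Subgroup.coe_mul, Subgroup.coe_mul, InvMemClass.coe_inv,
        MulAut.conjNormal_apply, hh, hm₀]
      group
    obtain ⟨nk, hnk, hψ⟩ := pow_decomp a n k
    rw [hcalc, hnk] at hg
    have hhH : h ∈ H := H.inv_mem hb
    obtain ⟨h1, h2⟩ := huniq _ _ _ _ (H.mul_mem (H.mul_mem hhH ha) (H.inv_mem hhH))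
      (H.pow_mem ha k) hg
    refine ⟨h, hhH, h2, fun ψ hψa => ?_⟩
    have hinvk : twist ψ (a ^ k) = ψ := by
      have : ∀ i : ℕ, twist ψ (a ^ i) = ψ := by
        intro i
        induction i with
        | zero => rw [pow_zero, twist_one]
        | succ i hi => rw [pow_succ, ← twist_twist, hi, hψa]
      exact this k
    have h3 : ψ (MulAut.conjNormal h (MulAut.conjNormal a m₀)) = ψ (MulAut.conjNormal h m₀) := by
      rw [show MulAut.conjNormal h (MulAut.conjNormal a m₀) =
          MulAut.conjNormal (a ^ k) (MulAut.conjNormal h m₀) from by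
        apply Subtype.ext
        rw [MulAut.conjNormal_apply, MulAut.conjNormal_apply, MulAut.conjNormal_apply,
          MulAut.conjNormal_apply, ← h2]
        group]
      exact DFunLike.congr_fun hinvk _
    rw [← hψ ψ hψa, ← h1, hm', map_mul (MulAut.conjNormal h), map_mul (MulAut.conjNormal h),
      map_inv (MulAut.conjNormal h), map_mul ψ, map_mul ψ, map_inv ψ, h3,
      mul_right_comm, mul_inv_cancel, one_mul]
  obtain ⟨h₀, hh₀H, hh₀, -⟩ := key 1
  -- the orbit of `θ` under the centraliser of `a`
  set C : Subgroup G := H ⊓ centralizer ({a} : Set G) with hC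
  haveI : Fintype C := Fintype.ofFinite C
  set S : Finset (N →* ℂˣ) := Finset.univ.image fun c : C => twist θ (c : G) with hS
  have hSinv : ∀ ψ ∈ S, twist ψ a = ψ := by
    intro ψ hψ
    obtain ⟨c, -, rfl⟩ := Finset.mem_image.1 hψ
    rw [twist_twist, mem_centralizer_singleton_iff.1 c.2.2, ← twist_twist, hθ]
  have hSC : ∀ c : G, c ∈ C → S.image (fun ψ => twist ψ c) = S := by
    intro c hc
    refine Finset.eq_of_subset_of_card_le (fun ψ hψ => ?_) (le_of_eq ?_)
    · obtain ⟨ψ', hψ', rfl⟩ := Finset.mem_image.1 hψ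
      obtain ⟨c', -, rfl⟩ := Finset.mem_image.1 hψ'
      exact Finset.mem_image.2 ⟨⟨(c' : G) * c, C.mul_mem c'.2 hc⟩, Finset.mem_univ _,
        (twist_twist θ _ _).symm⟩
    · refine (Finset.card_image_of_injective _ fun ψ ψ' h => ?_).symm
      have := congrArg (fun φ => twist φ c⁻¹) h
      simpa only [twist_twist, mul_inv_cancel, twist_one] using this
  have hkN : k.Coprime (Nat.card N) := hk.coprime_mul_left_right
  have hpowinj : Function.Injective fun ψ : N →* ℂˣ => ψ ^ k := by
    intro ψ ψ' h
    ext n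
    have h' := DFunLike.congr_fun h n
    simp only [MonoidHom.pow_apply] at h'
    obtain ⟨e, he⟩ := exists_pow_eq_self_of_coprime (hkN.coprime_dvd_right (orderOf_dvd_natCard n))
    rw [← he, map_pow, map_pow, map_pow, map_pow, h']
  -- equality of the two sums of characters
  set T₁ := S.image (fun ψ => twist ψ h₀) with hT₁
  set T₂ := S.image (fun ψ => ψ ^ k) with hT₂
  have hsum : ∀ n : N, (∑ ψ ∈ T₁, (ψ n : ℂ)) = ∑ ψ ∈ T₂, (ψ n : ℂ) := by
    intro n
    rw [hT₁, hT₂, Finset.sum_image (fun ψ _ ψ' _ h => by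
        have := congrArg (fun φ => twist φ h₀⁻¹) h
        simpa only [twist_twist, mul_inv_cancel, twist_one] using this),
      Finset.sum_image (fun ψ _ ψ' _ h => hpowinj h)]
    obtain ⟨h, hhH, hh, hψ⟩ := key n
    set c := h * h₀⁻¹ with hc
    have hcC : c ∈ C := by
      refine ⟨H.mul_mem hhH (H.inv_mem hh₀H), ?_⟩
      rw [← centralizer_pow_eq (hk.coprime_mul_right_right)]
      refine mem_centralizer_singleton_iff.2 ?_
      calc c * a ^ k = h * h₀⁻¹ * (h₀ * a * h₀⁻¹) := by rw [hc, hh₀]
        _ = h * a * h⁻¹ * (h * h₀⁻¹) := by group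
        _ = a ^ k * c := by rw [hh, hc]
    calc ∑ ψ ∈ S, ((twist ψ h₀) n : ℂ)
        = ∑ ψ ∈ S.image (fun ψ => twist ψ c), ((twist ψ h₀) n : ℂ) := by rw [hSC c hcC]
      _ = ∑ ψ ∈ S, ((twist (twist ψ c) h₀) n : ℂ) := by
          rw [Finset.sum_image fun ψ _ ψ' _ h => by
            have := congrArg (fun φ => twist φ c⁻¹) h
            simpa only [twist_twist, mul_inv_cancel, twist_one] using this]
      _ = ∑ ψ ∈ S, ((ψ ^ k) n : ℂ) := Finset.sum_congr rfl fun ψ hψS => by
          rw [twist_twist, hc, inv_mul_cancel_right, twist_apply, hψ ψ (hSinv ψ hψS), MonoidHom.pow_apply]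
  have hmem : twist θ h₀ ∈ T₂ := by
    by_contra hnot
    have hli := linearIndependent_monoidHom N ℂ
    let cv : (N →* ℂˣ) → (N →* ℂ) := fun ψ => (Units.coeHom ℂ).comp ψ
    have hcv : Function.Injective cv := fun ψ ψ' h => by
      ext n
      exact DFunLike.congr_fun h n
    let w : (N →* ℂ) → ℂ := fun φ =>
      (if φ ∈ T₁.image cv then 1 else 0) - (if φ ∈ T₂.image cv then 1 else 0)
    have hz : ∑ φ ∈ T₁.image cv ∪ T₂.image cv, w φ • (φ : N → ℂ) = 0 := by
      funext n
      simp only [Finset.sum_apply, Pi.smul_apply, smul_eq_mul, Pi.zero_apply, w, sub_mul,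
        Finset.sum_sub_distrib, ite_mul, one_mul, zero_mul, Finset.sum_ite_mem]
      rw [Finset.inter_eq_right.2 Finset.subset_union_left,
        Finset.inter_eq_right.2 Finset.subset_union_right,
        Finset.sum_image fun _ _ _ _ h => hcv h, Finset.sum_image fun _ _ _ _ h => hcv h]
      exact sub_eq_zero.2 (hsum n)
    have h1 : twist θ h₀ ∈ T₁ := Finset.mem_image.2 ⟨θ, Finset.mem_image.2
      ⟨1, Finset.mem_univ _, twist_one θ⟩, rfl⟩
    have := linearIndependent_iff'.1 hli _ w hz (cv (twist θ h₀))
      (Finset.mem_union_left _ (Finset.mem_image_of_mem _ h1))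
    simp only [w, if_pos (Finset.mem_image_of_mem cv h1)] at this
    rw [if_neg, sub_zero] at this
    · exact one_ne_zero this
    · intro h
      obtain ⟨ψ, hψ, he⟩ := Finset.mem_image.1 h
      exact hnot (hcv he ▸ hψ)
  obtain ⟨ψ, hψS, hψ⟩ := Finset.mem_image.1 hmem
  obtain ⟨c, -, rfl⟩ := Finset.mem_image.1 hψS
  refine ⟨h₀ * (c : G)⁻¹, H.mul_mem hh₀H (H.inv_mem c.2.1), ?_, ?_⟩
  · have hca : (c : G)⁻¹ * a * c = a := by
      rw [mul_assoc, ← mem_centralizer_singleton_iff.1 c.2.2, inv_mul_cancel_left]
    calc h₀ * (c : G)⁻¹ * a * (h₀ * (c : G)⁻¹)⁻¹ = h₀ * ((c : G)⁻¹ * a * c) * h₀⁻¹ := by group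
      _ = a ^ k := by rw [hca, hh₀]
  · rw [← twist_twist, ← hψ]
    ext n
    simp only [twist_apply, MonoidHom.pow_apply]
    rw [← MulAut.mul_apply, ← map_mul, mul_inv_cancel, map_one, MulAut.one_apply]

/-- Covering argument: if two commuting elements `t`, `s` of order dividing `p` are such that the
characters fixed by any of the lines they span are fixed by `t`, then `t` fixes every character. -/
theorem twist_fixed_of_lines {p : ℕ} [Fact p.Prime] (hcop : ¬ p ∣ Nat.card N) {t s : G}
    (ht : t ^ p = 1) (hs : s ^ p = 1) (hts : Commute t s)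
    (h : ∀ θ : N →* ℂˣ, ∀ i : ℕ, twist θ (t * s ^ i) = θ → twist θ t = θ)
    (h' : ∀ θ : N →* ℂˣ, twist θ s = θ → twist θ t = θ) (θ : N →* ℂˣ) : twist θ t = θ := by
  classical
  have hpow : ∀ (ψ : N →* ℂˣ) (g : G) (j : ℕ), twist (ψ ^ j) g = twist ψ g ^ j := fun ψ g j => by
    ext n; rfl
  have hprod : ∀ (I : Finset ℕ) (F : ℕ → (N →* ℂˣ)) (g : G),
      twist (∏ i ∈ I, F i) g = ∏ i ∈ I, twist (F i) g := fun I F g => by
    ext n
    simp only [twist_apply, MonoidHom.finsetProd_apply]
  -- the product over a cyclic group is fixed by it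
  have horb : ∀ (ψ : N →* ℂˣ) (g : G), g ^ p = 1 →
      twist (∏ j ∈ Finset.range p, twist ψ (g ^ j)) g = ∏ j ∈ Finset.range p, twist ψ (g ^ j) := by
    intro ψ g hg
    rw [hprod]
    simp only [twist_twist, ← pow_succ]
    obtain ⟨q, hq⟩ := Nat.exists_eq_succ_of_ne_zero (Fact.out : p.Prime).ne_zero
    rw [hq, Finset.prod_range_succ, Finset.prod_range_succ' (fun j => twist ψ (g ^ j)),
      ← Nat.succ_eq_add_one, ← hq, hg, pow_zero]
  set F : ℕ → (N →* ℂˣ) := fun i => ∏ j ∈ Finset.range p, twist θ ((t * s ^ i) ^ j) with hF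
  set F' : N →* ℂˣ := ∏ l ∈ Finset.range p, twist θ (s ^ l) with hF'
  have hFfix : ∀ i, twist (F i) t = F i := fun i => h _ i (horb θ _ (by
    rw [(hts.pow_right i).mul_pow, ht, ← pow_mul, mul_comm, pow_mul, hs, one_pow, one_mul]))
  have hF'fix : twist F' t = F' := h' _ (horb θ s hs)
  set Φ : N →* ℂˣ := ∏ j ∈ Finset.range p, ∏ l ∈ Finset.range p, twist θ (t ^ j * s ^ l) with hΦ
  have hΦfix : twist Φ t = Φ := by
    have e : Φ = ∏ l ∈ Finset.range p, ∏ j ∈ Finset.range p, twist (twist θ (s ^ l)) (t ^ j) := by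
      rw [hΦ, Finset.prod_comm]
      simp only [twist_twist, (hts.pow_pow _ _).eq]
    rw [e, hprod]
    exact Finset.prod_congr rfl fun l _ => horb _ t ht
  -- the covering identity
  have hid : θ ^ p * Φ = (∏ i ∈ Finset.range p, F i) * F' := by
    obtain ⟨q, hq⟩ := Nat.exists_eq_succ_of_ne_zero (Fact.out : p.Prime).ne_zero
    have hinner : ∀ j, 0 < j → j < p → (∏ i ∈ Finset.range p, twist θ ((t * s ^ i) ^ j)) =
        ∏ l ∈ Finset.range p, twist θ (t ^ j * s ^ l) := by
      intro j hj hjp
      haveI : NeZero p := ⟨(Fact.out : p.Prime).ne_zero⟩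
      have hexp : ∀ i, (t * s ^ i) ^ j = t ^ j * s ^ (i * j % p) := fun i => by
        rw [(hts.pow_right i).mul_pow, ← pow_mul, pow_eq_pow_mod (i * j) hs]
      simp only [hexp]
      refine Finset.prod_nbij (fun i => i * j % p) (fun i _ => Finset.mem_range.2
        (Nat.mod_lt _ (NeZero.pos p))) (fun i hi i' hi' he => ?_) (fun l hl => ?_) (fun i _ => rfl)
      · have h2 : (i : ZMod p) * j = i' * j := by
          rw [← Nat.cast_mul, ← Nat.cast_mul, ZMod.natCast_eq_natCast_iff']
          exact he
        have hj0 : (j : ZMod p) ≠ 0 := by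
          rw [Ne, ZMod.natCast_eq_zero_iff]
          exact fun hd => absurd (Nat.le_of_dvd hj hd) (by omega)
        have h3 := mul_right_cancel₀ hj0 h2
        rw [ZMod.natCast_eq_natCast_iff', Nat.mod_eq_of_lt (Finset.mem_range.1 hi),
          Nat.mod_eq_of_lt (Finset.mem_range.1 hi')] at h3
        exact h3
      · have hj0 : (j : ZMod p) ≠ 0 := by
          rw [Ne, ZMod.natCast_eq_zero_iff]
          exact fun hd => absurd (Nat.le_of_dvd hj hd) (by omega)
        refine ⟨((l : ZMod p) / j).val, Finset.mem_range.2 (ZMod.val_lt _), ?_⟩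
        have h2 : ((((l : ZMod p) / j).val * j : ℕ) : ZMod p) = (l : ℕ) := by
          rw [Nat.cast_mul, ZMod.natCast_rightInverse, div_mul_cancel₀ _ hj0]
        rw [ZMod.natCast_eq_natCast_iff', Nat.mod_eq_of_lt (Finset.mem_range.1 hl)] at h2
        exact h2
    have hL : (∏ i ∈ Finset.range p, F i) =
        θ ^ p * ∏ j ∈ Finset.range q, ∏ l ∈ Finset.range p, twist θ (t ^ (j + 1) * s ^ l) := by
      simp only [hF]
      rw [Finset.prod_comm]
      nth_rewrite 1 [show p = q + 1 from hq]
      rw [Finset.prod_range_succ']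
      refine (mul_comm (G := N →* ℂˣ) _ _).trans ?_
      congr 1
      · simp only [pow_zero, twist_one, Finset.prod_const, Finset.card_range]
      · exact Finset.prod_congr rfl fun j hj =>
          hinner (j + 1) (Nat.succ_pos j) (by have := Finset.mem_range.1 hj; omega)
    have hΦ' : Φ = (∏ j ∈ Finset.range q, ∏ l ∈ Finset.range p, twist θ (t ^ (j + 1) * s ^ l)) * F' := by
      rw [hΦ, hF']
      nth_rewrite 1 [show p = q + 1 from hq]
      rw [Finset.prod_range_succ']
      simp only [pow_zero, one_mul]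
    rw [hL, hΦ']
    exact (mul_assoc (G := N →* ℂˣ) _ _ _).symm
  have hmulfix : ∀ α β : N →* ℂˣ, twist α t = α → twist β t = β → twist (α * β) t = α * β :=
    fun α β ha hb => by
      conv_rhs => rw [← ha, ← hb]
      rfl
  have hfixp : twist (θ ^ p) t = θ ^ p := by
    have hR : twist ((∏ i ∈ Finset.range p, F i) * F') t = (∏ i ∈ Finset.range p, F i) * F' :=
      hmulfix _ _ (by rw [hprod]; exact Finset.prod_congr rfl fun i _ => hFfix i) hF'fix
    rw [← hid] at hR
    have hR' : twist (θ ^ p) t * twist Φ t = θ ^ p * Φ := hR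
    rw [hΦfix] at hR'
    exact mul_right_cancel hR'
  ext n
  obtain ⟨e, he⟩ := exists_pow_eq_self_of_coprime (n := p) (x := n)
    (((Fact.out : p.Prime).coprime_iff_not_dvd).2 fun hd => hcop (hd.trans (orderOf_dvd_natCard n)))
  have h1 := DFunLike.congr_fun hfixp n
  simp only [hpow, MonoidHom.pow_apply, twist_apply, ← map_pow] at h1
  rw [twist_apply, ← he]
  simp only [map_pow]
  simp only [map_pow] at h1
  rw [h1]

omit [N.Normal] in
universe u in
/-- **Sylow `p`-subgroups, `p ≥ 5`, of a solvable rational group are normal.** -/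
theorem sylow_normal {p : ℕ} [Fact p.Prime] (hp : 5 ≤ p) :
    ∀ {G : Type u} [Group G] [Finite G], Group.IsSolvable G → Rat G → ∀ P : Sylow p G,
      (P : Subgroup G).Normal := by
  suffices H : ∀ (n : ℕ) {G : Type u} [Group G] [Finite G], Nat.card G ≤ n → Group.IsSolvable G →
      Rat G → ∀ P : Sylow p G, (P : Subgroup G).Normal from
    fun {G} _ _ hs hR P => H _ le_rfl hs hR P
  intro n
  induction n with
  | zero =>
    intro G _ _ hn
    exact absurd hn (by have := Nat.card_pos (α := G); omega)
  | succ n ih =>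
    intro G _ _ hn hsol hR P
    haveI := hsol
    have hpp : p.Prime := Fact.out
    by_cases htriv : (P : Subgroup G) = ⊥
    · rw [htriv]; infer_instance
    -- a minimal normal subgroup, a `p`-group if there is a normal `p`-subgroup
    have step : ∀ (N : Subgroup G) [N.Normal], N ≠ ⊥ → ((P : Subgroup G) ⊔ N).Normal := by
      intro N _ hN1
      have hlt : Nat.card (G ⧸ N) ≤ n := by
        have h1 := N.card_eq_card_quotient_mul_card_subgroup
        have h2 : 1 < Nat.card N := N.one_lt_card_iff_ne_bot.2 hN1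
        have h3 : 0 < Nat.card (G ⧸ N) := Nat.card_pos
        nlinarith
      have hP' := ih hlt inferInstance (hR.quotient N)
        (Sylow.mapSurjective (QuotientGroup.mk'_surjective N) P)
      rw [Sylow.coe_mapSurjective] at hP'
      have := hP'.comap (QuotientGroup.mk' N)
      rwa [comap_map_eq, QuotientGroup.ker_mk'] at this
    by_cases hO : ∃ C : Subgroup G, C.Normal ∧ C ≠ ⊥ ∧ IsPGroup p C
    · obtain ⟨C, hC, hC1, hCp⟩ := hO
      have := step C hC1
      rwa [sup_eq_left.2 (hCp.le_sylow_of_normal P)] at this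
    · obtain ⟨N, hNn, hN1, hNmin⟩ : ∃ N : Subgroup G, N.Normal ∧ N ≠ ⊥ ∧
          ∀ M : Subgroup G, M.Normal → M ≤ N → M = ⊥ ∨ M = N := by
        haveI : Nontrivial G := by
          by_contra hG
          rw [not_nontrivial_iff_subsingleton] at hG
          exact htriv (Subsingleton.elim _ _)
        exact Solvable.exists_minimal_normal
      have hcomm := Solvable.mul_comm_of_minimal_normal hN1 hNmin
      haveI : IsMulCommutative N := Solvable.isMulCommutative_of_minimal_normal hN1 hNmin
      obtain ⟨q, hq, hNq⟩ := Solvable.exists_prime_pow_eq_one_of_minimal_normal hN1 hNmin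
      haveI : Fact q.Prime := ⟨hq⟩
      have hNqp : IsPGroup q N := fun x => ⟨1, by rw [pow_one]; exact Subtype.ext (hNq x x.2)⟩
      have hqp : q ≠ p := fun h => hO ⟨N, hNn, hN1, h ▸ hNqp⟩
      have hpN : ¬ p ∣ Nat.card N := by
        obtain ⟨j, hj⟩ := IsPGroup.iff_card.1 hNqp
        rw [hj]
        exact fun hd => hqp ((Nat.prime_dvd_prime_iff_eq hpp hq).1 (hpp.dvd_of_dvd_pow hd)).symm
      set M := (P : Subgroup G) ⊔ N with hM
      haveI hMn : M.Normal := step N hN1
      have hPM : (P : Subgroup G) ≤ M := le_sup_left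
      -- the Frattini argument
      set H := normalizer ((P : Subgroup G) : Set G) with hH
      have hsup : N ⊔ H = ⊤ := by
        have h1 := Sylow.normalizer_sup_eq_top' P hPM
        have h2 : M ≤ N ⊔ H := sup_le (le_trans le_normalizer le_sup_right) le_sup_left
        rw [eq_top_iff, ← h1]
        exact sup_le le_sup_right h2
      have hNH : ∀ x ∈ N, x ∈ H → ∀ y ∈ (P : Subgroup G), y * x = x * y := by
        intro x hx hxH y hy
        have h1 : y * x * y⁻¹ * x⁻¹ ∈ N := N.mul_mem (hNn.conj_mem x hx y) (N.inv_mem hx)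
        have h2 : y * x * y⁻¹ * x⁻¹ ∈ (P : Subgroup G) := by
          rw [show y * x * y⁻¹ * x⁻¹ = y * (x * y⁻¹ * x⁻¹) by group]
          exact mul_mem hy ((mem_normalizer_iff.1 hxH _).1 (inv_mem hy))
        obtain ⟨j, hj⟩ := IsPGroup.iff_orderOf.1 P.isPGroup' ⟨_, h2⟩
        rw [Subgroup.orderOf_mk] at hj
        have h3 := Subgroup.orderOf_dvd_natCard _ h1
        rw [hj] at h3
        rcases Nat.eq_zero_or_pos j with rfl | hjpos
        · rw [pow_zero, orderOf_eq_one_iff, mul_inv_eq_one, mul_inv_eq_iff_eq_mul] at hj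
          exact hj
        · exact absurd ((dvd_pow_self p hjpos.ne').trans h3) hpN
      -- `P` acts faithfully on `N`
      have hfaith : ∀ x ∈ (P : Subgroup G), (∀ y ∈ N, x * y = y * x) → x = 1 := by
        intro x hx hxN
        by_contra hx1
        set M' := M ⊓ centralizer (N : Set G) with hM'
        have hset : ∀ z ∈ M', (∃ j, orderOf z = p ^ j) → z ∈ (P : Subgroup G) := by
          rintro z ⟨hzM, hzC⟩ ⟨j, hj⟩
          have hzM' : z ∈ N ⊔ (P : Subgroup G) := by rw [sup_comm]; exact hzM
          rw [Subgroup.mem_sup_of_normal_left] at hzM'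
          obtain ⟨a, ha, b, hb, rfl⟩ := hzM'
          obtain ⟨i, hi⟩ := IsPGroup.iff_orderOf.1 P.isPGroup' ⟨b, hb⟩
          rw [Subgroup.orderOf_mk] at hi
          have hcommab : Commute a b := by
            have h1 := mem_centralizer_iff.1 hzC a ha
            exact mul_left_cancel (a := a) (h1.trans (mul_assoc _ _ _))
          have h2 : a ^ p ^ (i + j) = 1 := by
            have h3 := orderOf_dvd_iff_pow_eq_one.1 (hj ▸ pow_dvd_pow p (Nat.le_add_left j i) :
              orderOf (a * b) ∣ p ^ (i + j))
            rwa [hcommab.mul_pow, orderOf_dvd_iff_pow_eq_one.1 (hi ▸ pow_dvd_pow p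
              (Nat.le_add_right i j) : orderOf b ∣ p ^ (i + j)), mul_one] at h3
          have h4 : orderOf a ∣ Nat.gcd (p ^ (i + j)) (Nat.card N) :=
            Nat.dvd_gcd (orderOf_dvd_of_pow_eq_one h2) (Subgroup.orderOf_dvd_natCard _ ha)
          rw [((hpp.coprime_iff_not_dvd.2 hpN).pow_left _).gcd_eq_one, Nat.dvd_one,
            orderOf_eq_one_iff] at h4
          rwa [h4, one_mul]
        refine hO ⟨M' ⊓ (P : Subgroup G), ⟨fun z hz g => ?_⟩, fun hbot => hx1 ?_,
          P.isPGroup'.to_le inf_le_right⟩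
        · have hg : g * z * g⁻¹ ∈ M' := ⟨hMn.conj_mem z hz.1.1 g,
            (inferInstance : (centralizer (N : Set G)).Normal).conj_mem z hz.1.2 g⟩
          obtain ⟨i, hi⟩ := IsPGroup.iff_orderOf.1 P.isPGroup' ⟨z, hz.2⟩
          rw [Subgroup.orderOf_mk] at hi
          exact ⟨hg, hset _ hg ⟨i, by
            rw [← MulAut.conj_apply, MulEquiv.orderOf_eq, hi]⟩⟩
        · have : x ∈ M' ⊓ (P : Subgroup G) :=
            ⟨⟨hPM hx, mem_centralizer_iff.2 fun y hy => (hxN y hy).symm⟩, hx⟩
          rwa [hbot, mem_bot] at this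
      have hdis : N ⊓ H = ⊥ := by
        have hnorm : (N ⊓ H).Normal := by
          refine ⟨fun z hz g => ?_⟩
          have hg : g ∈ N ⊔ H := by rw [hsup]; trivial
          rw [Subgroup.mem_sup_of_normal_left] at hg
          obtain ⟨a, ha, b, hb, rfl⟩ := hg
          have h1 : b * z * b⁻¹ ∈ N ⊓ H :=
            ⟨hNn.conj_mem z hz.1 b, H.mul_mem (H.mul_mem hb hz.2) (H.inv_mem hb)⟩
          rwa [show a * b * z * (a * b)⁻¹ = a * (b * z * b⁻¹) * a⁻¹ by group,
            hcomm a ha _ h1.1, mul_inv_cancel_right]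
        refine (hNmin _ hnorm inf_le_left).resolve_right fun hall => htriv ?_
        refine (eq_bot_iff_forall _).2 fun x hx => hfaith x hx fun y hy => ?_
        exact hNH y hy ((inf_eq_left.1 hall) hy) x hx
      -- an elementary abelian normal subgroup of `H` inside the centre of `P`
      let P₁ : Subgroup G :=
        { carrier := {x | x ∈ (P : Subgroup G) ∧ x ^ p = 1 ∧
            ∀ y ∈ (P : Subgroup G), x * y = y * x}
          one_mem' := ⟨one_mem _, one_pow p, fun y _ => by rw [one_mul, mul_one]⟩
          mul_mem' := fun {a b} ha hb => ⟨mul_mem ha.1 hb.1, by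
              rw [(show Commute a b from ha.2.2 b hb.1).mul_pow, ha.2.1, hb.2.1, one_mul],
            fun y hy => (Commute.mul_left (ha.2.2 y hy : Commute a y) (hb.2.2 y hy)).eq⟩
          inv_mem' := fun {a} ha => ⟨inv_mem ha.1, by rw [inv_pow, ha.2.1, inv_one],
            fun y hy => (Commute.inv_left (ha.2.2 y hy : Commute a y)).eq⟩ }
      have hP₁H : ∀ g ∈ H, ∀ x ∈ P₁, g * x * g⁻¹ ∈ P₁ := by
        intro g hg x hx
        refine ⟨(mem_normalizer_iff.1 hg x).1 hx.1, by rw [conj_pow, hx.2.1, mul_one, mul_inv_cancel],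
          fun y hy => ?_⟩
        have hy' : g⁻¹ * y * g ∈ (P : Subgroup G) := (mem_normalizer_iff.1 hg _).2 (by
          rw [show g * (g⁻¹ * y * g) * g⁻¹ = y by group]; exact hy)
        calc g * x * g⁻¹ * y = g * (x * (g⁻¹ * y * g)) * g⁻¹ := by group
          _ = g * ((g⁻¹ * y * g) * x) * g⁻¹ := by rw [hx.2.2 _ hy']
          _ = y * (g * x * g⁻¹) := by group
      have hP₁ : P₁ ≠ ⊥ := by
        haveI : Nontrivial (P : Subgroup G) := (Subgroup.nontrivial_iff_ne_bot _).2 htriv
        haveI := P.isPGroup'.center_nontrivial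
        obtain ⟨c, hc⟩ := exists_prime_orderOf_dvd_card' p
          ((P.isPGroup'.to_subgroup (center (P : Subgroup G))).card_eq_or_dvd.resolve_left
            Finite.one_lt_card.ne')
        intro hbot
        have : (c : (P : Subgroup G)).1 ∈ P₁ := ⟨c.1.2, by
          have hcp := pow_orderOf_eq_one c; rw [hc] at hcp; rw [← SubgroupClass.coe_pow, ← SubgroupClass.coe_pow, hcp]; rfl,
          fun y hy => (congrArg Subtype.val (mem_center_iff.1 c.2 ⟨y, hy⟩)).symm⟩
        rw [hbot, mem_bot] at this
        have hc1 : c = 1 := Subtype.ext (Subtype.ext this)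
        rw [hc1, orderOf_one] at hc
        exact hpp.ne_one hc.symm
      -- a minimal stabiliser
      let stab : (N →* ℂˣ) → Subgroup G := fun θ =>
        { carrier := {g | g ∈ P₁ ∧ twist θ g = θ}
          one_mem' := ⟨one_mem _, twist_one θ⟩
          mul_mem' := fun {a b} ha hb => ⟨mul_mem ha.1 hb.1, by rw [← twist_twist, ha.2, hb.2]⟩
          inv_mem' := fun {a} ha => ⟨inv_mem ha.1, by
            nth_rewrite 1 [← ha.2]
            rw [twist_twist, mul_inv_cancel, twist_one]⟩ }
      haveI : Finite (N →* ℂˣ) := inferInstance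
      obtain ⟨θ₀, hθ₀, hmin⟩ : ∃ θ₀, stab θ₀ ≠ ⊥ ∧ ∀ θ, stab θ ≠ ⊥ →
          Nat.card (stab θ₀) ≤ Nat.card (stab θ) := by
        have hone : stab 1 ≠ ⊥ := fun hbot => hP₁ ((eq_bot_iff_forall _).2 fun g hg => by
          have : g ∈ stab 1 := ⟨hg, by ext n; rfl⟩
          rwa [hbot, mem_bot] at this)
        obtain ⟨θ₀, hθ₀, hm⟩ := Set.exists_min_image {θ | stab θ ≠ ⊥}
          (fun θ => Nat.card (stab θ)) (Set.toFinite _) ⟨1, hone⟩
        exact ⟨θ₀, hθ₀, hm⟩
      set S := stab θ₀ with hS
      haveI : Nontrivial S := (Subgroup.nontrivial_iff_ne_bot _).2 hθ₀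
      obtain ⟨⟨t, htS⟩, ht1'⟩ := exists_ne (1 : S)
      have ht1 : t ≠ 1 := fun h => ht1' (Subtype.ext h)
      have hto : orderOf t = p := orderOf_eq_prime htS.1.2.1 ht1
      -- the stabiliser is generated by `t`
      have hcyc : ∀ x ∈ S, x ∈ zpowers t := by
        by_contra hcon
        push Not at hcon
        obtain ⟨s, hs, hst⟩ := hcon
        -- every element of `S` of the line family fixes the same characters as `S`
        have hfix : ∀ u ∈ S, u ≠ 1 → ∀ θ : N →* ℂˣ, twist θ u = θ → ∀ x ∈ S, twist θ x = θ := by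
          intro u hu hu1 θ hθu x hx
          haveI : Fintype S := Fintype.ofFinite S
          set e := Nat.card S with he
          -- the part of `θ` without invariants
          set η : N →* ℂˣ := θ ^ e * (∏ y : S, twist θ (y : G))⁻¹ with hη
          have hcommS : ∀ a ∈ S, ∀ b ∈ S, a * b = b * a := fun a ha b hb => ha.1.2.2 b hb.1.1
          have hprodfix : ∀ a ∈ S, twist (∏ y : S, twist θ (y : G)) a = ∏ y : S, twist θ (y : G) := by
            intro a ha
            refine Eq.trans ?_ (Equiv.prod_comp (Equiv.mulRight (⟨a, ha⟩ : S)) fun y : S => twist θ (y : G))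
            ext n
            simp only [twist_apply, MonoidHom.finsetProd_apply, Equiv.coe_mulRight,
              Subgroup.coe_mul, map_mul, MulAut.mul_apply]
          have hηu : twist η u = η := by
            ext n
            have h1 := DFunLike.congr_fun hθu n
            have h2 := DFunLike.congr_fun (hprodfix u hu) n
            simp only [twist_apply, hη, MonoidHom.mul_apply, MonoidHom.pow_apply,
              MonoidHom.inv_apply] at h1 h2 ⊢
            rw [h1, h2]
          have hηprod : ∏ y : S, twist η (y : G) = 1 := by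
            have e1 : ∀ y : S, twist η (y : G) =
                twist θ (y : G) ^ e * (∏ z : S, twist θ (z : G))⁻¹ := fun y => by
              ext n
              have h2 := DFunLike.congr_fun (hprodfix y y.2) n
              simp only [twist_apply, hη, MonoidHom.mul_apply, MonoidHom.pow_apply,
                MonoidHom.inv_apply] at h2 ⊢
              rw [h2]
            rw [Finset.prod_congr rfl fun y _ => e1 y, Finset.prod_mul_distrib, Finset.prod_pow,
              Finset.prod_const, Finset.card_univ, ← Nat.card_eq_fintype_card, ← he]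
            ext n
            simp only [MonoidHom.mul_apply, MonoidHom.pow_apply, MonoidHom.inv_apply, MonoidHom.one_apply,
              inv_pow, mul_inv_cancel]
          have hcopS : e.Coprime (Nat.card N) := by
            obtain ⟨j, hj⟩ := IsPGroup.iff_card.1 (P.isPGroup'.to_le
              (show S ≤ (P : Subgroup G) from fun z hz => hz.1.1))
            rw [he, hj]
            exact (hpp.coprime_iff_not_dvd.2 hpN).pow_left _
          have hpowinj : ∀ α β : N →* ℂˣ, α ^ e = β ^ e → α = β := fun α β hab => by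
            ext n
            obtain ⟨i, hi⟩ := exists_pow_eq_self_of_coprime
              (hcopS.coprime_dvd_right (orderOf_dvd_natCard n))
            have h' := DFunLike.congr_fun hab n
            simp only [MonoidHom.pow_apply] at h'
            rw [← hi, map_pow, map_pow, map_pow, map_pow, h']
          -- stabiliser of the product
          set ψ := θ₀ * η with hψ
          have hsub : stab ψ ≤ S := by
            rintro z ⟨hz, hzψ⟩
            refine ⟨hz, hpowinj _ _ ?_⟩
            have e2 : ∏ y : S, twist (twist ψ z) (y : G) = ∏ y : S, twist ψ (y : G) := by rw [hzψ]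
            have e3 : ∀ y : S, twist (twist ψ z) (y : G) = twist θ₀ z * twist η (z * (y : G)) := by
              intro y
              ext n
              have h3 := DFunLike.congr_fun y.2.2 (MulAut.conjNormal z n)
              have hc : (z : G) * y = y * z := hz.2.2 y y.2.1.1
              simp only [twist_apply, hψ, MonoidHom.mul_apply, map_mul, MulAut.mul_apply] at h3 ⊢
              rw [← MulAut.mul_apply, ← map_mul, hc, map_mul, MulAut.mul_apply, h3]
            have e4 : ∀ y : S, twist ψ (y : G) = θ₀ * twist η (y : G) := by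
              intro y
              ext n
              have h3 := DFunLike.congr_fun y.2.2 n
              simp only [twist_apply, hψ, MonoidHom.mul_apply] at h3 ⊢
              rw [h3]
            rw [Finset.prod_congr rfl fun y _ => e3 y, Finset.prod_congr rfl fun y _ => e4 y,
              Finset.prod_mul_distrib, Finset.prod_mul_distrib, hηprod,
              Finset.prod_const, Finset.prod_const, Finset.card_univ, ← Nat.card_eq_fintype_card,
              ← he] at e2
            have e5 : ∏ y : S, twist η (z * (y : G)) = 1 := by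
              have e6 : ∀ y : S, twist η (z * (y : G)) = twist (twist η (y : G)) z := fun y => by
                rw [twist_twist, hz.2.2 y y.2.1.1]
              rw [Finset.prod_congr rfl fun y _ => e6 y]
              ext n
              have h4 := DFunLike.congr_fun hηprod (MulAut.conjNormal z n)
              simp only [MonoidHom.finsetProd_apply, twist_apply, MonoidHom.one_apply] at h4 ⊢
              rw [h4]
            rw [e5] at e2
            ext n
            have h5 := DFunLike.congr_fun e2 n
            simp only [MonoidHom.mul_apply, MonoidHom.one_apply, mul_one] at h5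
            rw [h5]
          have huψ : u ∈ stab ψ := ⟨hu.1, by
            ext n
            have h1 := DFunLike.congr_fun hu.2 n
            have h2 := DFunLike.congr_fun hηu n
            simp only [twist_apply, hψ, MonoidHom.mul_apply] at h1 h2 ⊢
            rw [h1, h2]⟩
          have heq : stab ψ = S := eq_of_le_of_card_ge hsub
            (hmin ψ fun hb => hu1 (by rwa [hb, mem_bot] at huψ))
          have hηS : ∀ y ∈ S, twist η y = η := fun y hy => by
            have h1 : y ∈ stab ψ := heq.symm ▸ hy
            ext n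
            have h2 := DFunLike.congr_fun h1.2 n
            have h3 := DFunLike.congr_fun hy.2 n
            simp only [twist_apply, hψ, MonoidHom.mul_apply] at h2 h3 ⊢
            rw [h3] at h2
            exact congrArg Units.val (mul_left_cancel h2)
          have hη1 : η = 1 := by
            rw [Finset.prod_congr rfl fun (y : S) _ => hηS y y.2, Finset.prod_const,
              Finset.card_univ, ← Nat.card_eq_fintype_card, ← he] at hηprod
            exact hpowinj η 1 (by rw [hηprod]; ext n; simp only [MonoidHom.pow_apply, MonoidHom.one_apply, one_pow])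
          refine hpowinj _ _ ?_
          have hη2 : θ ^ e = ∏ y : S, twist θ (y : G) := by
            ext n
            have h6 := DFunLike.congr_fun hη1 n
            simp only [hη, MonoidHom.mul_apply, MonoidHom.inv_apply, MonoidHom.one_apply,
              mul_inv_eq_one] at h6
            rw [h6]
          rw [show twist θ x ^ e = twist (θ ^ e) x from rfl, hη2, hprodfix x hx]
        have hso : s ^ p = 1 := hs.1.2.1
        have hts : Commute t s := htS.1.2.2 s hs.1.1
        have htall : ∀ θ : N →* ℂˣ, twist θ t = θ := fun θ =>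
          twist_fixed_of_lines hpN htS.1.2.1 hso hts
            (fun ψ i hi => hfix _ (S.mul_mem htS (S.pow_mem hs i)) (fun h1 => hst (by
              have hsi : s ^ i = t⁻¹ := eq_inv_of_mul_eq_one_right h1
              have hcop : i.Coprime (orderOf s) := by
                rw [orderOf_eq_prime hso (fun h => hst (h ▸ one_mem _))]
                refine ((Fact.out : p.Prime).coprime_iff_not_dvd.2 fun hd => ht1 ?_).symm
                obtain ⟨d, rfl⟩ := hd
                rw [pow_mul, hso, one_pow] at hsi
                exact inv_eq_one.1 hsi.symm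
              obtain ⟨e, he⟩ := exists_pow_eq_self_of_coprime hcop
              rw [← he, hsi]
              exact pow_mem (inv_mem (mem_zpowers t)) e)) ψ hi t htS)
            (fun ψ hψ => hfix s hs (fun h => hst (h ▸ one_mem _)) ψ hψ t htS) θ
        refine ht1 (hfaith t htS.1.1 fun y hy => ?_)
        by_contra hne
        letI : CommGroup N := { (inferInstance : Group N) with mul_comm := mul_comm' }
        have hne' : (MulAut.conjNormal t (⟨y, hy⟩ : N) : N) * (⟨y, hy⟩ : N)⁻¹ ≠ 1 := by
          intro h1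
          rw [mul_inv_eq_one] at h1
          have h2 := congrArg Subtype.val h1
          rw [MulAut.conjNormal_apply, mul_inv_eq_iff_eq_mul] at h2
          exact hne h2
        obtain ⟨φ, hφ⟩ := CommGroup.exists_apply_ne_one_of_hasEnoughRootsOfUnity N ℂ hne'
        exact hφ (by rw [map_mul, map_inv, mul_inv_eq_one]; exact DFunLike.congr_fun (htall φ) _)
      -- the two conjugations
      have hSH : S ≤ H := fun z hz => le_normalizer hz.1.1
      have hqN : ∀ ψ : N →* ℂˣ, ψ ^ Nat.card N = 1 := fun ψ => by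
        ext m
        rw [MonoidHom.pow_apply, ← map_pow, pow_card_eq_one', map_one, MonoidHom.one_apply]
      obtain ⟨k, hk1, hk2⟩ := Nat.chineseRemainder (hpp.coprime_iff_not_dvd.2 hpN) 2 1
      have hkcop : k.Coprime (orderOf t * Nat.card N) := by
        rw [hto]
        refine Nat.Coprime.mul_right (hpp.coprime_iff_not_dvd.2 fun hd => ?_).symm ?_
        · have h1 := Nat.ModEq.trans (Nat.modEq_zero_iff_dvd.2 hd).symm hk1
          have h2 := Nat.modEq_zero_iff_dvd.1 h1.symm
          have := Nat.le_of_dvd (by norm_num) h2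
          omega
        · rw [Nat.coprime_iff_gcd_eq_one, hk2.gcd_eq]
          exact Nat.gcd_one_left _
      obtain ⟨g, hgH, hgt, hgθ⟩ := exists_conj_twist hR hdis hsup (hSH htS) θ₀ htS.2 hkcop
      have hgθ' : twist θ₀ g = θ₀ := by
        rw [hgθ]
        ext m
        have h1 : θ₀ m ^ k = θ₀ m ^ 1 := by
          rw [pow_eq_pow_iff_modEq]
          exact hk2.of_dvd (orderOf_dvd_of_pow_eq_one (DFunLike.congr_fun (hqN θ₀) m))
        rw [MonoidHom.pow_apply, h1, pow_one]
      have hgt2 : g * t * g⁻¹ = t ^ 2 := by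
        rw [hgt, pow_eq_pow_iff_modEq, hto]
        exact hk1
      set m := orderOf g * Nat.card N with hm
      have hmpos : 0 < m := Nat.mul_pos (orderOf_pos g) Nat.card_pos
      obtain ⟨h, hhH, hhg, hhθ⟩ := exists_conj_twist hR hdis hsup hgH θ₀ hgθ' (k := m - 1) (by
        rcases Nat.lt_or_ge 1 m with h1 | h1
        · exact ((Nat.coprime_self_sub_right h1.le).2 (Nat.coprime_one_right _)).symm
        · rw [← hm, show m = 1 by omega]; exact Nat.coprime_one_right _)
      have hhg' : h * g * h⁻¹ = g⁻¹ := by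
        rw [hhg]
        refine eq_inv_of_mul_eq_one_left ?_
        rw [← pow_succ, Nat.sub_add_cancel hmpos, ← orderOf_dvd_iff_pow_eq_one]
        exact dvd_mul_right _ _
      have hhθ' : twist θ₀ h = θ₀⁻¹ := by
        rw [hhθ]
        ext x
        have hx' : θ₀ x ^ (m - 1) = (θ₀ x)⁻¹ := by
          refine eq_inv_of_mul_eq_one_left ?_
          have h7 := DFunLike.congr_fun (hqN θ₀) x
          rw [MonoidHom.pow_apply, MonoidHom.one_apply] at h7
          rw [← pow_succ, Nat.sub_add_cancel hmpos, hm, mul_comm (orderOf g), pow_mul, h7, one_pow]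
        simp only [MonoidHom.pow_apply, MonoidHom.inv_apply, hx']
      have hht : h * t * h⁻¹ ∈ S := by
        refine ⟨hP₁H h hhH t htS.1, ?_⟩
        ext x
        have e1 := DFunLike.congr_fun hhθ' (MulAut.conjNormal t (MulAut.conjNormal h⁻¹ x))
        have e2 := DFunLike.congr_fun htS.2 (MulAut.conjNormal h⁻¹ x)
        have e3 := DFunLike.congr_fun hhθ' (MulAut.conjNormal h⁻¹ x)
        simp only [twist_apply, MonoidHom.inv_apply] at e1 e2 e3
        have hcomp : ∀ (a b : G) (y : N),
            MulAut.conjNormal a (MulAut.conjNormal b y) = MulAut.conjNormal (a * b) y :=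
          fun a b y => by rw [map_mul, MulAut.mul_apply]
        rw [hcomp h t, hcomp (h * t) h⁻¹] at e1
        rw [hcomp h h⁻¹, mul_inv_cancel, map_one, MulAut.one_apply, ← e2] at e3
        rw [twist_apply, e1, ← e3]
      obtain ⟨j, hj⟩ := (mem_zpowers_iff.1 (hcyc _ hht))
      have hgz : ∀ z : ℤ, g * t ^ z * g⁻¹ = t ^ (2 * z) := fun z => by
        rw [← conj_zpow, hgt2, ← zpow_natCast, ← zpow_mul]; norm_num
      have e1 : h * t * h⁻¹ = h * (g⁻¹ * t ^ (2 : ℤ) * g) * h⁻¹ := by
        rw [zpow_two, ← pow_two, ← hgt2]; group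
      have e2 : h * (g⁻¹ * t ^ (2 : ℤ) * g) * h⁻¹ =
          (h * g * h⁻¹)⁻¹ * (h * t * h⁻¹) ^ (2 : ℤ) * (h * g * h⁻¹) := by
        rw [conj_zpow]; group
      rw [e2, hhg', inv_inv, ← hj, ← zpow_mul, hgz] at e1
      have h4 := (orderOf_dvd_sub_iff_zpow_eq_zpow).2 e1.symm
      rw [hto] at h4
      have hj0 : ¬ (p : ℤ) ∣ j := by
        intro hd
        have h5 : h * t * h⁻¹ = 1 := by
          rw [← hj, ← orderOf_dvd_iff_zpow_eq_one, hto]; exact hd
        rw [mul_inv_eq_one, mul_eq_left] at h5
        exact ht1 h5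
      have h5 : (p : ℤ) ∣ 3 * j := by
        have : 2 * (j * 2) - j = 3 * j := by ring
        rwa [this] at h4
      rcases (Nat.prime_iff_prime_int.1 hpp).dvd_or_dvd h5 with h6 | h6
      · have h7 := Int.le_of_dvd (by norm_num) h6
        omega
      · exact (hj0 h6).elim

end CfsgLib.DistinctClass
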