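import Cfsg.Agent.DistinctClass.Base

/-!
# A Sylow three-subgroup normalised by the involution
-/

set_option autoImplicit false
set_option linter.style.haveILetI false

namespace CfsgLib.DistinctClass

open Subgroup

variable {G : Type*} [Group G] [Finite G]

/-- A three-subgroup normalised by `u` contains only powers of `w` commuting with `u`, when the
centraliser of `u * w` has three-part three. -/
theorem mem_zpowers_of_commute {P : Subgroup G} (hP : IsPGroup 3 P) {u w : G} (hw : orderOf w = 3)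
    (hwP : w ∈ P) (hc : Commute u w) (hv : (cz (u * w)).factorization 3 = 1) {a : G} (ha : a ∈ P)
    (hau : Commute u a) : a ∈ zpowers w := by
  haveI : Fact (Nat.Prime 3) := ⟨Nat.prime_three⟩
  set H := P ⊓ centralizer ({u} : Set G) with hH
  have hwH : w ∈ H := ⟨hwP, mem_centralizer_single.2 hc.symm⟩
  have hHp : IsPGroup 3 H := hP.to_le inf_le_left
  have hC : H ⊓ centralizer ({w} : Set G) = zpowers w := by
    refine (eq_of_le_of_card_ge (le_inf (zpowers_le.2 hwH)
      (zpowers_le.2 (mem_centralizer_single.2 (Commute.refl w)))) ?_).symm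
    obtain ⟨n, hn⟩ := IsPGroup.iff_card.1
      (hHp.to_le (inf_le_left : H ⊓ centralizer ({w} : Set G) ≤ H))
    have hle : H ⊓ centralizer ({w} : Set G) ≤ centralizer ({u * w} : Set G) := fun z hz =>
      mem_centralizer_single.2
        ((mem_centralizer_single.1 hz.1.2).mul_right (mem_centralizer_single.1 hz.2))
    have h1 : 3 ^ n ∣ cz (u * w) := hn ▸ card_dvd_of_le hle
    rw [Nat.prime_three.pow_dvd_iff_le_factorization (cz_pos _).ne', hv] at h1
    rw [hn, Nat.card_zpowers, hw]
    exact (Nat.pow_le_pow_right (by norm_num) h1).trans (pow_one 3).le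
  haveI : Nontrivial H := ⟨⟨⟨w, hwH⟩, 1, fun h => by
    rw [show w = 1 from congrArg Subtype.val h, orderOf_one] at hw
    norm_num at hw⟩⟩
  haveI := hHp.center_nontrivial
  obtain ⟨⟨e, he⟩, he1⟩ := exists_ne (1 : center H)
  have hec : ∀ b ∈ H, Commute b (e : G) := fun b hb =>
    congrArg Subtype.val (mem_center_iff.1 he ⟨b, hb⟩)
  have hew : (e : G) ∈ zpowers w :=
    hC ▸ ⟨e.2, mem_centralizer_single.2 (hec w hwH).symm⟩
  have hgen : zpowers (e : G) = zpowers w := by
    refine eq_of_le_of_card_ge (zpowers_le.2 hew) ?_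
    rw [Nat.card_zpowers, Nat.card_zpowers, hw]
    rcases (Nat.dvd_prime Nat.prime_three).1 ((orderOf_dvd_of_mem_zpowers hew).trans (dvd_of_eq hw))
      with h | h
    · rw [orderOf_eq_one_iff] at h
      exact absurd (Subtype.ext (Subtype.ext h)) he1
    · exact h.ge
  have haH : a ∈ H := ⟨ha, mem_centralizer_single.2 hau.symm⟩
  rw [← hC]
  refine ⟨haH, mem_centralizer_single.2 ?_⟩
  obtain ⟨k, hk⟩ := (hgen ▸ mem_zpowers w : w ∈ zpowers (e : G))
  rw [← show (e : G) ^ k = w from hk]
  exact (hec a haH).zpow_right k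

/-- The odd fixed-point-free involution `u` on `C_N(w)` lets one choose a Sylow subgroup over a
`u`-invariant one of the quotient. -/
theorem exists_sylow_normalised (N : Subgroup G) [N.Normal] (hN : (Nat.card N).Coprime 3) {u w : G}
    (hu : u * u = 1) (hw : orderOf w = 3) (hc : Commute u w)
    (hfx : ∀ n ∈ N, Commute u n → Commute w n → n = 1) (Q : Sylow 3 (G ⧸ N))
    (hwQ : (w : G ⧸ N) ∈ (Q : Subgroup (G ⧸ N)))
    (huQ : ∀ a ∈ (Q : Subgroup (G ⧸ N)), (u : G ⧸ N) * a * (u : G ⧸ N) ∈ (Q : Subgroup (G ⧸ N))) :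
    ∃ P : Sylow 3 G, w ∈ (P : Subgroup G) ∧ ∀ a ∈ (P : Subgroup G), u * a * u ∈ (P : Subgroup G) := by
  classical
  haveI : Fact (Nat.Prime 3) := ⟨Nat.prime_three⟩
  haveI : Fact (Nat.Prime 2) := ⟨Nat.prime_two⟩
  set f := QuotientGroup.mk' N with hf
  set T := (Q : Subgroup (G ⧸ N)).comap f with hT
  have huu : u⁻¹ = u := inv_eq_of_mul_eq_one_right hu
  have huT : ∀ a ∈ T, u * a * u ∈ T := fun a ha => by
    rw [hT, mem_comap, map_mul, map_mul]
    exact huQ _ ha
  have hwT : w ∈ T := hwQ
  have hTi : ¬ 3 ∣ T.index := by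
    rw [hT, index_comap_of_surjective _ (QuotientGroup.mk'_surjective N)]
    exact Q.not_dvd_index
  obtain ⟨S, hS⟩ := (IsPGroup.of_card (n := 1)
    (by rw [Nat.card_zpowers, orderOf_mk, hw, pow_one]) :
      IsPGroup 3 (zpowers (⟨w, hwT⟩ : T))).exists_le_sylow
  set P0 := (S : Subgroup T).map T.subtype with hP0
  have hP0T : P0 ≤ T := map_subtype_le _
  have hwP0 : w ∈ P0 := ⟨⟨w, hwT⟩, hS (mem_zpowers _), rfl⟩
  have hP0c : Nat.card P0 = 3 ^ (Nat.card G).factorization 3 := by
    rw [hP0, card_map_of_injective T.subtype_injective, S.card_eq_multiplicity, ← T.card_mul_index,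
      Nat.factorization_mul Nat.card_pos.ne' T.index_ne_zero_of_finite, Finsupp.add_apply,
      Nat.factorization_eq_zero_of_not_dvd hTi, add_zero]
  -- conjugating by `u`
  let σ : T ≃* T :=
    { toFun := fun a => ⟨u * a * u, huT a a.2⟩
      invFun := fun a => ⟨u * a * u, huT a a.2⟩
      left_inv := fun a => Subtype.ext (by
        show u * (u * (a : G) * u) * u = a
        calc u * (u * (a : G) * u) * u = (u * u) * a * (u * u) := by group
          _ = a := by rw [hu, one_mul, mul_one])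
      right_inv := fun a => Subtype.ext (by
        show u * (u * (a : G) * u) * u = a
        calc u * (u * (a : G) * u) * u = (u * u) * a * (u * u) := by group
          _ = a := by rw [hu, one_mul, mul_one])
      map_mul' := fun a b => Subtype.ext (by
        show u * ((a : G) * b) * u = u * a * u * (u * b * u)
        calc u * ((a : G) * b) * u = u * a * (u * u) * b * u := by rw [hu]; group
          _ = _ := by group) }
  let S' : Sylow 3 T := Sylow.ofCard ((S : Subgroup T).map σ.toMonoidHom) (by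
    rw [card_map_of_injective σ.injective, S.card_eq_multiplicity])
  obtain ⟨t, ht⟩ := MulAction.exists_smul_eq T S S'
  have hconj : ∀ a ∈ P0, (t : G)⁻¹ * (u * a * u) * t ∈ P0 := by
    rintro _ ⟨a, ha, rfl⟩
    have h1 : σ a ∈ (S' : Subgroup T) := ⟨a, ha, rfl⟩
    rw [← ht, Sylow.coe_subgroup_smul] at h1
    obtain ⟨b, hb, hba⟩ := (mem_smul_pointwise_iff_exists _ _ _).1 h1
    refine ⟨b, hb, ?_⟩
    have h2 : (t : G) * b * (t : G)⁻¹ = u * (a : G) * u := congrArg Subtype.val hba
    show (b : G) = _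
    rw [show T.subtype a = (a : G) from rfl, ← h2]
    group
  -- move `t` into `N`
  have hmapQ : P0.map f = (Q : Subgroup (G ⧸ N)) := by
    refine eq_of_le_of_card_ge (map_le_iff_le_comap.2 hP0T) ?_
    have hh : Function.Injective (f.comp P0.subtype) := by
      rw [← MonoidHom.ker_eq_bot_iff, eq_bot_iff]
      intro s hs
      rw [MonoidHom.mem_ker, MonoidHom.comp_apply, hf, QuotientGroup.mk'_apply,
        QuotientGroup.eq_one_iff] at hs
      have hd := PLocal.disjoint_of_isPGroup_of_coprime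
        (IsPGroup.of_card hP0c) hN
      exact mem_bot.2 (Subtype.ext (mem_bot.1 (hd ▸ (⟨s.2, hs⟩ : (s : G) ∈ P0 ⊓ N))))
    have hQc : Nat.card (Q : Subgroup (G ⧸ N)) ≤ Nat.card P0 := by
      rw [Q.card_eq_multiplicity, hP0c]
      exact Nat.pow_le_pow_right (by norm_num)
        ((Nat.factorization_le_iff_dvd Nat.card_pos.ne' Nat.card_pos.ne').2
          (card_quotient_dvd_card N) 3)
    refine hQc.trans (le_of_eq ?_)
    exact Nat.card_congr (Equiv.ofBijective
      (fun s : P0 => (⟨f s, mem_map_of_mem f s.2⟩ : P0.map f))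
      ⟨fun a b h => hh (congrArg Subtype.val h), fun ⟨z, s, hs, hsz⟩ =>
        ⟨⟨s, hs⟩, Subtype.ext hsz⟩⟩)
  obtain ⟨p, hp, hpt⟩ := (hmapQ.symm ▸ t.2 : f (t : G) ∈ P0.map f)
  set n := (t : G) * p⁻¹ with hn
  have hnN : n ∈ N := by
    rw [← QuotientGroup.eq_one_iff]
    show f n = 1
    rw [hn, map_mul, map_inv, hpt, mul_inv_cancel]
  have hconj' : ∀ a ∈ P0, n⁻¹ * (u * a * u) * n ∈ P0 := fun a ha => by
    have h := P0.mul_mem (P0.mul_mem hp (hconj a ha)) (P0.inv_mem hp)
    convert h using 1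
    rw [hn]
    group
  -- `n` centralises `w`
  have hdisj := PLocal.disjoint_of_isPGroup_of_coprime (IsPGroup.of_card hP0c) hN
  have huwu : u * w * u = w := by rw [hc.eq, mul_assoc, hu, mul_one]
  have hwn : Commute w n := by
    have h1 : n⁻¹ * w * n * w⁻¹ ∈ P0 := by
      have := hconj' w hwP0
      rw [huwu] at this
      exact P0.mul_mem this (P0.inv_mem hwP0)
    have h2 : n⁻¹ * w * n * w⁻¹ ∈ N := by
      have h := N.mul_mem (N.inv_mem hnN) ((inferInstance : N.Normal).conj_mem n hnN w)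
      simpa [mul_assoc] using h
    have h3 : n⁻¹ * w * n * w⁻¹ = 1 := mem_bot.1 (hdisj ▸ (⟨h1, h2⟩ : _ ∈ P0 ⊓ N))
    show w * n = n * w
    calc w * n = n * (n⁻¹ * w * n * w⁻¹) * w := by group
      _ = n * w := by rw [h3, mul_one]
  -- `u` inverts the centraliser of `w` in `N`
  set X := N ⊓ centralizer ({w} : Set G) with hX
  have huX : ∀ a ∈ X, u * a * u ∈ X := by
    intro a ha
    refine ⟨by simpa [huu] using (inferInstance : N.Normal).conj_mem a ha.1 u, ?_⟩
    refine mem_centralizer_single.2 ?_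
    show u * a * u * w = w * (u * a * u)
    have h := (mem_centralizer_single.1 ha.2).eq
    calc u * a * u * w = u * (a * w) * u := by rw [mul_assoc _ u w, hc.eq]; group
      _ = u * (w * a) * u := by rw [h]
      _ = w * (u * a * u) := by rw [← mul_assoc u w a, hc.eq]; group
  let θ : X →* X :=
    { toFun := fun a => ⟨u * a * u, huX a a.2⟩
      map_one' := Subtype.ext (by show u * 1 * u = 1; rw [mul_one, hu])
      map_mul' := fun a b => Subtype.ext (by
        show u * ((a : G) * b) * u = u * a * u * (u * b * u)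
        calc u * ((a : G) * b) * u = u * a * (u * u) * b * u := by rw [hu]; group
          _ = _ := by group) }
  have hθ : MonoidHom.FixedPointFree θ := fun a ha => by
    have h : u * (a : G) * u = a := congrArg Subtype.val ha
    refine Subtype.ext (hfx a a.2.1 ?_ (mem_centralizer_single.1 a.2.2).symm)
    calc u * (a : G) = u * a * (u * u) := by rw [hu, mul_one]
      _ = (u * a * u) * u := by group
      _ = a * u := by rw [h]
  have hθ2 : Function.Involutive θ := fun a => Subtype.ext (by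
    show u * (u * (a : G) * u) * u = a
    calc u * (u * (a : G) * u) * u = (u * u) * a * (u * u) := by group
      _ = a := by rw [hu, one_mul, mul_one])
  have hnX : n ∈ X := ⟨hnN, mem_centralizer_single.2 hwn.symm⟩
  obtain ⟨k, hk⟩ : Odd (orderOf (⟨n, hnX⟩ : X)) := by
    rw [← Nat.not_even_iff_odd, even_iff_two_dvd]
    intro h2
    have hz : orderOf ((⟨n, hnX⟩ : X) ^ (orderOf (⟨n, hnX⟩ : X) / 2)) = 2 :=
      orderOf_pow_orderOf_div (orderOf_pos _).ne' h2
    set z := (⟨n, hnX⟩ : X) ^ (orderOf (⟨n, hnX⟩ : X) / 2)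
    have hzi : θ z = z := by
      rw [congrFun (hθ.coe_eq_inv_of_involutive hθ2) z]
      exact inv_eq_of_mul_eq_one_right (by rw [← sq, ← hz, pow_orderOf_eq_one])
    rw [hθ z hzi, orderOf_one] at hz
    norm_num at hz
  set m : X := (⟨n, hnX⟩ : X) ^ (k + 1) with hm
  have hmm : m * m = ⟨n, hnX⟩ := by
    rw [hm, ← pow_add, show k + 1 + (k + 1) = 2 * k + 1 + 1 by ring, ← hk, pow_succ,
      pow_orderOf_eq_one, one_mul]
  have humu : u * (m : G) * u = (m : G)⁻¹ :=
    congrArg Subtype.val (congrFun (hθ.coe_eq_inv_of_involutive hθ2) m)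
  have hmn : (m : G) * m = n := congrArg Subtype.val hmm
  let P' : Sylow 3 G := Sylow.ofCard (P0.map (MulAut.conj (m : G)).toMonoidHom) (by
    rw [card_map_of_injective (MulAut.conj (m : G)).injective, hP0c])
  refine ⟨P', ⟨w, hwP0, ?_⟩, ?_⟩
  · show (m : G) * w * (m : G)⁻¹ = w
    rw [(mem_centralizer_single.1 m.2.2).eq, mul_inv_cancel_right]
  · rintro _ ⟨a, ha, rfl⟩
    refine ⟨n⁻¹ * (u * a * u) * n, hconj' a ha, ?_⟩
    show (m : G) * (n⁻¹ * (u * a * u) * n) * (m : G)⁻¹ = u * ((m : G) * a * (m : G)⁻¹) * u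
    have hm1 : u * (m : G) = (m : G)⁻¹ * u := by
      rw [← humu, mul_assoc _ u u, hu, mul_one]
    have hm2 : (m : G)⁻¹ * u = u * (m : G) := hm1.symm
    calc (m : G) * (n⁻¹ * (u * a * u) * n) * (m : G)⁻¹
        = (m : G) * ((m : G) * m)⁻¹ * (u * a * u) * ((m : G) * m) * (m : G)⁻¹ := by rw [hmn]; group
      _ = ((m : G)⁻¹ * u) * a * (u * m) := by group
      _ = (u * m) * a * ((m : G)⁻¹ * u) := by rw [hm2]
      _ = u * ((m : G) * a * (m : G)⁻¹) * u := by group

end CfsgLib.DistinctClass
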