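import Cfsg.Agent.DistinctClass.FiveModule

/-!
# No centraliser has order twenty-five
-/

set_option autoImplicit false
set_option linter.style.haveILetI false

namespace CfsgLib.DistinctClass

open Subgroup
open scoped commutatorElement

/-- A nilpotent group: an element of the derived group has class smaller than the derived group. -/
theorem index_centralizer_lt {P : Type*} [Group P] [Finite P] [Group.IsNilpotent P] {w : P}
    (hw : w ∈ commutator P) (h1 : w ≠ 1) :
    (centralizer ({w} : Set P)).index < Nat.card (commutator P) := by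
  set K := ⁅(⊤ : Subgroup P), commutator P⁆ with hK
  have hlt : K < commutator P := by
    refine lt_of_le_of_ne (commutator_le_right _ _) fun h => h1 ?_
    obtain ⟨n, hn⟩ := Subgroup.nilpotent_iff_lowerCentralSeries.1 (inferInstance : Group.IsNilpotent P)
    have hs : ∀ i, commutator P ≤ (⊤ : Subgroup P).lowerCentralSeries i := by
      intro i
      induction i with
      | zero => exact le_top
      | succ i ih =>
        rw [Subgroup.lowerCentralSeries_succ, commutator_comm]
        exact h.ge.trans (commutator_mono le_rfl ih)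
    exact mem_bot.1 (hn ▸ hs n hw)
  let f : P ⧸ centralizer ({w} : Set P) → K := Quotient.lift
    (fun g : P => (⟨⁅g, w⁆, commutator_mem_commutator (mem_top g) hw⟩ : K))
    (fun a b hab => by
      have hc := mem_centralizer_singleton_iff.1 (QuotientGroup.leftRel_apply.1 hab)
      refine Subtype.ext ?_
      show a * w * a⁻¹ * w⁻¹ = b * w * b⁻¹ * w⁻¹
      calc a * w * a⁻¹ * w⁻¹ = a * (w * (a⁻¹ * b)) * b⁻¹ * w⁻¹ := by group
        _ = a * ((a⁻¹ * b) * w) * b⁻¹ * w⁻¹ := by rw [hc]
        _ = b * w * b⁻¹ * w⁻¹ := by group)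
  refine lt_of_le_of_lt ?_ (Nat.lt_of_not_ge fun h => hlt.ne (eq_of_le_of_card_ge hlt.le h))
  rw [index_eq_card]
  refine Nat.card_le_card_of_injective f fun a b h => ?_
  induction a using QuotientGroup.induction_on with | H a => ?_
  induction b using QuotientGroup.induction_on with | H b => ?_
  have h' : a * w * a⁻¹ = b * w * b⁻¹ :=
    mul_right_cancel (congrArg Subtype.val h : a * w * a⁻¹ * w⁻¹ = b * w * b⁻¹ * w⁻¹)
  refine QuotientGroup.eq.2 (mem_centralizer_singleton_iff.2 ?_)
  calc a⁻¹ * b * w = a⁻¹ * (b * w * b⁻¹) * b := by group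
    _ = a⁻¹ * (a * w * a⁻¹) * b := by rw [h']
    _ = w * (a⁻¹ * b) := by group

variable {G : Type*} [Group G] [Finite G]

/-- No centraliser has order twenty-five. -/
theorem Base.cz_ne_twentyFive [Nontrivial G] (hB : Base G) (y : G) : cz y ≠ 25 := by
  intro hy
  classical
  haveI : Fact (Nat.Prime 5) := ⟨by norm_num⟩
  haveI : Fact (Nat.Prime 3) := ⟨Nat.prime_three⟩
  haveI : Fact (Nat.Prime 2) := ⟨Nat.prime_two⟩
  haveI := hB.solvable
  obtain ⟨L⟩ := (inferInstance : Nonempty (Sylow 5 G))
  haveI hLn : (L : Subgroup G).Normal := sylow_normal (le_refl 5) hB.solvable hB.rat L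
  have hLne : (L : Subgroup G) ≠ ⊥ := L.ne_bot_of_dvd_card hB.five_dvd
  obtain ⟨D⟩ := exists_fiveData L hLne
  have hy2 : y ^ 5 ^ 2 = 1 := orderOf_dvd_iff_pow_eq_one.1 ((orderOf_dvd_cz y).trans (dvd_of_eq hy))
  have hyL : y ∈ (L : Subgroup G) := mem_sylow_of_normal L hLn hy2
  set y' : (L : Subgroup G) := ⟨y, hyL⟩ with hy'
  have hczL : cz y' ≤ 25 := hy ▸ Nat.card_le_card_of_injective
    (fun c => (⟨((c : (L : Subgroup G)) : G), mem_centralizer_single.2
      (congrArg Subtype.val (mem_centralizer_single.1 c.2).eq)⟩ : centralizer ({y} : Set G)))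
    (fun a b h => Subtype.ext (Subtype.ext (congrArg Subtype.val h :)))
  -- the module
  let ψ : (L : Subgroup G) →* D.W := (QuotientGroup.mk' D.F).subgroupMap (L : Subgroup G)
  have hψ : Function.Surjective ψ := (QuotientGroup.mk' D.F).subgroupMap_surjective _
  have hψc : commutator (L : Subgroup G) ≤ ψ.ker := Abelianization.commutator_subset_ker ψ
  have hkerW : ψ.ker.index = Nat.card D.W := by
    rw [index_ker, MonoidHom.range_eq_top.2 hψ, card_top]
  have hidxle : (commutator (L : Subgroup G)).index ≤ 25 :=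
    (index_commutator_le_cz y').trans hczL
  have hW25le : Nat.card D.W ≤ 25 := by
    refine le_trans ?_ hidxle
    rw [← hkerW]
    exact Nat.le_of_dvd (Nat.pos_of_ne_zero (index_ne_zero_of_finite)) (index_dvd_of_le hψc)
  have hRA : Rat D.act.range := hB.rat.map D.act.rangeRestrict D.act.rangeRestrict_surjective
  have hW : Nat.card D.W = 25 := by
    obtain ⟨e, he⟩ := IsPGroup.iff_card.1 D.isPGroup
    obtain ⟨v, hv⟩ := D.exists_ne
    rcases (show e = 0 ∨ e = 1 ∨ 2 ≤ e by omega) with rfl | rfl | h
    · exfalso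
      haveI := (Nat.card_eq_one_iff_unique.1 he).1
      exact hv (Subsingleton.elim _ _)
    · exfalso
      rw [pow_one] at he
      haveI := isCyclic_of_prime_card (α := D.W) he
      have hcomm : ∀ a b : D.act.range, a * b = b * a := by
        rintro ⟨a, -⟩ ⟨b, -⟩
        refine Subtype.ext (MulEquiv.ext fun u => ?_)
        obtain ⟨c, hc⟩ := IsCyclic.exists_generator (α := D.W)
        obtain ⟨i, hi⟩ := hc (a c)
        obtain ⟨j, hj⟩ := hc (b c)
        obtain ⟨k, rfl⟩ := hc u
        show a (b (c ^ k)) = b (a (c ^ k))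
        rw [map_zpow, map_zpow, map_zpow, map_zpow, ← show c ^ j = b c from hj,
          ← show c ^ i = a c from hi, map_zpow, map_zpow, ← show c ^ i = a c from hi,
          ← show c ^ j = b c from hj]
        simp only [← zpow_mul, mul_comm, mul_left_comm]
      obtain ⟨g, hg⟩ := D.exists_act_sq (hB.rat.quotient D.F) v
      have h2 := hRA.sq_eq_one_of_comm hcomm (D.act.rangeRestrict g)
      have h3 := congrArg (fun a : D.act.range => (a : MulAut D.W) v) h2
      simp only [Subgroup.coe_mul, MonoidHom.coe_rangeRestrict, OneMemClass.coe_one, MulAut.mul_apply,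
        MulAut.one_apply, hg, map_pow] at h3
      have h5 := D.w_pow v
      have h4 : v ^ 3 = 1 := by
        rw [← pow_mul] at h3
        exact mul_right_cancel (b := v) (by rw [one_mul, ← pow_succ]; exact h3)
      exact hv (calc v = v ^ 3 * v ^ 3 * (v ^ 5)⁻¹ := by group
        _ = 1 := by rw [h4, h5]; simp)
    · have h2 : 5 ^ 2 ≤ 5 ^ e := Nat.pow_le_pow_right (by norm_num) h
      omega
  have hker : ψ.ker = commutator (L : Subgroup G) := by
    refine (eq_of_le_of_card_ge hψc ?_).symm
    have e1 := ψ.ker.card_mul_index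
    have e2 := (commutator (L : Subgroup G)).card_mul_index
    rw [hkerW, hW] at e1
    have : Nat.card (L : Subgroup G) ≤ Nat.card (commutator (L : Subgroup G)) * 25 :=
      e2 ▸ Nat.mul_le_mul_left _ hidxle
    omega
  set w : D.W := ψ y' with hw
  have hw1 : w ≠ 1 := by
    intro h
    have hmem : y' ∈ commutator (L : Subgroup G) := hker ▸ MonoidHom.mem_ker.2 h
    have hy1 : y' ≠ 1 := fun h' => by
      have h1 : y = 1 := congrArg Subtype.val h'
      rw [h1, cz_one] at hy
      have := hB.two_dvd
      omega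
    haveI : Group.IsNilpotent (L : Subgroup G) := L.isPGroup'.isNilpotent
    have hlt := index_centralizer_lt hmem hy1
    have e1 := ψ.ker.card_mul_index
    rw [hkerW, hW, hker] at e1
    have e2 := (centralizer ({y'} : Set (L : Subgroup G))).card_mul_index
    have : cz y' * (centralizer ({y'} : Set (L : Subgroup G))).index ≤
        25 * (centralizer ({y'} : Set (L : Subgroup G))).index := Nat.mul_le_mul_right _ hczL
    rw [cz, e2] at this
    omega
  set f := QuotientGroup.mk' D.F with hf
  -- the orbit of `w` is regular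
  have hfree : ∀ g : G, D.act g w = w → D.act g = 1 := by
    intro g hg
    have hle : Nat.card (centralizer ({f y} : Set (G ⧸ D.F))) ≤ 25 :=
      hy ▸ cz_map_le f (QuotientGroup.mk'_surjective _) y
    have hsub : D.W ≤ centralizer ({f y} : Set (G ⧸ D.F)) := fun u hu =>
      mem_centralizer_single.2 (congrArg Subtype.val (D.w_comm ⟨u, hu⟩ w) :)
    have heq := eq_of_le_of_card_ge hsub (hle.trans hW.ge)
    have hmem : f g ∈ D.W := by
      rw [heq]
      refine mem_centralizer_single.2 ?_
      have h := congrArg Subtype.val hg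
      rw [D.act_apply] at h
      exact mul_inv_eq_iff_eq_mul.1 h
    refine MulEquiv.ext fun u => Subtype.ext ?_
    rw [D.act_apply, MulAut.one_apply]
    exact mul_inv_eq_iff_eq_mul.2 (congrArg Subtype.val (D.w_comm ⟨f g, hmem⟩ u))
  set A := D.act.range with hA
  have hA24 : Nat.card A ≤ 24 := by
    have hinj : Function.Injective (fun a : A => (⟨(a : MulAut D.W) w,
        fun h => hw1 ((a : MulAut D.W).injective (h.trans (map_one _).symm))⟩ : {u : D.W // u ≠ 1})) := by
      rintro ⟨_, g, rfl⟩ ⟨_, g', rfl⟩ h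
      have h' : D.act g w = D.act g' w := congrArg Subtype.val h
      have h2 := hfree (g'⁻¹ * g) (by rw [map_mul, map_inv, MulAut.mul_apply, h', MulAut.inv_apply_self])
      rw [map_mul, map_inv, inv_mul_eq_one] at h2
      exact Subtype.ext h2.symm
    refine (Nat.card_le_card_of_injective _ hinj).trans ?_
    haveI := Fintype.ofFinite (G ⧸ D.F)
    rw [Nat.card_eq_fintype_card, Fintype.card_subtype_compl, Fintype.card_subtype_eq,
      ← Nat.card_eq_fintype_card, hW]
  obtain ⟨g, hg⟩ := D.exists_act_sq (hB.rat.quotient D.F) w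
  set a : A := ⟨D.act g, g, rfl⟩ with ha
  have hw5 := D.w_pow w
  have ha2 : ((a * a : A) : MulAut D.W) w = w⁻¹ := by
    rw [Subgroup.coe_mul, MulAut.mul_apply, ha, hg, map_pow, hg, ← pow_mul]
    exact eq_inv_of_mul_eq_one_left (by rw [← pow_succ]; exact hw5)
  have ha4 : a * a * (a * a) = 1 := by
    refine Subtype.ext ?_
    have h := hfree (g * g * (g * g)) (by
      rw [map_mul, map_mul, MulAut.mul_apply,
        show (D.act g * D.act g) w = w⁻¹ from ha2, map_inv,
        show (D.act g * D.act g) w = w⁻¹ from ha2, inv_inv])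
    rw [map_mul, map_mul] at h
    exact h
  set z := a * a with hz
  have hz1 : z ≠ 1 := by
    intro h
    rw [h, OneMemClass.coe_one, MulAut.one_apply] at ha2
    have h1 : w * w = 1 := mul_eq_one_iff_eq_inv.2 ha2
    exact hw1 (calc w = w ^ 5 * ((w * w) * (w * w))⁻¹ := by group
      _ = 1 := by rw [hw5, h1]; simp)
  -- `z` inverts everything
  have hzinv : ∀ u : D.W, (z : MulAut D.W) u = u⁻¹ := by
    obtain ⟨⟨_, k, rfl⟩, hk⟩ := hRA.exists_inv a
    set v := D.act k w with hv
    have hk' : D.act k * D.act g * (D.act k)⁻¹ = (D.act g)⁻¹ := congrArg Subtype.val hk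
    have h1 : (D.act g)⁻¹ v = v ^ 2 := by
      rw [← hk', hv, MulAut.mul_apply, MulAut.mul_apply, MulAut.inv_apply_self, hg, map_pow]
    have h2 : v = (D.act g v) ^ 2 := by
      rw [← map_pow, ← h1, MulAut.apply_inv_self]
    have h3 : D.act g v = v ^ 3 := by
      conv_rhs => rw [h2, ← pow_mul]
      rw [show 2 * 3 = 5 + 1 from rfl, pow_succ, D.w_pow, one_mul]
    let S : Subgroup D.W :=
      { carrier := {u | (z : MulAut D.W) u = u⁻¹}
        mul_mem' := fun {p q} hp hq => by
          show (z : MulAut D.W) (p * q) = (p * q)⁻¹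
          rw [map_mul, hp, hq, mul_inv]
        one_mem' := by
          show (z : MulAut D.W) 1 = 1⁻¹
          rw [map_one, inv_one]
        inv_mem' := fun {p} hp => by
          show (z : MulAut D.W) p⁻¹ = (p⁻¹)⁻¹
          rw [map_inv, hp] }
    have hwS : w ∈ S := ha2
    have hvS : v ∈ S := by
      show (D.act g * D.act g) v = v⁻¹
      rw [MulAut.mul_apply, h3, map_pow, h3, ← pow_mul]
      refine eq_inv_of_mul_eq_one_left ?_
      rw [← pow_succ, show 3 * 3 + 1 = 5 * 2 from rfl, pow_mul, D.w_pow, one_pow]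
    have hv1 : v ≠ 1 := fun h => hw1 ((D.act k).injective (h.trans (map_one _).symm))
    have hvw : v ∉ zpowers w := by
      intro h
      obtain ⟨i, hi⟩ := h
      have h4 : D.act g v = v ^ 2 := by
        rw [← show w ^ i = v from hi, map_zpow, hg]
        group
      rw [h3] at h4
      refine hv1 ?_
      rw [pow_succ] at h4
      exact mul_left_cancel (h4.trans (mul_one _).symm)
    have hStop : S = ⊤ := by
      refine eq_top_of_card_eq _ ?_
      obtain ⟨e, he⟩ := IsPGroup.iff_card.1 (D.isPGroup.to_subgroup S)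
      have hle : Nat.card S ≤ 25 := hW ▸ S.card_le_card_group
      have hlt : Nat.card (zpowers w) < Nat.card S := by
        by_contra hh
        exact hvw ((eq_of_le_of_card_ge (zpowers_le.2 hwS) (Nat.not_lt.1 hh)).symm ▸ hvS)
      rw [Nat.card_zpowers, orderOf_eq_prime (D.w_pow w) hw1] at hlt
      rw [hW]
      rcases (show e ≤ 1 ∨ 2 ≤ e by omega) with h | h
      · have : 5 ^ e ≤ 5 ^ 1 := Nat.pow_le_pow_right (by norm_num) h
        omega
      · have : 5 ^ 2 ≤ 5 ^ e := Nat.pow_le_pow_right (by norm_num) h
        omega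
    exact fun u => (show u ∈ S from hStop ▸ mem_top u)
  have hzc : ∀ b : A, Commute z b := fun b => Subtype.ext (MulEquiv.ext fun u => by
    show (z : MulAut D.W) ((b : MulAut D.W) u) = (b : MulAut D.W) ((z : MulAut D.W) u)
    rw [hzinv, hzinv, map_inv])
  have hz2 : orderOf z = 2 := orderOf_eq_prime (by rw [sq]; exact ha4) hz1
  have ha_ord : orderOf a = 4 := by
    have h := orderOf_eq_prime_pow (p := 2) (n := 1) (x := a)
      (by rw [pow_one, sq]; exact hz1)
      (by rw [show 2 ^ (1 + 1) = 2 + 2 from rfl, pow_add, sq]; exact ha4)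
    simpa using h
  have h4d : 4 ∣ Nat.card A := ha_ord ▸ orderOf_dvd_natCard a
  have h5d : ¬ 5 ∣ Nat.card A := D.five_not_dvd_range L.not_dvd_index
  have hlq : ∀ (M : Subgroup A) [M.Normal], IsPGroup 2 (A ⧸ M) → M.index ≤ 4 := by
    intro M _ hM
    let q := (QuotientGroup.mk' M).comp D.act.rangeRestrict
    have hq : Function.Surjective q :=
      (QuotientGroup.mk'_surjective M).comp D.act.rangeRestrict_surjective
    have hi : q.ker.index = M.index := by
      rw [index_ker, MonoidHom.range_eq_top.2 hq, card_top, index_eq_card]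
    rw [← hi]
    exact hB.index_le_four (hM.of_equiv (QuotientGroup.quotientKerEquivOfSurjective q hq).symm)
  have hpos := Nat.card_pos (α := A)
  obtain ⟨m, hm⟩ := h4d
  rcases (show m = 1 ∨ m = 2 ∨ m = 3 ∨ m = 4 ∨ m = 5 ∨ m = 6 by omega) with
    rfl | rfl | rfl | rfl | rfl | rfl
  · -- order four
    haveI := IsPGroup.isMulCommutative_of_card_eq_prime_sq (p := 2) (G := A) (by rw [hm]; rfl)
    exact hz1 (hRA.sq_eq_one_of_comm (fun p q => mul_comm' p q) a)
  · have := hlq ⊥ ((IsPGroup.of_card (n := 3) (by rw [hm]; rfl) : IsPGroup 2 A).to_quotient ⊥)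
    rw [index_bot, hm] at this
    omega
  swap
  · have := hlq ⊥ ((IsPGroup.of_card (n := 4) (by rw [hm]; rfl) : IsPGroup 2 A).to_quotient ⊥)
    rw [index_bot, hm] at this
    omega
  swap
  · exact h5d ⟨4, by omega⟩
  all_goals
    obtain ⟨T⟩ := (inferInstance : Nonempty (Sylow 3 A))
    have hT : Nat.card (T : Subgroup A) = 3 := by
      obtain ⟨e, he⟩ := IsPGroup.iff_card.1 T.isPGroup'
      have h3 : 3 ∣ Nat.card (T : Subgroup A) := T.dvd_card_of_dvd_card (by omega)
      have h9 : ¬ 3 ^ 2 ∣ Nat.card (T : Subgroup A) := fun h => by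
        have := h.trans (card_subgroup_dvd_card (T : Subgroup A))
        omega
      rcases (show e = 0 ∨ e = 1 ∨ 2 ≤ e by omega) with rfl | rfl | h
      · omega
      · rw [he, pow_one]
      · exact absurd (he ▸ pow_dvd_pow 3 h) h9
    have e := (normalizer ((T : Subgroup A) : Set A)).card_mul_index
    have hnidx : (normalizer ((T : Subgroup A) : Set A)).index = Nat.card (Sylow 3 A) :=
      T.card_eq_index_normalizer.symm
    rw [hnidx] at e
    have hmod : Nat.card (Sylow 3 A) % 3 = 1 := card_sylow_modEq_one 3 A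
    have hdvd : Nat.card (Sylow 3 A) ∣ (T : Subgroup A).index := T.card_dvd_index
    have eT := (T : Subgroup A).card_mul_index
    rw [hT] at eT
    have hTle : (T : Subgroup A) ≤ normalizer ((T : Subgroup A) : Set A) := le_normalizer
    have hzN : z ∈ normalizer ((T : Subgroup A) : Set A) := mem_normalizer_iff.2 fun b => by
      rw [(hzc b).eq, mul_inv_cancel_right]
    by_cases hn1 : Nat.card (Sylow 3 A) = 1
    · haveI : (T : Subgroup A).Normal := by
        rw [← normalizer_eq_top_iff]
        exact eq_top_of_card_eq _ (by rw [hn1, mul_one] at e; exact e)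
      have hTidx : (T : Subgroup A).index ≤ 4 := hlq _ (IsPGroup.of_card
        (n := (T : Subgroup A).index.log2) (by
          rw [← index_eq_card]
          rcases (show (T : Subgroup A).index = 4 ∨ (T : Subgroup A).index = 8 by omega) with h | h <;>
            rw [h] <;> rfl))
      haveI := IsPGroup.isMulCommutative_of_card_eq_prime_sq (p := 2) (G := A ⧸ (T : Subgroup A))
        (by rw [← index_eq_card]; omega)
      have h2 := (hRA.quotient (T : Subgroup A)).sq_eq_one_of_comm (fun p q => mul_comm' p q)
        (QuotientGroup.mk a)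
      rw [← QuotientGroup.mk_mul, QuotientGroup.eq_one_iff] at h2
      have := (T : Subgroup A).orderOf_dvd_natCard h2
      rw [hT, ← hz, hz2] at this
      norm_num at this
    · have hn4 : Nat.card (Sylow 3 A) = 4 := by
        have := Nat.le_of_dvd (by omega) hdvd
        rcases (show (T : Subgroup A).index = 4 ∨ (T : Subgroup A).index = 8 by omega) with h | h <;>
          rw [h] at hdvd this <;> interval_cases hh : Nat.card (Sylow 3 A) <;> omega
      rw [hn4] at e
      obtain ⟨⟨t, htT⟩, ht⟩ := exists_prime_orderOf_dvd_card' 3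
        (show 3 ∣ Nat.card (T : Subgroup A) by rw [hT])
      rw [orderOf_mk] at ht
      have hTt : (T : Subgroup A) = zpowers t :=
        (eq_of_le_of_card_ge (zpowers_le.2 htT) (by rw [Nat.card_zpowers, ht, hT])).symm
      obtain ⟨k, hk⟩ := hRA.exists_inv t
      have hkN : k ∈ normalizer ((T : Subgroup A) : Set A) := by
        rw [mem_normalizer_iff_map_conj_eq, hTt, MonoidHom.map_zpowers]
        show zpowers (k * t * k⁻¹) = _
        rw [hk, zpowers_inv]
      set C := centralizer ({t} : Set A) with hC
      have hCN : C ≤ normalizer ((T : Subgroup A) : Set A) := fun c hc => by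
        rw [mem_normalizer_iff_map_conj_eq, hTt, MonoidHom.map_zpowers]
        show zpowers (c * t * c⁻¹) = _
        rw [(mem_centralizer_single.1 hc).eq, mul_inv_cancel_right]
      have h6 : 6 ∣ Nat.card C := by
        have h2 : 2 ∣ Nat.card C := hz2 ▸ C.orderOf_dvd_natCard (mem_centralizer_single.2 (hzc t))
        have h3 : 3 ∣ Nat.card C := ht ▸ C.orderOf_dvd_natCard (mem_centralizer_single.2 (Commute.refl t))
        omega
      have hkC : k ∈ C := by
        rw [eq_of_le_of_card_ge hCN (by
          have := Nat.le_of_dvd Nat.card_pos h6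
          omega)]
        exact hkN
      have hkt := mem_centralizer_single.1 hkC
      rw [hkt.eq, mul_inv_cancel_right] at hk
      have h2 : t ^ 2 = 1 := by rw [sq]; nth_rewrite 2 [hk]; exact mul_inv_cancel t
      have := orderOf_dvd_of_pow_eq_one h2
      rw [ht] at this
      norm_num at this

end CfsgLib.DistinctClass
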