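import Cfsg.Agent.DistinctClass.NineSection
import Cfsg.Agent.DistinctClass.NineSylow
import Cfsg.Agent.DistinctClass.TwentyFive
import Cfsg.Agent.PLocal.PSolvable

/-!
# No solvable group has all centraliser orders at least five and distinct
-/

set_option autoImplicit false
set_option linter.style.haveILetI false

namespace CfsgLib.DistinctClass

open Subgroup

universe u

variable {G : Type u} [Group G] [Finite G]

/-- The minimal configuration is impossible. -/
theorem Base.not_exists [Nontrivial G] (hB : Base G) : False := by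
  classical
  haveI : Fact (Nat.Prime 2) := ⟨Nat.prime_two⟩
  haveI : Fact (Nat.Prime 3) := ⟨Nat.prime_three⟩
  haveI : Fact (Nat.Prime 5) := ⟨by norm_num⟩
  haveI := hB.solvable
  obtain ⟨x, hx⟩ := hB.exists_six
  obtain ⟨y, hy⟩ := hB.exists_nine_or
  replace hy : cz y = 9 := hy.resolve_right (hB.cz_ne_twentyFive y)
  have hxo := hB.orderOf_eq_six hx
  have hx6 : x ^ 6 = 1 := by rw [← hxo, pow_orderOf_eq_one]
  set u := x ^ 3 with hudef
  set w := x ^ 4 with hwdef
  have hu2 : u * u = 1 := by rw [hudef, ← pow_add]; exact hx6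
  have hu1 : u ≠ 1 := fun h => by
    have := orderOf_dvd_of_pow_eq_one h
    rw [hxo] at this
    norm_num at this
  have hw3 : w ^ 3 = 1 := by rw [hwdef, ← pow_mul, show 4 * 3 = 6 * 2 from rfl, pow_mul, hx6, one_pow]
  have hw1 : w ≠ 1 := fun h => by
    have := orderOf_dvd_of_pow_eq_one h
    rw [hxo] at this
    norm_num at this
  have hwo : orderOf w = 3 := orderOf_eq_prime hw3 hw1
  have huw : Commute u w := (Commute.refl x).pow_pow 3 4
  have huwx : u * w = x := by
    rw [hudef, hwdef, ← pow_add, show 3 + 4 = 6 + 1 from rfl, pow_succ, hx6, one_mul]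
  have hy9 : y ^ 9 = 1 := orderOf_dvd_iff_pow_eq_one.1 (hy ▸ orderOf_dvd_cz y)
  have hy1 : y ≠ 1 := by
    intro h
    rw [h, cz_one] at hy
    have := hB.five_dvd
    omega
  -- the module
  obtain ⟨L⟩ := (inferInstance : Nonempty (Sylow 5 G))
  haveI hLn : (L : Subgroup G).Normal := sylow_normal (le_refl 5) hB.solvable hB.rat L
  obtain ⟨D⟩ := exists_fiveData L (L.ne_bot_of_dvd_card hB.five_dvd)
  have hF2 := D.two_not_dvd
  have hG2 := hB.two_dvd
  have hfx : ∀ v : D.W, D.act x v = v → v = 1 :=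
    D.fpf hF2 hG2 (by omega) (by rw [hxo]; norm_num)
  -- the three-prime core
  set N := Cfsg.pPrimeCore 3 G with hN
  have hNc := PLocal.coprime_card_pPrimeCore 3 G
  set f := QuotientGroup.mk' N with hf
  have hfs : Function.Surjective f := QuotientGroup.mk'_surjective N
  have hNmem : ∀ z : G, ∀ j : ℕ, z ^ 3 ^ j = 1 → z ∈ N → z = 1 := by
    intro z j hz hzN
    exact orderOf_eq_one_iff.1 (Nat.eq_one_of_dvd_coprimes (Nat.Coprime.pow_right j hNc)
      (N.orderOf_dvd_natCard hzN) (orderOf_dvd_of_pow_eq_one hz))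
  have hfw : f w ≠ 1 := fun h => hw1 (hNmem w 1 (by rw [pow_one]; exact hw3) ((QuotientGroup.eq_one_iff w).1 h))
  have hfu : f u ≠ 1 := by
    intro h
    have hfxw : f x = f w := by rw [← huwx, map_mul, h, one_mul]
    have hfw3 : orderOf (f w) = 3 := orderOf_eq_prime (by rw [← map_pow, hw3, map_one]) hfw
    have hle : cz (f w) ≤ 6 := hfxw ▸ (cz_map_le f hfs x).trans hx.le
    have hd : 3 ∣ cz (f w) := (dvd_of_eq hfw3.symm).trans (orderOf_dvd_cz (f w))
    have hv : (cz (f w)).factorization 3 = 1 := by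
      have hge := (Nat.prime_three.pow_dvd_iff_le_factorization (cz_pos (f w)).ne').1
        (by rwa [pow_one] : 3 ^ 1 ∣ cz (f w))
      by_contra hne
      have h9 : 3 ^ 2 ∣ cz (f w) :=
        (Nat.prime_three.pow_dvd_iff_le_factorization (cz_pos (f w)).ne').2 (by omega)
      have := Nat.le_of_dvd (cz_pos _) h9
      omega
    obtain ⟨P, hP⟩ := sylow_eq_zpowers (p := 3) hfw3 hv
    have h9G : 3 ^ 2 ∣ Nat.card (G ⧸ N) := by
      have h1 : 9 ∣ Nat.card G := hy ▸ card_subgroup_dvd_card _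
      rw [card_eq_card_quotient_mul_card_subgroup N] at h1
      exact (Nat.Coprime.pow_left 2 hNc.symm).dvd_of_dvd_mul_right h1
    have hc := P.card_eq_multiplicity
    rw [hP, Nat.card_zpowers, hfw3] at hc
    have h2 := (Nat.prime_three.pow_dvd_iff_le_factorization Nat.card_pos.ne').1 h9G
    have h1 : (Nat.card (G ⧸ N)).factorization 3 = 1 :=
      (Nat.pow_right_injective (by norm_num) ((pow_one 3).trans hc)).symm
    omega
  have huN : u ∉ N := fun h => hfu ((QuotientGroup.eq_one_iff u).2 h)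
  haveI : Group.IsSolvable (G ⧸ N) := Group.isSolvable_of_surjective hfs
  have hyp : NineHyp (G ⧸ N) (f u) (f w) (f y) :=
    { rat := hB.rat.quotient N
      solvable := inferInstance
      cent := PLocal.centralizer_pCore_le PLocal.isPSolvable_of_isSolvable
        (PLocal.pPrimeCore_quotient_pPrimeCore_eq_bot 3 G)
      lq := fun M hM hMp => by
        haveI := hM
        let r := (QuotientGroup.mk' M).comp f
        have hr : Function.Surjective r := (QuotientGroup.mk'_surjective M).comp hfs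
        have hi : r.ker.index = M.index := by
          rw [index_ker, MonoidHom.range_eq_top.2 hr, card_top, index_eq_card]
        rw [← hi]
        exact hB.index_le_four (hMp.of_equiv (QuotientGroup.quotientKerEquivOfSurjective r hr).symm)
      inv := by rw [← map_mul, hu2, map_one]
      inv_ne := hfu
      commute := huw.map f
      cube := orderOf_eq_prime (by rw [← map_pow, hw3, map_one]) hfw
      six := by rw [← map_mul, huwx]; exact (cz_map_le f hfs x).trans hx.le
      nine := (cz_map_le f hfs y).trans hy.le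
      nine_ord := by rw [← map_pow, hy9, map_one]
      nine_ne := fun h => hy1 (hNmem y 2 (by norm_num; exact hy9) ((QuotientGroup.eq_one_iff y).1 h)) }
  obtain ⟨Q, hwQ, huQ, hkill⟩ := hyp.concl
  -- fixed-point-freeness on `N`
  have hxN : ∀ n ∈ N, Commute u n → Commute w n → n = 1 := by
    intro n hn hnu hnw
    have hgen : centralizer ({x} : Set G) = zpowers x :=
      (eq_of_le_of_card_ge (zpowers_le.2 (mem_centralizer_single.2 (Commute.refl x)))
        (by rw [Nat.card_zpowers, hxo]; exact hx.le)).symm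
    obtain ⟨i, hi⟩ : n ∈ zpowers x := hgen ▸ mem_centralizer_single.2 (by
      rw [← huwx]; exact (hnu.mul_left hnw).symm)
    change x ^ i = n at hi
    have h2 : n ^ 2 = 1 := by
      have h4 : (n ^ 2) ^ (3 ^ 1) = 1 := by
        rw [pow_one, ← pow_mul, ← hi, ← zpow_natCast, ← zpow_mul, mul_comm, zpow_mul, zpow_natCast,
          show 2 * 3 = 6 from rfl, hx6, one_zpow]
      exact hNmem _ 1 h4 (N.pow_mem hn 2)
    rcases Int.even_or_odd i with ⟨j, hj⟩ | ⟨j, hj⟩
    · refine hNmem n 1 ?_ hn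
      rw [pow_one, ← hi, hj, ← two_mul, ← zpow_natCast, ← zpow_mul,
        show (2 * j) * ((3 : ℕ) : ℤ) = ((6 : ℕ) : ℤ) * j by push_cast; ring, zpow_mul, zpow_natCast,
        hx6, one_zpow]
    · exfalso
      have hu_eq : n ^ 3 = u := by
        rw [← hi, hj, ← zpow_natCast, ← zpow_mul,
          show (2 * j + 1) * ((3 : ℕ) : ℤ) = ((6 : ℕ) : ℤ) * j + ((3 : ℕ) : ℤ) by push_cast; ring,
          zpow_add, zpow_mul, zpow_natCast, zpow_natCast, hx6, one_zpow, one_mul]
      exact huN (hu_eq ▸ N.pow_mem hn 3)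
  obtain ⟨P, hwP, huP⟩ := exists_sylow_normalised N hNc hu2 hwo huw hxN Q hwQ huQ
  have hv1 : (cz (u * w)).factorization 3 = 1 := by
    rw [huwx, hx, show 6 = 2 * 3 from rfl, Nat.factorization_mul (by norm_num) (by norm_num),
      Finsupp.add_apply, Nat.prime_three.factorization_self,
      Nat.factorization_eq_zero_of_not_dvd (by norm_num)]
  -- a conjugate of `y` inside `P`
  obtain ⟨y', hy', hy'P⟩ : ∃ y' : G, cz y' = 9 ∧ y' ∈ (P : Subgroup G) := by
    have hYp : IsPGroup 3 (zpowers y) := by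
      obtain ⟨i, -, hi⟩ := (Nat.dvd_prime_pow Nat.prime_three (m := 2)).1
        (orderOf_dvd_of_pow_eq_one (by norm_num; exact hy9) : orderOf y ∣ 3 ^ 2)
      exact IsPGroup.of_card (n := i) (by rw [Nat.card_zpowers, hi])
    obtain ⟨S, hS⟩ := hYp.exists_le_sylow
    obtain ⟨k, hk⟩ := MulAction.exists_smul_eq G S P
    refine ⟨k * y * k⁻¹, ?_, ?_⟩
    · rw [← hy]; exact (cz_eq_of_isConj (isConj_iff.2 ⟨k, rfl⟩)).symm
    · rw [← hk, Sylow.coe_subgroup_smul]
      exact (mem_smul_pointwise_iff_exists _ _ _).2 ⟨y, hS (mem_zpowers y), rfl⟩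
  have hy'9 : orderOf y' ∣ 9 := hy' ▸ orderOf_dvd_cz y'
  have hyN : ∀ n ∈ N, Commute y' n → n = 1 := fun n hn hc =>
    orderOf_eq_one_iff.1 (Nat.eq_one_of_dvd_coprimes (Nat.Coprime.pow_right 2 hNc)
      (N.orderOf_dvd_natCard hn)
      ((show orderOf n ∣ 9 from hy' ▸ (centralizer ({y'} : Set G)).orderOf_dvd_natCard
        (mem_centralizer_single.2 hc.symm)).trans (by norm_num)))
  have huP' : ∀ a ∈ (P : Subgroup G), u * a * u ∈ (P : Subgroup G) := huP
  have hPu : ∀ a ∈ (P : Subgroup G), Commute u a → a ∈ zpowers w := fun a ha hau =>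
    mem_zpowers_of_commute P.isPGroup' hwo hwP huw hv1 ha hau
  have hconjN : ∀ (g : G) (m : N), (MulAut.conjNormal g : N ≃* N) m = m → Commute g (m : G) :=
    fun g m h => mul_inv_eq_iff_eq_mul.1 (congrArg Subtype.val h)
  have hwN : ∀ n ∈ N, Commute w n → n = 1 := by
    intro n hn hc
    have h := fpf_of_chain (MulAut.conjNormal : G →* MulAut N) P.isPGroup' hu2 hwP huw huP' hPu hy'P
      (fun m hm => Subtype.ext (hyN m m.2 (hconjN y' m hm)))
      (fun m hm hm' => Subtype.ext (hxN m m.2 (hconjN u m hm) (hconjN w m hm')))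
      ⟨n, hn⟩ (Subtype.ext (by
        show w * n * w⁻¹ = n
        rw [hc.eq, mul_inv_cancel_right]))
    exact congrArg Subtype.val h
  have hwW : ∀ v : D.W, D.act w v = v → v = 1 :=
    fpf_of_chain D.act P.isPGroup' hu2 hwP huw huP' hPu hy'P
      (D.fpf hF2 hG2 (by omega) (fun h => by
        have := h.trans hy'9
        norm_num at this))
      (fun m hm hm' => hfx m (by rw [← huwx, map_mul, MulAut.mul_apply, hm', hm]))
  have hrange := D.five_not_dvd_range L.not_dvd_index
  have htriv : ∀ n ∈ N, D.act n = 1 := act_trivial D.act D.isPGroup hrange hw3 hwW N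
    (fun h => _root_.absurd (Nat.eq_one_of_dvd_coprimes hNc h dvd_rfl) (by norm_num))
    (fun n hn => (inferInstance : N.Normal).conj_mem n hn w) hwN
  let ψ : G ⧸ N →* MulAut D.W := QuotientGroup.lift N D.act (fun n hn => htriv n hn)
  have hψr : ψ.range = D.act.range := by
    ext r
    constructor
    · rintro ⟨g, rfl⟩
      obtain ⟨g, rfl⟩ := QuotientGroup.mk'_surjective N g
      exact ⟨g, rfl⟩
    · rintro ⟨g, rfl⟩
      exact ⟨f g, rfl⟩
  -- an element of order four
  obtain ⟨v, hv⟩ := D.exists_ne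
  obtain ⟨g, hg⟩ := D.exists_act_sq (hB.rat.quotient D.F) v
  obtain ⟨e, m, hm, hord⟩ := Nat.exists_eq_pow_mul_and_not_dvd (orderOf_pos g).ne' 2 (by norm_num)
  have hpow : ∀ i : ℕ, D.act (g ^ i) v = v ^ 2 ^ i := by
    intro i
    induction i with
    | zero => rw [pow_zero, pow_zero, map_one, MulAut.one_apply, pow_one]
    | succ i ih => rw [pow_succ, map_mul, MulAut.mul_apply, hg, map_pow, ih, ← pow_mul, ← pow_succ]
  have hs2 : ∃ k, (f (g ^ m)) ^ 2 ^ k = 1 := ⟨e, by
    rw [← map_pow, ← pow_mul, mul_comm, ← hord, pow_orderOf_eq_one, map_one]⟩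
  have hone := hkill D.W ψ D.isPGroup (hψr ▸ hrange) hwW (f (g ^ m)) hs2
  rw [← map_mul] at hone
  have hone' : D.act (g ^ m * g ^ m) = 1 := hone
  have hfix := hpow (m + m)
  rw [pow_add, hone', MulAut.one_apply, ← two_mul, pow_mul] at hfix
  obtain ⟨j, rfl⟩ := Nat.not_even_iff_odd.1 (fun h => hm h.two_dvd)
  have hmod : ((2 : ℕ) ^ 2) ^ (2 * j + 1) % 5 = 4 := by
    rw [pow_succ, pow_mul, Nat.mul_mod, Nat.pow_mod]
    norm_num
  rw [← Nat.mod_add_div (((2 : ℕ) ^ 2) ^ (2 * j + 1)) 5, hmod, pow_add, pow_mul, D.w_pow, one_pow,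
    mul_one] at hfix
  have h3 : v ^ 3 = 1 := mul_right_cancel (b := v) (by rw [one_mul, ← pow_succ]; exact hfix.symm)
  exact hv (calc v = v ^ 3 * v ^ 3 * (v ^ 5)⁻¹ := by group
    _ = 1 := by rw [h3, D.w_pow]; simp)

end CfsgLib.DistinctClass
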