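import Mathlib

/-!
# The forty-eight monomial matrices of degree three over the field with three elements
-/

set_option autoImplicit false

namespace CfsgLib.DistinctClass

/-- The index of the permutation and the three signs. -/
abbrev SP : Type := Fin 6 × Bool × Bool × Bool

namespace SP

set_option synthInstance.maxSize 2048

/-- The coordinate moved to the given one. -/
def src (k : Fin 6) (j : Fin 3) : Fin 3 :=
  match k.val, j.val with
  | 0, 0 => 0 | 0, 1 => 1 | 0, _ => 2
  | 1, 0 => 2 | 1, 1 => 0 | 1, _ => 1
  | 2, 0 => 1 | 2, 1 => 2 | 2, _ => 0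
  | 3, 0 => 1 | 3, 1 => 0 | 3, _ => 2
  | 4, 0 => 2 | 4, 1 => 1 | 4, _ => 0
  | _, 0 => 0 | _, 1 => 2 | _, _ => 1

/-- The sign attached to a coordinate. -/
def flag (p : SP) (j : Fin 3) : Bool :=
  match j.val with
  | 0 => p.2.1
  | 1 => p.2.2.1
  | _ => p.2.2.2

/-- Recover a permutation index from its values. -/
def idx (a b : Fin 3) : Fin 6 :=
  match a.val, b.val with
  | 0, 1 => 0 | 2, 0 => 1 | 1, 2 => 2 | 1, 0 => 3 | 2, _ => 4 | _, _ => 5

/-- Action on vectors. -/
def app (p : SP) (v : Fin 3 → ZMod 3) (j : Fin 3) : ZMod 3 :=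
  if p.flag j then -(v (src p.1 j)) else v (src p.1 j)

/-- The product. -/
def mul (p q : SP) : SP :=
  (idx (src q.1 (src p.1 0)) (src q.1 (src p.1 1)),
    (p.flag 0 != q.flag (src p.1 0)), (p.flag 1 != q.flag (src p.1 1)),
    (p.flag 2 != q.flag (src p.1 2)))

def one : SP := (0, false, false, false)
def neg : SP := (0, true, true, true)
def cyc : SP := (1, false, false, false)
def eA : SP := (0, false, true, true)
def eB : SP := (0, true, false, true)

/-- The permutation is even. -/
def ev (p : SP) : Bool := decide (p.1.val < 3)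

/-- The product of the signs is one. -/
def pos (p : SP) : Bool := !((p.flag 0 != p.flag 1) != p.flag 2)

/-- The determinant is one. -/
def det1 (p : SP) : Bool := p.ev == p.pos

theorem src_mul : ∀ k l : Fin 6, ∀ j : Fin 3,
    src (idx (src l (src k 0)) (src l (src k 1))) j = src l (src k j) := by decide +kernel

theorem flag_mul (p q : SP) (j : Fin 3) :
    (mul p q).flag j = (p.flag j != q.flag (src p.1 j)) := by
  fin_cases j <;> rfl

theorem app_mul (p q : SP) (v : Fin 3 → ZMod 3) : app (mul p q) v = app p (app q v) := by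
  funext j
  rw [app, flag_mul, show (mul p q).1 = idx (src q.1 (src p.1 0)) (src q.1 (src p.1 1)) from rfl,
    src_mul]
  simp only [app]
  cases p.flag j <;> cases q.flag (src p.1 j) <;> simp

theorem app_add (p : SP) (v w : Fin 3 → ZMod 3) : app p (v + w) = app p v + app p w := by
  funext j
  simp only [app, Pi.add_apply]
  cases p.flag j <;> simp only [Bool.false_eq_true, if_false, if_true]
  abel

theorem app_one : ∀ v : Fin 3 → ZMod 3, app one v = v := by
  intro v
  funext j
  fin_cases j <;> rfl

theorem ext_basis : ∀ p q : SP,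
    (∀ i : Fin 3, app p (Pi.single i 1) = app q (Pi.single i 1)) → p = q := by decide +kernel

theorem app_injective {p q : SP} (h : ∀ v, app p v = app q v) : p = q :=
  ext_basis p q fun i => h _

theorem exists_word : ∀ p : SP, p.ev = true → p.pos = true →
    ∃ a ∈ [one, cyc, mul cyc cyc], ∃ b ∈ [one, eA, eB, mul eA eB], p = mul a b := by decide +kernel

theorem odd_of_inverts : ∀ g : SP, mul g cyc = mul (mul cyc cyc) g → g.ev = false := by decide +kernel

theorem ev_mul : ∀ p q : SP, (mul p q).ev = (p.ev == q.ev) := by decide +kernel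

theorem pos_mul : ∀ p q : SP, (mul p q).pos = (p.pos == q.pos) := by decide +kernel

theorem eq_neg_of_commute : ∀ p q : SP, mul p p = one → p ≠ one → mul q (mul q q) = one → q ≠ one →
    mul p q = mul q p → p = neg := by decide +kernel

theorem twisted : ∃ r : SP, ∃ a : Fin 3 → ZMod 3, r.det1 = true ∧ mul r r ≠ one ∧
    mul (mul r r) (mul r r) = one ∧ a ≠ 0 ∧ app r a = a ∧
    ∀ q : SP, q.det1 = true → mul q r = mul r q → app q a = a := by decide +kernel

/-- A lower bound for a centraliser in the split extension. -/
def bound (S : SP → Bool) (s : SP) (a : Fin 3 → ZMod 3) : ℕ :=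
  (Finset.univ.filter fun v : Fin 3 → ZMod 3 => app s v = v).card *
    (Finset.univ.filter fun q : SP => S q = true ∧ mul q s = mul s q ∧ app q a = a).card

theorem standard_bound : ∀ s : SP, s.pos = true → mul s s = one → s ≠ one →
    ∀ a : Fin 3 → ZMod 3, app s a = a → 7 ≤ bound SP.pos s a := by decide +kernel

theorem full_bound : ∀ s : SP, mul s s = one → s ≠ one →
    ∀ a : Fin 3 → ZMod 3, app s a = a → 7 ≤ bound (fun _ => true) s a := by decide +kernel

/-- The diagonal matrices of determinant one. -/
def diag1 (p : SP) : Bool := decide (p.1.val = 0) && p.pos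

theorem sq_diag : ∀ g : SP, mul (mul (mul g g) (mul g g)) (mul (mul g g) (mul g g)) = one →
    (mul g g).diag1 = true := by decide +kernel

theorem diag_fixed : ∀ q p : SP, mul q (mul q q) = one → q ≠ one → p.diag1 = true →
    mul p q = mul q p → p = one := by decide +kernel

theorem diag_conj : ∀ q p r : SP, mul q r = one → p.diag1 = true →
    (mul (mul q p) r).diag1 = true := by decide +kernel

theorem diag1_mul : ∀ p q : SP, p.diag1 = true → q.diag1 = true → (mul p q).diag1 = true := by
  decide +kernel

theorem diag1_cases : ∀ p : SP, p.diag1 = true → p = one ∨ p = eA ∨ p = eB ∨ p = mul eA eB := by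
  decide +kernel

end SP

end CfsgLib.DistinctClass
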