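import Cfsg.Agent.DistinctClass.Coord
import Cfsg.Agent.DistinctClass.SignedPerm
import Cfsg.Agent.Solvable.Basic

/-!
# Sections of order twenty-seven
-/

set_option autoImplicit false
set_option linter.style.haveILetI false
set_option linter.unusedSectionVars false

namespace CfsgLib.DistinctClass

open Subgroup

namespace SP

theorem app_smul (p : SP) (c : ZMod 3) (v : Fin 3 → ZMod 3) : app p (c • v) = c • app p v := by
  funext j
  simp only [app, Pi.smul_apply, smul_eq_mul]
  cases p.flag j <;> simp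

theorem decompose (f : Fin 3 → ZMod 3) :
    f = f 0 • Pi.single 0 1 + f 1 • Pi.single 1 1 + f 2 • Pi.single 2 1 := by
  funext i
  fin_cases i <;> simp

theorem exists_monomial : ∀ k : Fin 3 → Fin 3, (∀ i j, k i = k j → i = j) → ∀ s : Fin 3 → Bool,
    ∃ p : SP, ∀ i, app p (Pi.single i 1) =
      if s i then -Pi.single (k i) 1 else Pi.single (k i) 1 := by decide +kernel

theorem four_cases : ∀ p g : SP, g.ev = false →
    (p.ev = true ∧ p.pos = true) ∨ ((mul neg p).ev = true ∧ (mul neg p).pos = true) ∨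
    ((mul g p).ev = true ∧ (mul g p).pos = true) ∨
    ((mul neg (mul g p)).ev = true ∧ (mul neg (mul g p)).pos = true) := by decide +kernel

theorem neg_mul_self : mul neg neg = one := by decide +kernel

end SP

theorem isPGroup_three_fixed {M : Type*} [Finite M] {p : ℕ} [Fact p.Prime] (σ : Equiv.Perm M)
    (hσ : σ ^ p = 1) : Nat.card M ≡ Nat.card {m // σ m = m} [MOD p] := by
  have hp : IsPGroup p (zpowers σ) := by
    rintro ⟨_, z, rfl⟩
    refine ⟨1, Subtype.ext ?_⟩
    show (σ ^ z) ^ p ^ 1 = 1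
    rw [pow_one, ← zpow_natCast, ← zpow_mul, mul_comm, zpow_mul, zpow_natCast, hσ, one_zpow]
  have e : Nat.card (MulAction.fixedPoints (zpowers σ) M) = Nat.card {m // σ m = m} := by
    refine Nat.card_congr (Equiv.subtypeEquivRight fun m => ⟨fun h => h ⟨σ, mem_zpowers σ⟩, ?_⟩)
    rintro h ⟨_, z, rfl⟩
    exact Function.IsFixedPt.perm_zpow h z
  exact e ▸ hp.card_modEq_card_fixedPoints M

theorem zmod_cube : ∀ c : ZMod 3, c * (c * c) = 1 → c = 1 := by decide

theorem zmod_neg_cube : ∀ c : ZMod 3, c = (-1) ^ 3 * c → c = 0 := by decide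

theorem zmod_neg_one_cube : (-1 : ZMod 3) ^ 3 * 1 ≠ 1 := by decide

variable {X : Type*} [Group X] [Finite X] {V : Subgroup X} {M : Type*} [AddCommGroup M]
  [Module (ZMod 3) M]

theorem Rep.exists_diagonalisable (R : Rep V M) (hM : Nat.card M = 27) {t : X} (ht : t ∉ V)
    (ht3 : t ^ 3 ∈ V) : ∃ e : X, R.ρ e * R.ρ e = 1 ∧ R.ρ e ≠ 1 ∧ R.ρ e ≠ -1 ∧
      ∀ g h : X, Commute (R.ρ (g * e * g⁻¹)) (R.ρ (h * e * h⁻¹)) := by
  classical
  haveI := R.normal
  haveI := R.solvable
  haveI := R.finite_M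
  haveI : Fact (Nat.Prime 3) := ⟨Nat.prime_three⟩
  haveI : Module.Finite (ZMod 3) M := Module.Finite.of_finite
  have hfin : Module.finrank (ZMod 3) M = 3 := by
    have := Module.natCard_eq_pow_finrank (K := ZMod 3) (V := M)
    rw [hM, Nat.card_zmod] at this
    exact (Nat.pow_right_injective (le_refl 2 |>.trans (by norm_num))
      ((show 3 ^ 3 = 27 from rfl).trans this)).symm
  let d : X →* ZMod 3 := (LinearMap.det : Module.End (ZMod 3) M →* ZMod 3).comp R.ρ
  have hd : ∀ a, d a = LinearMap.det (R.ρ a) := fun _ => rfl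
  set X0 := d.toHomUnits.ker with hX0
  have hX0mem : ∀ a, a ∈ X0 ↔ d a = 1 := fun a => by
    rw [MonoidHom.mem_ker, Units.ext_iff, MonoidHom.coe_toHomUnits, Units.val_one]
  set q := QuotientGroup.mk' V with hq
  haveI : (X0.map q).Normal := Subgroup.Normal.map inferInstance q (QuotientGroup.mk'_surjective V)
  haveI : Group.IsSolvable (X ⧸ V) := Group.isSolvable_of_surjective (QuotientGroup.mk'_surjective V)
  have htX0 : t ∈ X0 := by
    rw [hX0mem]
    have h : d t * (d t * d t) = 1 := by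
      rw [← map_mul, ← map_mul, ← pow_three, hd, R.rho_of_mem ht3, map_one]
    exact zmod_cube _ h
  have hne : X0.map q ≠ ⊥ := fun h => by
    have h1 := h ▸ mem_map_of_mem q htX0
    exact ht ((QuotientGroup.eq_one_iff t).1 (mem_bot.1 h1))
  obtain ⟨E, hEn, hEne, hEle, hmin⟩ := Solvable.exists_minimal_normal_le inferInstance hne
  haveI := hEn
  obtain ⟨p, hp, hexp⟩ := Solvable.exists_prime_pow_eq_one_of_minimal_normal hEne hmin
  have hcomm := Solvable.mul_comm_of_minimal_normal hEne hmin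
  haveI := Fact.mk hp
  have hp3 : p ≠ 3 := by
    rintro rfl
    exact hEne (R.eq_bot_of_isPGroup fun x => ⟨1, by
      rw [pow_one]; exact Subtype.ext (hexp x x.2)⟩)
  obtain ⟨⟨ε, hεE⟩, hε1⟩ : ∃ x : E, x ≠ 1 := by
    haveI := (Subgroup.nontrivial_iff_ne_bot E).2 hEne
    exact exists_ne 1
  obtain ⟨e, heX0, heε⟩ := hEle hεE
  have hconjE : ∀ g : X, q (g * e * g⁻¹) ∈ E := fun g => by
    rw [map_mul, map_mul, map_inv, heε]
    exact hEn.conj_mem ε hεE (q g)
  have hep : R.ρ e ^ p = 1 := by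
    rw [← map_pow]
    refine R.rho_of_mem ((QuotientGroup.eq_one_iff _).1 ?_)
    show q (e ^ p) = 1
    rw [map_pow, heε]
    exact hexp ε hεE
  have he1 : R.ρ e ≠ 1 := fun h => hε1 (Subtype.ext (by
    show ε = 1
    rw [← heε]
    exact (QuotientGroup.eq_one_iff e).2 (R.mem_of_rho h)))
  have hd1 : d e = 1 := (hX0mem e).1 heX0
  have hp2 : p = 2 := by
    by_contra hp2
    have hp5 : 5 ≤ p := by
      have := hp.two_le
      rcases (show p = 2 ∨ p = 3 ∨ p = 4 ∨ 5 ≤ p by omega) with h | h | h | h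
      · exact absurd h hp2
      · exact absurd h hp3
      · exact absurd (h ▸ hp) (by decide)
      · exact h
    -- a fixed vector, from a conjugator to the inverse
    obtain ⟨g, hg⟩ := R.rat.exists_inv e
    have hdet : LinearMap.det (R.ρ e - 1) = 0 := by
      have h1 : LinearMap.det (R.ρ e⁻¹ - 1) = LinearMap.det (R.ρ e - 1) := by
        have : R.ρ e⁻¹ - 1 = R.ρ g * (R.ρ e - 1) * R.ρ g⁻¹ := by
          rw [← hg, map_mul, map_mul, mul_sub, sub_mul, mul_one, ← map_mul R.ρ g g⁻¹, mul_inv_cancel,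
            map_one]
        rw [this, map_mul, map_mul, mul_comm (LinearMap.det (R.ρ g)), mul_assoc, ← map_mul LinearMap.det,
          ← map_mul R.ρ, mul_inv_cancel, map_one, map_one, mul_one]
      have h2 : R.ρ e⁻¹ * (R.ρ e - 1) = (-1 : ZMod 3) • (R.ρ e⁻¹ - 1) := by
        rw [mul_sub, mul_one, ← map_mul, inv_mul_cancel, map_one, neg_one_smul, neg_sub]
      have h3 : d e⁻¹ = 1 := (hX0mem _).1 (X0.inv_mem heX0)
      have h4 := congrArg LinearMap.det h2
      rw [map_mul, ← hd, h3, one_mul, LinearMap.det_smul, hfin, h1] at h4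
      exact zmod_neg_cube _ h4
    have hk := LinearMap.bot_lt_ker_of_det_eq_zero hdet
    obtain ⟨v, hv, hv0⟩ := SetLike.exists_of_lt hk
    have hunit : Function.Bijective (R.ρ e) :=
      ⟨fun a b h => by simpa [R.rho_cancel] using congrArg (R.ρ e⁻¹) h,
        fun a => ⟨R.ρ e⁻¹ a, R.rho_cancel' e a⟩⟩
    set σ : Equiv.Perm M := Equiv.ofBijective _ hunit with hσ
    have hσp : σ ^ p = 1 := by
      refine Equiv.ext fun m => ?_
      rw [← Equiv.Perm.iterate_eq_pow, Equiv.Perm.one_apply]
      show (R.ρ e : M → M)^[p] m = m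
      rw [← Module.End.coe_pow, hep, Module.End.one_apply]
    have hmod := isPGroup_three_fixed σ hσp
    set F := LinearMap.ker (R.ρ e - 1) with hF
    have hFc : Nat.card {m // σ m = m} = Nat.card F := Nat.card_congr (Equiv.subtypeEquivRight fun m => by
      rw [hF, LinearMap.mem_ker, LinearMap.sub_apply, sub_eq_zero, Module.End.one_apply]
      rfl)
    rw [hFc, hM] at hmod
    have hFd : Nat.card F ∣ 27 := hM ▸ F.toAddSubgroup.card_addSubgroup_dvd_card
    have hF1 : Nat.card F ≠ 1 := fun h => by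
      haveI := (Nat.card_eq_one_iff_unique.1 h).1
      exact hv0 (by
        have : (⟨v, hv⟩ : F) = 0 := Subsingleton.elim _ _
        exact congrArg Subtype.val this)
    have hF27 : Nat.card F ≠ 27 := fun h => he1 (LinearMap.ext fun m => by
      have hb : Function.Bijective (Subtype.val : F → M) :=
        Subtype.val_injective.bijective_of_nat_card_le (by rw [h, hM])
      obtain ⟨⟨m', hm'⟩, rfl⟩ := hb.2 m
      rw [hF, LinearMap.mem_ker, LinearMap.sub_apply, sub_eq_zero] at hm'
      exact hm')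
    obtain ⟨i, hi, hieq⟩ := (Nat.dvd_prime_pow Nat.prime_three (m := 3)).1 hFd
    rw [hieq] at hmod hF1 hF27
    have hdiv : p ∣ 24 ∨ p ∣ 18 := by
      interval_cases i
      · exact absurd rfl hF1
      · exact Or.inl ((Nat.modEq_iff_dvd' (by norm_num)).1 hmod.symm)
      · exact Or.inr ((Nat.modEq_iff_dvd' (by norm_num)).1 hmod.symm)
      · exact absurd rfl hF27
    rcases hdiv with h | h
    · rcases hp.dvd_mul.1 (show p ∣ 8 * 3 from h) with h' | h'
      · have := (Nat.prime_dvd_prime_iff_eq hp Nat.prime_two).1 (hp.dvd_of_dvd_pow (show p ∣ 2 ^ 3 from h'))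
        omega
      · have := (Nat.prime_dvd_prime_iff_eq hp Nat.prime_three).1 h'
        omega
    · rcases hp.dvd_mul.1 (show p ∣ 2 * 9 from h) with h' | h'
      · have := (Nat.prime_dvd_prime_iff_eq hp Nat.prime_two).1 h'
        omega
      · have := (Nat.prime_dvd_prime_iff_eq hp Nat.prime_three).1 (hp.dvd_of_dvd_pow (show p ∣ 3 ^ 2 from h'))
        omega
  subst hp2
  refine ⟨e, by rw [← sq]; exact hep, he1, fun h => ?_, fun g h => ?_⟩
  · rw [hd, h, show (-1 : Module.End (ZMod 3) M) = (-1 : ZMod 3) • 1 by rw [neg_one_smul],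
      LinearMap.det_smul, hfin, map_one] at hd1
    exact zmod_neg_one_cube hd1
  · show R.ρ (g * e * g⁻¹) * R.ρ (h * e * h⁻¹) = R.ρ (h * e * h⁻¹) * R.ρ (g * e * g⁻¹)
    set a := g * e * g⁻¹
    set b := h * e * h⁻¹
    have hmem : a * b * (b * a)⁻¹ ∈ V := by
      refine (QuotientGroup.eq_one_iff _).1 ?_
      show q (a * b * (b * a)⁻¹) = 1
      rw [map_mul, map_inv, map_mul q a b, map_mul q b a, hcomm _ (hconjE g) _ (hconjE h), mul_inv_cancel]
    have h1 := R.rho_of_mem hmem
    calc R.ρ a * R.ρ b = R.ρ (a * b * (b * a)⁻¹) * R.ρ (b * a) := by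
          rw [← map_mul, ← map_mul, inv_mul_cancel_right]
      _ = _ := by rw [h1, one_mul, map_mul]

/-- Coordinates for a section of order twenty-seven. -/
structure Coords (R : Rep V M) where
  π : X → SP
  ι : (Fin 3 → ZMod 3) → M
  ι_bij : Function.Bijective ι
  spec : ∀ a f, R.ρ a (ι f) = ι (SP.app (π a) f)
  ι_add : ∀ f g, ι (f + g) = ι f + ι g
  hA : ∃ a, π a = SP.eA
  hB : ∃ a, π a = SP.eB
  hC : ∃ a, π a = SP.cyc
  odd : ∃ a, (π a).ev = false

theorem Coords.π_eq {R : Rep V M} (C : Coords R) {a : X} {p : SP}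
    (h : ∀ f, R.ρ a (C.ι f) = C.ι (SP.app p f)) : C.π a = p :=
  SP.app_injective fun f => C.ι_bij.1 ((C.spec a f).symm.trans (h f))

theorem Coords.π_mul {R : Rep V M} (C : Coords R) (a b : X) :
    C.π (a * b) = SP.mul (C.π a) (C.π b) :=
  C.π_eq fun f => by rw [map_mul, Module.End.mul_apply, C.spec, C.spec, SP.app_mul]

theorem Coords.π_one {R : Rep V M} (C : Coords R) : C.π 1 = SP.one :=
  C.π_eq fun f => by rw [map_one, Module.End.one_apply, SP.app_one]

theorem Coords.π_eq_one_iff {R : Rep V M} (C : Coords R) (a : X) : C.π a = SP.one ↔ a ∈ V := by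
  refine ⟨fun h => R.mem_of_rho (LinearMap.ext fun m => ?_), fun h => C.π_eq fun f => by
    rw [R.rho_of_mem h, Module.End.one_apply, SP.app_one]⟩
  obtain ⟨f, rfl⟩ := C.ι_bij.2 m
  rw [C.spec, h, SP.app_one, Module.End.one_apply]

theorem Rep.exists_coords (R : Rep V M) (hM : Nat.card M = 27) {t : X} (ht : t ∉ V)
    (ht3 : t ^ 3 ∈ V) (hfix : Nat.card {m : M // R.ρ t m = m} ≤ 3) : Nonempty (Coords R) := by
  classical
  haveI := R.finite_M
  obtain ⟨e, hee, he1, hem1, hcom⟩ := R.exists_diagonalisable hM ht ht3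
  have hinv : ∀ m, R.ρ e (R.ρ e m) = m := fun m => by
    rw [← Module.End.mul_apply, hee, Module.End.one_apply]
  have hneg2 : ∀ m : M, -(m + m) = m := fun m => by
    have h : m + m = (2 : ZMod 3) • m := by rw [show (2 : ZMod 3) = 1 + 1 from rfl, add_smul, one_smul]
    rw [h, ← neg_smul, show -(2 : ZMod 3) = 1 from rfl, one_smul]
  set F := LinearMap.ker (R.ρ e - 1) with hF
  set I := LinearMap.ker (R.ρ e + 1) with hI
  have hmF : ∀ m, m ∈ F ↔ R.ρ e m = m := fun m => by
    rw [hF, LinearMap.mem_ker, LinearMap.sub_apply, sub_eq_zero, Module.End.one_apply]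
  have hmI : ∀ m, m ∈ I ↔ R.ρ e m = -m := fun m => by
    rw [hI, LinearMap.mem_ker, LinearMap.add_apply, Module.End.one_apply, add_eq_zero_iff_eq_neg]
  have hcard : Nat.card F * Nat.card I = 27 := by
    rw [← hM, ← Nat.card_prod]
    refine Nat.card_eq_of_bijective (fun p => (p.1 : M) + p.2) ⟨fun p q h => ?_, fun m => ?_⟩
    · have h' : (p.1 : M) + p.2 = q.1 + q.2 := h
      have h2 := congrArg (R.ρ e) h'
      rw [map_add, map_add, (hmF _).1 p.1.2, (hmF _).1 q.1.2, (hmI _).1 p.2.2, (hmI _).1 q.2.2] at h2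
      have h1 : (p.1 : M) = q.1 := by
        rw [← hneg2 (p.1 : M), ← hneg2 (q.1 : M)]
        congr 1
        linear_combination (norm := module) h' + h2
      exact Prod.ext (Subtype.ext h1) (Subtype.ext (by rw [h1] at h'; exact add_left_cancel h'))
    · refine ⟨(⟨-(m + R.ρ e m), (hmF _).2 (by rw [map_neg, map_add, hinv, add_comm])⟩,
        ⟨-(m - R.ρ e m), (hmI _).2 (by rw [map_neg, map_sub, hinv]; abel)⟩), ?_⟩
      show -(m + R.ρ e m) + -(m - R.ρ e m) = m
      conv_rhs => rw [← hneg2 m]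
      abel
  have hF27 : Nat.card F ≠ 27 := fun h => he1 (LinearMap.ext fun m => by
    obtain ⟨⟨m', hm'⟩, rfl⟩ := ((Subtype.val_injective : Function.Injective (Subtype.val : F → M)
      ).bijective_of_nat_card_le (by rw [h, hM])).2 m
    exact (hmF _).1 hm')
  have hI27 : Nat.card I ≠ 27 := fun h => hem1 (LinearMap.ext fun m => by
    obtain ⟨⟨m', hm'⟩, rfl⟩ := ((Subtype.val_injective : Function.Injective (Subtype.val : I → M)
      ).bijective_of_nat_card_le (by rw [h, hM])).2 m
    rw [LinearMap.neg_apply, Module.End.one_apply]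
    exact (hmI _).1 hm')
  -- the sign with a line as eigenspace
  obtain ⟨s, hs, hline, hplane⟩ : ∃ s : ZMod 3, s * s = 1 ∧
      Nat.card {m // R.ρ e m = s • m} = 3 ∧ Nat.card {m // R.ρ e m = -(s • m)} = 9 := by
    have hFd : Nat.card F ∣ 27 := Dvd.intro _ hcard
    have c1 : Nat.card {m // R.ρ e m = (1 : ZMod 3) • m} = Nat.card F :=
      Nat.card_congr (Equiv.subtypeEquivRight fun m => by rw [one_smul, hmF])
    have c2 : Nat.card {m // R.ρ e m = -((1 : ZMod 3) • m)} = Nat.card I :=
      Nat.card_congr (Equiv.subtypeEquivRight fun m => by rw [one_smul, hmI])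
    have c3 : Nat.card {m // R.ρ e m = (-1 : ZMod 3) • m} = Nat.card I :=
      Nat.card_congr (Equiv.subtypeEquivRight fun m => by rw [neg_one_smul, hmI])
    have c4 : Nat.card {m // R.ρ e m = -((-1 : ZMod 3) • m)} = Nat.card F :=
      Nat.card_congr (Equiv.subtypeEquivRight fun m => by rw [neg_one_smul, neg_neg, hmF])
    obtain ⟨i, hi, hieq⟩ := (Nat.dvd_prime_pow Nat.prime_three (m := 3)).1 hFd
    rw [hieq] at hcard hF27
    interval_cases i
    · exact absurd (by simpa using hcard) hI27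
    · exact ⟨1, one_mul 1, c1.trans hieq, by rw [c2]; omega⟩
    · exact ⟨-1, by decide, by rw [c3]; omega, c4.trans hieq⟩
    · exact absurd rfl hF27
  have hs0 : s ≠ 0 := fun h => by rw [h] at hs; exact absurd hs (by decide)
  have hss : ∀ m : M, s • (s • m) = m := fun m => by rw [smul_smul, hs, one_smul]
  obtain ⟨v₁, hv₁, hv₁0⟩ : ∃ v, R.ρ e v = s • v ∧ v ≠ 0 := by
    by_contra h
    push Not at h
    haveI : Subsingleton {m // R.ρ e m = s • m} :=
      ⟨fun a b => Subtype.ext ((h a.1 a.2).trans (h b.1 b.2).symm)⟩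
    have hle := Finite.card_le_one_iff_subsingleton.2 this
    omega
  have hspan : ∀ m, R.ρ e m = s • m → ∃ c : ZMod 3, m = c • v₁ := by
    have hb : Function.Bijective (fun c : ZMod 3 =>
        (⟨c • v₁, by rw [map_smul, hv₁, smul_comm]⟩ : {m // R.ρ e m = s • m})) := by
      refine Function.Injective.bijective_of_nat_card_le (fun a b h => ?_) (by rw [hline, Nat.card_zmod])
      have h' : a • v₁ = b • v₁ := congrArg Subtype.val h
      rw [← sub_eq_zero, ← sub_smul, smul_eq_zero] at h'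
      exact sub_eq_zero.1 (h'.resolve_right hv₁0)
    intro m hm
    obtain ⟨c, hc⟩ := hb.2 ⟨m, hm⟩
    exact ⟨c, (congrArg Subtype.val hc).symm⟩
  set E : X → Module.End (ZMod 3) M := fun g => R.ρ (g * e * g⁻¹) with hE
  set v : X → M := fun g => R.ρ g v₁ with hv
  have hEapp : ∀ g m, E g m = R.ρ g (R.ρ e (R.ρ g⁻¹ m)) := fun g m => by
    simp only [hE, map_mul, Module.End.mul_apply]
  have hEinv : ∀ g m, E g (E g m) = m := fun g m => by
    rw [hEapp, hEapp, R.rho_cancel, hinv, R.rho_cancel']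
  have hEv : ∀ g, E g (v g) = s • v g := fun g => by
    rw [hEapp, hv]; simp only [R.rho_cancel, hv₁, map_smul]
  have hEline : ∀ g m, E g m = s • m → ∃ c : ZMod 3, m = c • v g := by
    intro g m hm
    rw [hEapp] at hm
    obtain ⟨c, hc⟩ := hspan (R.ρ g⁻¹ m) (by
      have := congrArg (R.ρ g⁻¹) hm
      rwa [R.rho_cancel, map_smul] at this)
    exact ⟨c, by rw [hv]; simp only [← map_smul, ← hc, R.rho_cancel']⟩
  have hv0 : ∀ g, v g ≠ 0 := fun g h => hv₁0 (by
    have := congrArg (R.ρ g⁻¹) h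
    rwa [hv, R.rho_cancel, map_zero] at this)
  have hcomE : ∀ g h m, E g (E h m) = E h (E g m) := fun g h m =>
    congrArg (fun S : Module.End (ZMod 3) M => S m) (hcom g h).eq
  have hopp : ∀ g h, (∀ c : ZMod 3, v g ≠ c • v h) → E h (v g) = -(s • v g) := by
    intro g h hne
    obtain ⟨c, hc⟩ := hEline g (E h (v g)) (by rw [hcomE, hEv, map_smul])
    have h2 : c * c = 1 := by
      have h' := hEinv h (v g)
      rw [hc, map_smul, hc, smul_smul] at h'
      by_contra hne'
      exact hv0 g ((smul_eq_zero.1 (show (c * c - 1) • v g = 0 by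
        rw [sub_smul, h', one_smul, sub_self])).resolve_left (sub_ne_zero.2 hne'))
    have hcs : c = s ∨ c = -s := by
      revert h2 hs
      generalize c = a
      generalize s = b
      revert a b
      decide
    rcases hcs with rfl | rfl
    · obtain ⟨d, hd⟩ := hEline h (v g) hc
      exact absurd hd (hne d)
    · rw [hc, neg_smul]
  have hsame : ∀ g h, (∃ c : ZMod 3, v g = c • v h) → E g = E h := by
    rintro g h ⟨c, hc⟩
    have hc0 : c ≠ 0 := fun h0 => hv0 g (by rw [hc, h0, zero_smul])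
    have hh : E g (v h) = s • v h := by
      have h' := hEv g
      rw [hc, map_smul, smul_comm] at h'
      exact smul_right_injective M hc0 h'
    refine LinearMap.ext fun m => ?_
    set a := -(m + s • E h m) with ha
    set b := -(m - s • E h m) with hb
    have hab : m = a + b := by
      rw [ha, hb]
      conv_lhs => rw [← hneg2 m]
      abel
    have ha' : E h a = s • a := by
      rw [ha, map_neg, map_add, map_smul, hEinv, smul_neg, smul_add, hss, add_comm]
    have hb' : E h b = -(s • b) := by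
      rw [hb, map_neg, map_sub, map_smul, hEinv, smul_neg, smul_sub, hss, neg_neg]
      abel
    obtain ⟨d, hd⟩ := hEline h a ha'
    have hga : E g a = s • a := by rw [hd, map_smul, hh, smul_comm]
    have hgb : E g b = -(s • b) := by
      set q := E g b + s • b with hq
      obtain ⟨k, hk⟩ := hEline g q (by rw [hq, map_add, map_smul, hEinv, smul_add, hss, add_comm])
      have h1 : E h q = s • q := by
        rw [hk, hc, map_smul, map_smul, hEv, smul_comm c s, smul_comm k s]
      have h2 : E h q = -(s • q) := by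
        rw [hq, map_add, map_smul, hcomE, hb', map_neg, map_smul, smul_add, hss, smul_neg, hss, neg_add]
      have h3 : s • q = 0 := by
        rw [← hneg2 (s • q)]
        nth_rewrite 1 [← h1]
        rw [h2, neg_add_cancel, neg_zero]
      exact eq_neg_of_add_eq_zero_left ((smul_eq_zero.1 h3).resolve_left hs0)
    rw [hab, map_add, map_add, hga, hgb, ha', hb']
  -- the three lines
  set T := R.ρ t with hT
  have hT3 : ∀ m, T (T (T m)) = m := fun m => by
    rw [hT, ← Module.End.mul_apply, ← Module.End.mul_apply, ← map_mul, ← map_mul,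
      show t * t * t = t ^ 3 by rw [pow_three, mul_assoc], R.rho_of_mem ht3, Module.End.one_apply]
  have hTinj : Function.Injective T := fun a b h => by rw [← hT3 a, h, hT3]
  have hmove : ∀ c : ZMod 3, T v₁ ≠ c • v₁ := by
    intro c hc
    have hc1 : c = 1 := by
      refine (show ∀ y : ZMod 3, y * (y * y) = 1 → y = 1 by decide) c ?_
      have h := hT3 v₁
      rw [hc, map_smul, hc, map_smul, map_smul, hc, smul_smul, smul_smul] at h
      by_contra hne
      exact hv₁0 ((smul_eq_zero.1 (show (c * (c * c) - 1) • v₁ = 0 by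
        rw [sub_smul, ← mul_assoc, h, one_smul, sub_self])).resolve_left (sub_ne_zero.2 hne))
    rw [hc1, one_smul] at hc
    have hcomT : ∀ m, R.ρ e (T m) = T (R.ρ e m) := by
      intro m
      have h := congrArg (fun S : Module.End (ZMod 3) M => S (T m))
        (hsame t 1 ⟨1, by rw [hv]; simp only [map_one, Module.End.one_apply, one_smul]; exact hc⟩)
      simp only [hEapp, map_one, inv_one, Module.End.one_apply] at h
      rw [← h, hT, R.rho_cancel]
    let P : Submodule (ZMod 3) M := LinearMap.ker (R.ρ e + s • 1)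
    have hmP : ∀ m, m ∈ P ↔ R.ρ e m = -(s • m) := fun m => by
      rw [LinearMap.mem_ker, LinearMap.add_apply, LinearMap.smul_apply, Module.End.one_apply,
        add_eq_zero_iff_eq_neg]
    obtain ⟨m, hm, hm0, hTm⟩ := exists_fixed_nonzero T (LinearMap.ext fun m => hT3 m) P
      (fun m hm => (hmP _).2 (by rw [hcomT, (hmP m).1 hm, map_neg, map_smul]))
      (by rw [Nat.card_congr (Equiv.subtypeEquivRight hmP), hplane]; norm_num)
    have hml : ∀ d : ZMod 3, m ≠ d • v₁ := by
      intro d hd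
      have h1 := (hmP m).1 hm
      rw [hd, map_smul, hv₁, smul_comm d s v₁, ← hd] at h1
      refine hm0 ?_
      rw [← hss m, ← hneg2 (s • m)]
      conv_lhs => arg 2; arg 1; arg 1; rw [h1]
      rw [neg_add_cancel, neg_zero, smul_zero]
    have h4 : 4 ≤ Nat.card {m : M // T m = m} := by
      let f : Fin 4 → {m : M // T m = m} :=
        ![⟨0, map_zero _⟩, ⟨v₁, hc⟩, ⟨-v₁, by rw [map_neg, hc]⟩, ⟨m, hTm⟩]
      have hf : Function.Injective f := by
        have a1 : v₁ ≠ -v₁ := fun h => hv₁0 (by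
          rw [← hneg2 v₁]; nth_rewrite 1 [h]; rw [neg_add_cancel, neg_zero])
        have a2 : m ≠ v₁ := fun h => hml 1 (by rw [one_smul]; exact h)
        have a3 : m ≠ -v₁ := fun h => hml (-1) (by rw [neg_one_smul]; exact h)
        intro i j h
        have h' := congrArg Subtype.val h
        fin_cases i <;> fin_cases j <;> simp [f] at h' ⊢
        all_goals
          first
            | exact hv₁0 h' | exact hv₁0 h'.symm | exact hm0 h' | exact hm0 h'.symm
            | exact a1 h' | exact a1 h'.symm | exact a2 h' | exact a2 h'.symm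
            | exact a3 h' | exact a3 h'.symm
      exact (Nat.card_fin 4).symm.le.trans (Nat.card_le_card_of_injective f hf)
    omega
  have hmove2 : ∀ c : ZMod 3, T (T v₁) ≠ c • v₁ := by
    intro c hc
    refine hmove (c * c) ?_
    conv_lhs => rw [← hT3 (T v₁), hc, map_smul, map_smul, hc, smul_smul]
  let b : Fin 3 → M := ![v₁, T v₁, T (T v₁)]
  let tp : Fin 3 → X := ![1, t, t * t]
  have hbv : ∀ i, b i = v (tp i) := fun i => by
    fin_cases i <;> simp [b, tp, hv, hT, map_mul]
  have hdist : ∀ i j, i ≠ j → ∀ c : ZMod 3, b i ≠ c • b j := by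
    have hinv' : ∀ (p q : M), (∀ c : ZMod 3, p ≠ c • q) → q ≠ 0 → ∀ c : ZMod 3, q ≠ c • p := by
      intro p q h hq c hc
      by_cases hc0 : c = 0
      · exact hq (by rw [hc, hc0, zero_smul])
      · exact h c⁻¹ (by rw [hc, inv_smul_smul₀ hc0])
    have h21 : ∀ c : ZMod 3, T (T v₁) ≠ c • T v₁ := fun c hc =>
      hmove c (hTinj (by rw [hc, map_smul]))
    have hT0 : T v₁ ≠ 0 := fun h => hv₁0 (hTinj (h.trans (map_zero T).symm))
    intro i j hij c
    fin_cases i <;> fin_cases j <;> simp [b] at hij ⊢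
    · exact hinv' _ _ hmove hv₁0 c
    · exact hinv' _ _ hmove2 hv₁0 c
    · exact hmove c
    · exact hinv' _ _ h21 hT0 c
    · exact hmove2 c
    · exact h21 c
  have hEb : ∀ i j, E (tp i) (b j) = if i = j then s • b j else -(s • b j) := by
    intro i j
    split_ifs with h
    · rw [h, hbv]; exact hEv _
    · rw [hbv j]
      exact hopp _ _ fun c => by rw [← hbv, ← hbv]; exact hdist j i (Ne.symm h) c
  let ι : (Fin 3 → ZMod 3) → M := fun f => f 0 • b 0 + f 1 • b 1 + f 2 • b 2
  have ι_add : ∀ f g, ι (f + g) = ι f + ι g := fun f g => by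
    simp only [ι, Pi.add_apply, add_smul]; abel
  have ι_smul : ∀ (c : ZMod 3) f, ι (c • f) = c • ι f := fun c f => by
    simp only [ι, Pi.smul_apply, smul_eq_mul, smul_add, smul_smul]
  have ι_single : ∀ i, ι (Pi.single i 1) = b i := fun i => by
    fin_cases i <;> simp [ι]
  have hb0 : ∀ i, b i ≠ 0 := fun i => hbv i ▸ hv0 _
  have hzero : ∀ f, ι f = 0 → ∀ i, f i = 0 := by
    intro f hf i
    have h := congrArg (E (tp i)) hf
    simp only [ι, map_add, map_smul, hEb, map_zero] at h
    have hf' : f 0 • b 0 + f 1 • b 1 + f 2 • b 2 = 0 := hf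
    have hkey : f i • b i = 0 := by
      refine (smul_eq_zero.1 (?_ : s • (f i • b i) = 0)).resolve_left hs0
      rw [← hneg2 (s • (f i • b i))]
      have h2 := congrArg (fun m => s • m) hf'
      simp only [smul_add, smul_zero] at h2
      fin_cases i <;> simp at h h2 ⊢ <;> linear_combination (norm := module) (-1 : ZMod 3) • h + (-1 : ZMod 3) • h2
    exact (smul_eq_zero.1 hkey).resolve_right (hb0 i)
  have ι_bij : Function.Bijective ι := by
    refine Function.Injective.bijective_of_nat_card_le (fun f g h => ?_)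
      (by rw [hM, Nat.card_fun, Nat.card_zmod, Nat.card_fin]; rfl)
    refine sub_eq_zero.1 (funext fun i => hzero (f - g) ?_ i)
    rw [sub_eq_add_neg, ι_add, ← neg_one_smul (ZMod 3) g, ι_smul, neg_one_smul, h, add_neg_cancel]
  -- monomial images
  have himg : ∀ g, ∃ i, ∃ n : Bool, v g = if n then -b i else b i := by
    intro g
    have hex : ∃ i, ∃ c : ZMod 3, b i = c • v g := by
      by_contra hno
      push Not at hno
      have hall : ∀ i, E g (b i) = -(s • b i) := fun i => by
        rw [hbv]; exact hopp _ _ fun c => hbv i ▸ hno i c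
      obtain ⟨f, hf⟩ := ι_bij.2 (v g)
      have hcon : E g (v g) = -(s • v g) := by
        rw [← hf]
        simp only [ι, map_add, map_smul, hall]
        module
      rw [hEv] at hcon
      refine hv0 g ((smul_eq_zero.1 (?_ : s • v g = 0)).resolve_left hs0)
      rw [← hneg2 (s • v g)]
      nth_rewrite 1 [hcon]
      rw [neg_add_cancel, neg_zero]
    obtain ⟨i, c, hc⟩ := hex
    have hc0 : c ≠ 0 := fun h => hb0 i (by rw [hc, h, zero_smul])
    rcases (show ∀ c : ZMod 3, c ≠ 0 → c = 1 ∨ c = -1 by decide) c hc0 with rfl | rfl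
    · exact ⟨i, false, by rw [hc, one_smul]; rfl⟩
    · exact ⟨i, true, by rw [hc, neg_one_smul, neg_neg]; rfl⟩
  have hπ : ∀ a, ∃ p : SP, ∀ f, R.ρ a (ι f) = ι (SP.app p f) := by
    intro a
    have h1 : ∀ j, ∃ i, ∃ n : Bool, R.ρ a (b j) = if n then -b i else b i := fun j => by
      obtain ⟨i, n, h⟩ := himg (a * tp j)
      refine ⟨i, n, ?_⟩
      rw [← h, hbv]
      simp only [hv, map_mul, Module.End.mul_apply]
    choose k n hkn using h1
    have hk : ∀ i j, k i = k j → i = j := by
      intro i j hij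
      by_contra hne
      have hi := hkn i
      have hj := hkn j
      rw [hij] at hi
      obtain ⟨c, hc⟩ : ∃ c : ZMod 3, R.ρ a (b i) = c • R.ρ a (b j) := by
        rw [hi, hj]
        by_cases h1 : n i = n j
        · exact ⟨1, by rw [one_smul, h1]⟩
        · refine ⟨-1, ?_⟩
          rw [neg_one_smul]
          cases hni : n i <;> cases hnj : n j <;> simp [hni, hnj] at h1 ⊢
      refine hdist i j hne c ?_
      have h2 := congrArg (R.ρ a⁻¹) hc
      rwa [R.rho_cancel, map_smul, R.rho_cancel] at h2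
    obtain ⟨p, hp⟩ := SP.exists_monomial k hk n
    refine ⟨p, fun f => ?_⟩
    have hb' : ∀ i, R.ρ a (b i) = ι (SP.app p (Pi.single i 1)) := fun i => by
      rw [hp, hkn]
      cases n i
      · simp [ι_single]
      · simp only [if_true]
        rw [← neg_one_smul (ZMod 3) (Pi.single (k i) 1), ι_smul, ι_single, neg_one_smul]
    conv_rhs => rw [SP.decompose f, SP.app_add, SP.app_add, SP.app_smul, SP.app_smul, SP.app_smul,
      ι_add, ι_add, ι_smul, ι_smul, ι_smul, ← hb', ← hb', ← hb']
    simp only [ι, map_add, map_smul]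
  choose π hπ using hπ
  have hπeq : ∀ a p, (∀ i, R.ρ a (b i) = ι (SP.app p (Pi.single i 1))) → π a = p := fun a p h =>
    SP.ext_basis _ _ fun i => ι_bij.1 ((hπ a _).symm.trans ((ι_single i).symm ▸ h i))
  have hmul : ∀ x y, π (x * y) = SP.mul (π x) (π y) := fun x y =>
    SP.app_injective fun f => ι_bij.1 (by
      rw [← hπ, map_mul, Module.End.mul_apply, hπ, hπ, SP.app_mul])
  have hcyc : π t = SP.cyc := hπeq t _ fun i => by
    fin_cases i
    · simp [ι, b, SP.app, SP.cyc, SP.flag, SP.src, hT]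
    · simp [ι, b, SP.app, SP.cyc, SP.flag, SP.src, hT]
    · simp [ι, b, SP.app, SP.cyc, SP.flag, SP.src, ← hT, hT3]
  have hd : ∀ i p, (∀ j, SP.app p (Pi.single j 1) =
      (if i = j then s else -s) • Pi.single j (1 : ZMod 3)) → π (tp i * e * (tp i)⁻¹) = p := by
    intro i p h
    refine hπeq _ _ fun j => ?_
    show E (tp i) (b j) = _
    rw [hEb, h, ι_smul, ι_single]
    split_ifs <;> simp
  obtain ⟨hA, hB⟩ : (∃ a, π a = SP.eA) ∧ (∃ a, π a = SP.eB) := by
    rcases (show ∀ c : ZMod 3, c * c = 1 → c = 1 ∨ c = -1 by decide) s hs with rfl | rfl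
    · exact ⟨⟨_, hd 0 SP.eA (by decide +kernel)⟩, ⟨_, hd 1 SP.eB (by decide +kernel)⟩⟩
    · refine ⟨⟨(tp 1 * e * (tp 1)⁻¹) * (tp 2 * e * (tp 2)⁻¹), ?_⟩,
        ⟨(tp 0 * e * (tp 0)⁻¹) * (tp 2 * e * (tp 2)⁻¹), ?_⟩⟩
      · rw [hmul, hd 1 (0, false, true, false) (by decide +kernel),
          hd 2 (0, false, false, true) (by decide +kernel)]
        rfl
      · rw [hmul, hd 0 (0, true, false, false) (by decide +kernel),
          hd 2 (0, false, false, true) (by decide +kernel)]
        rfl
  obtain ⟨g, hg⟩ := R.rat.exists_inv t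
  refine ⟨⟨π, ι, ι_bij, hπ, ι_add, hA, hB, ⟨t, hcyc⟩, ⟨g, SP.odd_of_inverts _ ?_⟩⟩⟩
  have h1 : g * t = t⁻¹ * g := by rw [← hg]; group
  have h2 : π t⁻¹ = SP.mul SP.cyc SP.cyc := by
    rw [← hcyc, ← hmul]
    refine hπeq _ _ fun i => ?_
    rw [← hπ, ι_single]
    have h3 : R.ρ t⁻¹ (b i) = T (T (b i)) := by
      conv_lhs => rw [← hT3 (b i), hT, R.rho_cancel]
    rw [h3, map_mul, Module.End.mul_apply, ← hT]
  rw [← hcyc, ← hmul, h1, hmul, h2, hcyc]

namespace Coords

variable {R : Rep V M} (C : Coords R)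

theorem mem_of_even {p : SP} (he : p.ev = true) (hp : p.pos = true) : ∃ a, C.π a = p := by
  obtain ⟨a, ha, b, hb, rfl⟩ := SP.exists_word p he hp
  obtain ⟨x, hx⟩ := C.hC
  obtain ⟨y, hy⟩ := C.hA
  obtain ⟨z, hz⟩ := C.hB
  obtain ⟨a', ha'⟩ : ∃ a', C.π a' = a := by
    simp only [List.mem_cons, List.not_mem_nil, or_false] at ha
    rcases ha with rfl | rfl | rfl
    · exact ⟨1, C.π_one⟩
    · exact ⟨x, hx⟩
    · exact ⟨x * x, by rw [C.π_mul, hx]⟩
  obtain ⟨b', hb'⟩ : ∃ b', C.π b' = b := by
    simp only [List.mem_cons, List.not_mem_nil, or_false] at hb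
    rcases hb with rfl | rfl | rfl | rfl
    · exact ⟨1, C.π_one⟩
    · exact ⟨y, hy⟩
    · exact ⟨z, hz⟩
    · exact ⟨y * z, by rw [C.π_mul, hy, hz]⟩
  exact ⟨a' * b', by rw [C.π_mul, ha', hb']⟩

/-- Lifting a monomial matrix commuting with an involution. -/
theorem exists_commuting_lift {u a : X} (hu : u * u = 1)
    (h : SP.mul (C.π a) (C.π u) = SP.mul (C.π u) (C.π a)) :
    ∃ b, C.π b = C.π a ∧ Commute u b := by
  haveI := R.normal
  haveI : Fact (Nat.Prime 2) := ⟨Nat.prime_two⟩
  have hui : u⁻¹ = u := inv_eq_of_mul_eq_one_right hu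
  have h0 : a⁻¹ * (u * a * u) ∈ V := by
    rw [← C.π_eq_one_iff]
    have h1 : C.π (u * a * u) = C.π a := by
      rw [C.π_mul, C.π_mul, ← h, ← C.π_mul, ← C.π_mul, mul_assoc, hu, mul_one]
    rw [C.π_mul, h1, ← C.π_mul, inv_mul_cancel, C.π_one]
  let f : V ≃ V := Function.Involutive.toPerm
    (fun z => ⟨a⁻¹ * (u * a * u) * (u * z * u),
      V.mul_mem h0 (by simpa [hui] using R.normal.conj_mem z z.2 u)⟩)
    (fun z => Subtype.ext (by
      show a⁻¹ * (u * a * u) * (u * (a⁻¹ * (u * a * u) * (u * (z : X) * u)) * u) = z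
      calc a⁻¹ * (u * a * u) * (u * (a⁻¹ * (u * a * u) * (u * (z : X) * u)) * u)
          = a⁻¹ * (u * a) * (u * u) * (a⁻¹ * u * a) * (u * u) * (z : X) * (u * u) := by group
        _ = a⁻¹ * (u * u) * a * (z : X) := by
          simp only [hu, mul_one, mul_assoc, mul_inv_cancel_left]
          rw [← mul_assoc u u, hu, one_mul]
        _ = z := by rw [hu]; group))
  have hodd : ¬ 2 ∣ Nat.card V := fun h => by
    haveI : Fact (Nat.Prime 3) := ⟨Nat.prime_three⟩
    obtain ⟨e, he⟩ := IsPGroup.iff_card.1 R.isPGroup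
    rw [he] at h
    exact absurd (Nat.prime_two.dvd_of_dvd_pow h) (by norm_num)
  obtain ⟨z, hz⟩ := exists_fixed_in f (p := 2)
    (fun z => Function.Involutive.toPerm_involutive _ z) hodd
  have hz' : a⁻¹ * (u * a * u) * (u * (z : X) * u) = z := congrArg Subtype.val hz
  refine ⟨a * z, ?_, ?_⟩
  · rw [C.π_mul, (C.π_eq_one_iff _).2 z.2, ← C.π_one, ← C.π_mul, mul_one]
  · have h1 : u * (a * z) * u = a * z := by
      conv_rhs => rw [← hz']
      calc u * (a * (z : X)) * u = u * a * (u * u) * (z : X) * u := by rw [hu]; group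
        _ = _ := by group
    calc u * (a * z) = u * (a * z) * (u * u) := by rw [hu, mul_one]
      _ = (u * (a * z) * u) * u := by group
      _ = a * z * u := by rw [h1]

theorem bound_le {S : SP → Bool} (hS : ∀ p, S p = true → ∃ a, C.π a = p) {u : X} (hu : u * u = 1)
    (f₀ : Fin 3 → ZMod 3) :
    SP.bound S (C.π u) f₀ ≤ cz (u * R.j (C.ι f₀)) := by
  classical
  let Q := Finset.univ.filter fun q : SP =>
    S q = true ∧ SP.mul q (C.π u) = SP.mul (C.π u) q ∧ SP.app q f₀ = f₀
  have hQ : ∀ q : Q, ∃ b, C.π b = q.1 ∧ Commute u b := fun q => by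
    obtain ⟨h1, h2, -⟩ := (Finset.mem_filter.1 q.2).2
    obtain ⟨a, ha⟩ := hS _ h1
    obtain ⟨b, hb, hbu⟩ := C.exists_commuting_lift hu (a := a) (by rw [ha]; exact h2)
    exact ⟨b, hb.trans ha, hbu⟩
  choose B hB using hQ
  let F := Finset.univ.filter fun f : Fin 3 → ZMod 3 => SP.app (C.π u) f = f
  have hmem : ∀ (f : F) (q : Q), R.j (C.ι f.1) * B q ∈ centralizer ({u * R.j (C.ι f₀)} : Set X) := by
    intro f q
    have h1 : Commute u (R.j (C.ι f.1)) :=
      R.commute_of_fix (by rw [C.spec, (Finset.mem_filter.1 f.2).2])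
    have h2 : Commute (R.j (C.ι f.1)) (R.j (C.ι f₀)) := by
      show _ * _ = _ * _
      rw [← R.j_add, ← R.j_add, add_comm]
    have h3 : Commute (B q) (R.j (C.ι f₀)) :=
      R.commute_of_fix (by rw [C.spec, (hB q).1, (Finset.mem_filter.1 q.2).2.2.2])
    exact mem_centralizer_single.2 ((h1.symm.mul_right h2).mul_left ((hB q).2.symm.mul_right h3))
  refine le_trans (le_of_eq ?_) (Nat.card_le_card_of_injective
    (fun p : F × Q => (⟨_, hmem p.1 p.2⟩ : centralizer ({u * R.j (C.ι f₀)} : Set X))) ?_)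
  · rw [Nat.card_prod, Nat.card_eq_fintype_card, Nat.card_eq_fintype_card, Fintype.card_coe,
      Fintype.card_coe]
    rfl
  · rintro ⟨f, q⟩ ⟨f', q'⟩ h
    have h' : R.j (C.ι f.1) * B q = R.j (C.ι f'.1) * B q' := congrArg Subtype.val h
    have h2 := congrArg C.π h'
    rw [C.π_mul, C.π_mul, (C.π_eq_one_iff _).2 (R.j_mem _), (C.π_eq_one_iff _).2 (R.j_mem _),
      ← C.π_one, ← C.π_mul, ← C.π_mul, one_mul, one_mul, (hB q).1, (hB q').1] at h2
    obtain rfl : q = q' := Subtype.ext h2
    obtain rfl : f = f' := Subtype.ext (C.ι_bij.1 (R.j_inj (mul_right_cancel h')))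
    rfl

theorem exists_neg_of_w {u w : X} (hu : u * u = 1) (hu1 : u ∉ V) (hc : Commute u w) (hw : w ^ 3 = 1)
    (hw1 : w ∉ V) : C.π u = SP.neg := by
  refine SP.eq_neg_of_commute _ (C.π w) ?_ (fun h => hu1 ((C.π_eq_one_iff u).1 h)) ?_
    (fun h => hw1 ((C.π_eq_one_iff w).1 h)) ?_
  · rw [← C.π_mul, hu, C.π_one]
  · rw [← C.π_mul, ← C.π_mul, ← pow_three, hw, C.π_one]
  · rw [← C.π_mul, ← C.π_mul, hc.eq]

/-- **The only possibility is the full monomial group with `u` acting as `-1`.** -/
theorem neg_and_surjective {u w : X} (hu : u * u = 1) (hu1 : u ≠ 1) (hc : Commute u w)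
    (hw : w ^ 3 = 1) (hcz : cz (u * w) ≤ 6) :
    C.π u = SP.neg ∧ w ∉ V ∧ Function.Surjective C.π := by
  haveI := R.normal
  haveI : Fact (Nat.Prime 3) := ⟨Nat.prime_three⟩
  have huV : u ∉ V := fun h => by
    obtain ⟨e, he⟩ := IsPGroup.iff_card.1 R.isPGroup
    have h2 : orderOf u ∣ 3 ^ e := he ▸ V.orderOf_dvd_natCard h
    rw [orderOf_eq_prime (by rw [sq, hu]) hu1] at h2
    exact absurd (Nat.prime_two.dvd_of_dvd_pow h2) (by norm_num)
  obtain ⟨g, hg⟩ := C.odd
  have hgg : ∀ p, (∃ a, C.π a = SP.mul (C.π g) p) → ∃ a, C.π a = p := by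
    rintro p ⟨a, ha⟩
    refine ⟨g⁻¹ * a, ?_⟩
    rw [C.π_mul, ha]
    refine SP.app_injective fun v => ?_
    rw [SP.app_mul, SP.app_mul, ← SP.app_mul, ← C.π_mul, inv_mul_cancel, C.π_one, SP.app_one]
  have hnn : ∀ p, (∃ b, C.π b = SP.neg) → (∃ a, C.π a = SP.mul SP.neg p) → ∃ a, C.π a = p := by
    rintro p ⟨b, hb⟩ ⟨a, ha⟩
    refine ⟨b * a, SP.app_injective fun v => ?_⟩
    rw [C.π_mul, hb, ha, SP.app_mul, SP.app_mul, ← SP.app_mul, SP.neg_mul_self, SP.app_one]
  by_cases hn : ∃ a, C.π a = SP.neg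
  · have hsurj : Function.Surjective C.π := by
      intro p
      rcases SP.four_cases p (C.π g) hg with h | h | h | h
      · exact C.mem_of_even h.1 h.2
      · exact hnn p hn (C.mem_of_even h.1 h.2)
      · exact hgg p (C.mem_of_even h.1 h.2)
      · exact hgg p (hnn _ hn (C.mem_of_even h.1 h.2))
    have hwV : w ∉ V := by
      intro hwV
      obtain ⟨m, hm⟩ := R.j_surj w hwV
      obtain ⟨f, rfl⟩ := C.ι_bij.2 m
      have hfix : SP.app (C.π u) f = f := by
        refine C.ι_bij.1 (R.j_inj ?_)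
        rw [← C.spec, R.j_conj, hm, hc.eq, mul_inv_cancel_right]
      have h1 := SP.full_bound (C.π u) (by rw [← C.π_mul, hu, C.π_one])
        (fun h => huV ((C.π_eq_one_iff u).1 h)) f hfix
      have h2 := C.bound_le (S := fun _ => true) (fun p _ => hsurj p) hu f
      rw [hm] at h2
      omega
    exact ⟨C.exists_neg_of_w hu huV hc hw hwV, hwV, hsurj⟩
  · exfalso
    have hwV : w ∈ V := by
      by_contra h
      exact hn ⟨u, C.exists_neg_of_w hu huV hc hw h⟩
    obtain ⟨m, hm⟩ := R.j_surj w hwV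
    obtain ⟨f, rfl⟩ := C.ι_bij.2 m
    -- the image is determined by the sign of one odd element
    have hev : ∀ a, (C.π a).ev = true → (C.π a).pos = true := by
      intro a ha
      by_contra hp
      have hp' : (C.π a).pos = false := Bool.not_eq_true _ ▸ hp
      have h1 : (SP.mul SP.neg (C.π a)).ev = true ∧ (SP.mul SP.neg (C.π a)).pos = true := by
        rw [SP.ev_mul, SP.pos_mul, ha, hp']
        exact ⟨rfl, rfl⟩
      obtain ⟨b, hb⟩ := C.mem_of_even h1.1 h1.2
      refine hn ⟨b * a⁻¹, SP.app_injective fun v => ?_⟩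
      rw [C.π_mul, hb, SP.app_mul, SP.app_mul, ← SP.app_mul (C.π a), ← C.π_mul, mul_inv_cancel,
        C.π_one, SP.app_one]
    have hodd : ∀ a, (C.π a).ev = false → (C.π a).pos = (C.π g).pos := by
      intro a ha
      have h := hev (g * a) (by rw [C.π_mul, SP.ev_mul, hg, ha]; rfl)
      rw [C.π_mul, SP.pos_mul, beq_iff_eq] at h
      exact h.symm
    have hmemg : ∀ p : SP, p.ev = false → p.pos = (C.π g).pos → ∃ a, C.π a = p := by
      intro p h1 h2
      refine hgg p (C.mem_of_even ?_ ?_)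
      · rw [SP.ev_mul, hg, h1]; rfl
      · rw [SP.pos_mul, h2]; simp
    by_cases hgp : (C.π g).pos = true
    · -- every element has positive sign product
      have hall : ∀ a, (C.π a).pos = true := fun a => by
        cases h : (C.π a).ev
        · rw [hodd a h, hgp]
        · exact hev a h
      have hfix : SP.app (C.π u) f = f := by
        refine C.ι_bij.1 (R.j_inj ?_)
        rw [← C.spec, R.j_conj, hm, hc.eq, mul_inv_cancel_right]
      have h1 := SP.standard_bound (C.π u) (hall u) (by rw [← C.π_mul, hu, C.π_one])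
        (fun h => huV ((C.π_eq_one_iff u).1 h)) f hfix
      have h2 := C.bound_le (S := SP.pos) (fun p hp => by
        cases h : p.ev
        · exact hmemg p h (by rw [hp, hgp])
        · exact C.mem_of_even h hp) hu f
      rw [hm] at h2
      omega
    · -- determinant one: an element of order twelve which is not rational
      have hgp' : (C.π g).pos = false := Bool.not_eq_true _ ▸ hgp
      have hall : ∀ a, (C.π a).det1 = true := fun a => by
        cases h : (C.π a).ev
        · rw [SP.det1, h, hodd a h, hgp']; rfl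
        · rw [SP.det1, h, hev a h]; rfl
      obtain ⟨r, c, hr1, hr2, hr4, hc0, hrc, hcent⟩ := SP.twisted
      obtain ⟨a₀, ha₀⟩ : ∃ a, C.π a = r := by
        cases h : r.ev
        · refine hmemg r h ?_
          rw [SP.det1, h, beq_iff_eq] at hr1
          rw [hgp', ← hr1]
        · refine C.mem_of_even h ?_
          rw [SP.det1, h, beq_iff_eq] at hr1
          exact hr1.symm
      have hcube : ∀ z ∈ V, z ^ 3 = 1 := fun z hz => by
        obtain ⟨m, rfl⟩ := R.j_surj z hz
        rw [pow_three, ← R.j_add, ← R.j_add,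
          show m + (m + m) = (3 : ZMod 3) • m by
            rw [show (3 : ZMod 3) = 1 + (1 + 1) by rfl, add_smul, add_smul, one_smul],
          show (3 : ZMod 3) = 0 from rfl, zero_smul, R.j_zero]
      have hsplit : a₀ ^ 4 = a₀ * a₀ * (a₀ * a₀) := by
        simp only [pow_succ, pow_zero, one_mul, mul_assoc]
      have h4 : a₀ ^ 4 ∈ V := by
        rw [← C.π_eq_one_iff, hsplit]
        simp only [C.π_mul, ha₀]
        exact hr4
      have h12 : a₀ ^ 12 = 1 := by rw [show 12 = 4 * 3 from rfl, pow_mul]; exact hcube _ h4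
      set r' := a₀ ^ 9 with hr'
      have hπr : C.π r' = r := by
        rw [hr', show 9 = 4 + 4 + 1 from rfl, pow_succ, pow_add, C.π_mul, C.π_mul,
          (C.π_eq_one_iff _).2 h4, ha₀]
        refine SP.app_injective fun v => ?_
        simp only [SP.app_mul, SP.app_one]
      have hr'4 : r' ^ 4 = 1 := by
        rw [hr', ← pow_mul, show 9 * 4 = 12 * 3 from rfl, pow_mul, h12, one_pow]
      set z := R.j (C.ι c) with hz
      have hrz : Commute r' z := R.commute_of_fix (by rw [C.spec, hπr, hrc])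
      have hz3 : z ^ 3 = 1 := hcube z (R.j_mem _)
      set x' := r' * z with hx'
      have hx'9 : x' ^ 9 = r' := by
        rw [hx', hrz.mul_pow, show 9 = 3 * 3 from rfl, pow_mul z, hz3, one_pow, mul_one,
          show 3 * 3 = 4 + 4 + 1 from rfl, pow_succ, pow_add, hr'4, one_mul, one_mul]
      have hx'4 : x' ^ 4 = z := by
        rw [hx', hrz.mul_pow, hr'4, one_mul, show 4 = 3 + 1 from rfl, pow_succ, hz3, one_mul]
      have hord : orderOf x' ∣ 12 := orderOf_dvd_of_pow_eq_one (by
        rw [hx', hrz.mul_pow, show 12 = 4 * 3 from rfl, pow_mul, hr'4, one_pow, one_mul,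
          mul_comm 4 3, pow_mul, hz3, one_pow])
      obtain ⟨k, hk⟩ := R.rat.exists_conj (x := x') (k := 5)
        (Nat.Coprime.coprime_dvd_right hord (by norm_num))
      have hkr : k * r' * k⁻¹ = r' := by
        conv_lhs => rw [← hx'9, ← conj_pow, hk, ← pow_mul]
        rw [show 5 * 9 = 9 * 5 from rfl, pow_mul, hx'9, show 5 = 4 + 1 from rfl, pow_succ, hr'4, one_mul]
      have hkz : k * z * k⁻¹ = z ^ 2 := by
        conv_lhs => rw [← hx'4, ← conj_pow, hk, ← pow_mul]
        rw [show 5 * 4 = 4 * 5 from rfl, pow_mul, hx'4, show 5 = 3 + 2 from rfl, pow_add, hz3, one_mul]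
      have hkfix : SP.app (C.π k) c = c := by
        refine hcent _ (hall k) ?_
        rw [← hπr, ← C.π_mul, ← C.π_mul, mul_inv_eq_iff_eq_mul.1 hkr]
      have h1 : R.j (C.ι c) = k * R.j (C.ι c) * k⁻¹ := by rw [← R.j_conj, C.spec, hkfix]
      rw [← hz, hkz, sq] at h1
      have hz1 : z = 1 := left_eq_mul.1 h1
      refine hc0 (C.ι_bij.1 ?_)
      have h0 : C.ι 0 = 0 := by simpa using C.ι_add 0 0
      rw [h0]
      exact R.j_inj (hz1.trans R.j_zero.symm)

end Coords

end CfsgLib.DistinctClass
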