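import Cfsg.Agent.DistinctClass.Basic

/-!
# An element with centraliser of order two
-/

set_option autoImplicit false
set_option linter.style.haveILetI false

namespace CfsgLib.DistinctClass

open Subgroup

variable {G : Type*} [Group G]

theorem cz_one : cz (1 : G) = Nat.card G := by
  have : centralizer ({1} : Set G) = ⊤ := eq_top_iff.2 fun y _ =>
    mem_centralizer_single.2 (Commute.one_right y)
  rw [cz, this, card_top]

theorem eq_one_of_cz [Finite G] (hI : Inj G) {x : G} (h : cz x = Nat.card G) : x = 1 := by
  obtain ⟨g, hg⟩ := isConj_iff.1 (hI 1 x (cz_one.trans h.symm))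
  rw [← hg, mul_one, mul_inv_cancel]

theorem two_le_cz [Finite G] [Nontrivial G] (hI : Inj G) (x : G) : 2 ≤ cz x := by
  by_contra h
  have h1 : cz x = 1 := by have := cz_pos x; omega
  have hx : x = 1 := by
    have := (centralizer ({x} : Set G)).orderOf_dvd_natCard (mem_centralizer_single.2 (Commute.refl x))
    change orderOf x ∣ cz x at this
    rw [h1, Nat.dvd_one, orderOf_eq_one_iff] at this
    exact this
  rw [hx, cz_one] at h1
  have := Finite.one_lt_card (α := G)
  omega

/-- An element with centraliser of order two forces the symmetric group of degree three. -/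
theorem perm_three_of_cz_two [Finite G] [Nontrivial G] (hI : Inj G) (hsol : Group.IsSolvable G)
    {x : G} (hx : cz x = 2) : Nonempty (G ≃* Equiv.Perm (Fin 3)) := by
  classical
  haveI := hsol
  have hmem : x ∈ centralizer ({x} : Set G) := mem_centralizer_single.2 (Commute.refl x)
  have hG2 : Nat.card G ≠ 2 := by
    intro h2
    obtain ⟨y, hy⟩ := exists_ne (1 : G)
    have := two_le_cz hI y
    have h' : cz y ≤ Nat.card G := Subgroup.card_le_card_group _
    exact hy (eq_one_of_cz hI (by omega))
  have hx1 : x ≠ 1 := fun h => hG2 (by rw [← cz_one (G := G), ← h, hx])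
  have hord : orderOf x = 2 := by
    have := (centralizer ({x} : Set G)).orderOf_dvd_natCard hmem
    change orderOf x ∣ cz x at this
    rw [hx] at this
    exact ((Nat.dvd_prime Nat.prime_two).1 this).resolve_left fun h => hx1 (orderOf_eq_one_iff.1 h)
  have hxx : x * x = 1 := by rw [← sq, ← hord, pow_orderOf_eq_one]
  set D := commutator G with hD
  have hidx : D.index = 2 := by
    have h1 : D.index ≤ 2 := hx ▸ index_commutator_le_cz x
    have h2 : D.index ≠ 1 := fun h =>
      (Group.IsSolvable.commutator_lt_top_of_nontrivial G).ne (index_eq_one.1 h)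
    have := D.index_ne_zero_of_finite
    omega
  have hcls : Nat.card {y : G | IsConj x y} = Nat.card D := by
    have h1 := card_class_mul_cz x
    rw [hx, ← D.card_mul_index, hidx] at h1
    omega
  have hxD : x ∉ D := by
    intro h
    have hsub : {y : G | IsConj x y} ⊆ (D : Set G) := fun y hy => by
      obtain ⟨g, rfl⟩ := isConj_iff.1 hy
      exact Subgroup.Normal.conj_mem inferInstance x h g
    have heq := Set.eq_of_subset_of_ncard_le hsub (by
      rw [← Nat.card_coe_set_eq, ← Nat.card_coe_set_eq]; exact hcls.ge) (Set.toFinite _)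
    have h1 : (1 : G) ∈ {y : G | IsConj x y} := heq.symm ▸ D.one_mem
    obtain ⟨g, hg⟩ := isConj_iff.1 h1
    exact hx1 (conj_eq_one_iff.1 hg)
  -- the complement of `D` is the class of `x`
  have hout : ∀ y : G, y ∉ D → y * y = 1 := by
    have hsub : {y : G | IsConj x y} ⊆ {y : G | y ∉ D} := fun y hy h => by
      obtain ⟨g, rfl⟩ := isConj_iff.1 hy
      exact hxD (by simpa [mul_assoc] using Subgroup.Normal.conj_mem inferInstance _ h g⁻¹)
    have hc : Nat.card {y : G | y ∉ D} ≤ Nat.card D := by
      refine Nat.card_le_card_of_injective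
        (fun y => ⟨x * y.1, (D.mul_mem_iff_of_index_two hidx).2 (iff_of_false hxD y.2)⟩) ?_
      intro a b h
      exact Subtype.ext (mul_left_cancel (congrArg Subtype.val h))
    have heq := Set.eq_of_subset_of_ncard_le hsub (by
      rw [← Nat.card_coe_set_eq, ← Nat.card_coe_set_eq, hcls]; exact hc) (Set.toFinite _)
    intro y hy
    obtain ⟨g, rfl⟩ := isConj_iff.1 (heq.symm ▸ hy : y ∈ {y : G | IsConj x y})
    calc g * x * g⁻¹ * (g * x * g⁻¹) = g * (x * x) * g⁻¹ := by group
      _ = 1 := by rw [hxx, mul_one, mul_inv_cancel]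
  have hinv : ∀ g ∈ D, x * g * x = g⁻¹ := fun g hg => by
    have h := hout (x * g) fun h => hxD (by simpa using D.mul_mem h (D.inv_mem hg))
    calc x * g * x = (x * g) * (x * g) * g⁻¹ := by group
      _ = g⁻¹ := by rw [h, one_mul]
  have hcomm : ∀ a ∈ D, ∀ b ∈ D, Commute a b := fun a ha b hb => by
    have h1 := hinv (a * b) (D.mul_mem ha hb)
    have h2 : x * (a * b) * x = (x * a * x) * (x * b * x) := by
      calc x * (a * b) * x = x * a * (x * x) * b * x := by rw [hxx]; group
        _ = _ := by group
    rw [h2, hinv a ha, hinv b hb, ← mul_inv_rev] at h1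
    exact (inv_injective h1).symm
  -- nontrivial elements of `D` have centraliser `D`
  have hno2 : ∀ g ∈ D, g ≠ 1 → g * g ≠ 1 := by
    intro g hg hg1 h
    have h1 : g⁻¹ = g := inv_eq_of_mul_eq_one_right h
    have h2 := hinv g hg
    rw [h1] at h2
    have hc : Commute g x := by
      show g * x = x * g
      calc g * x = x * x * g * x := by rw [hxx, one_mul]
        _ = x * (x * g * x) := by group
        _ = x * g := by rw [h2]
    have hle : zpowers x ≤ centralizer ({x} : Set G) := zpowers_le.2 hmem
    have heq : zpowers x = centralizer ({x} : Set G) := eq_of_le_of_card_ge hle (by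
      rw [Nat.card_zpowers, hord]; exact hx.le)
    have hgz : g ∈ zpowers x := heq ▸ mem_centralizer_single.2 hc
    obtain ⟨k, rfl⟩ := hgz
    rcases Int.even_or_odd k with ⟨j, rfl⟩ | ⟨j, rfl⟩
    · exact hg1 (show x ^ (j + j) = 1 by rw [← two_mul, zpow_mul, zpow_two, hxx, one_zpow])
    · refine hxD ?_
      have : x ^ (2 * j + 1) = x := by
        rw [zpow_add, zpow_mul, zpow_two, hxx, one_zpow, one_mul, zpow_one]
      change x ^ (2 * j + 1) ∈ D at hg
      rwa [this] at hg
  have hCD : ∀ g ∈ D, g ≠ 1 → cz g = Nat.card D := fun g hg hg1 => by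
    have : centralizer ({g} : Set G) = D := by
      refine le_antisymm (fun y hy => ?_) fun y hy => mem_centralizer_single.2 (hcomm y hy g hg)
      by_contra hyD
      have hy' := mem_centralizer_single.1 hy
      have hk : x * y ∈ D := (D.mul_mem_iff_of_index_two hidx).2 (iff_of_false hxD hyD)
      have hgx : Commute g x := by
        have h1 : Commute g (x * y) := hcomm g hg _ hk
        have h2 : Commute g (x * y * y⁻¹) := h1.mul_right hy'.symm.inv_right
        rwa [mul_inv_cancel_right] at h2
      refine hno2 g hg hg1 ?_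
      have := hinv g hg
      rw [← hgx.eq, mul_assoc, hxx, mul_one] at this
      conv_lhs => arg 2; rw [this]
      exact mul_inv_cancel g
    rw [cz, this]
  have hD1 : 1 < Nat.card D := by
    rcases Nat.lt_or_ge 1 (Nat.card D) with h | h
    · exact h
    · have := D.card_mul_index
      rw [hidx] at this
      have := Nat.card_pos (α := D)
      omega
  obtain ⟨⟨g, hg⟩, hg1⟩ : ∃ g : D, g ≠ 1 := by
    haveI : Nontrivial D := Finite.one_lt_card_iff_nontrivial.1 hD1
    exact exists_ne 1
  have hg1' : g ≠ 1 := fun h => hg1 (Subtype.ext h)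
  have hDset : (D : Set G) = {1, g, g⁻¹} := by
    refine Set.Subset.antisymm (fun a ha => ?_) ?_
    · by_cases ha1 : a = 1
      · exact Or.inl ha1
      · obtain ⟨k, hk⟩ := isConj_iff.1 (hI g a ((hCD g hg hg1').trans (hCD a ha ha1).symm))
        by_cases hkD : k ∈ D
        · rw [(hcomm k hkD g hg).eq, mul_inv_cancel_right] at hk
          exact Or.inr (Or.inl hk.symm)
        · have hkx : x * k ∈ D := (D.mul_mem_iff_of_index_two hidx).2 (iff_of_false hxD hkD)
          refine Or.inr (Or.inr ?_)
          show a = g⁻¹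
          rw [← hk, ← hinv g hg]
          have hxi : x⁻¹ = x := inv_eq_of_mul_eq_one_right hxx
          calc k * g * k⁻¹ = x⁻¹ * ((x * k) * g * (x * k)⁻¹) * x := by group
            _ = x * g * x := by rw [(hcomm _ hkx g hg).eq, mul_inv_cancel_right, hxi]
    · rintro a (rfl | rfl | rfl)
      · exact D.one_mem
      · exact hg
      · exact D.inv_mem hg
  have hD3 : Nat.card D = 3 := by
    rw [← SetLike.coe_sort_coe, Nat.card_coe_set_eq, hDset, Set.ncard_eq_three]
    exact ⟨1, g, g⁻¹, fun h => hg1' h.symm, fun h => hg1' (inv_eq_one.1 h.symm),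
      fun h => hno2 g hg hg1' (by nth_rewrite 2 [h]; exact mul_inv_cancel g), rfl⟩
  have hG6 : Nat.card G = 6 := by rw [← D.card_mul_index, hidx, hD3]
  -- the action on the cosets of `⟨x⟩`
  set H := zpowers x with hH
  have hH2 : Nat.card H = 2 := by rw [hH, Nat.card_zpowers, hord]
  have hHi : H.index = 3 := by
    have := H.card_mul_index
    rw [hH2, hG6] at this
    omega
  have hinj : Function.Injective (MulAction.toPermHom G (G ⧸ H)) := by
    rw [← MonoidHom.ker_eq_bot_iff, ← Subgroup.normalCore_eq_ker]
    refine eq_bot_iff.2 fun a ha => ?_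
    rw [mem_bot]
    by_contra ha1
    have hle : H.normalCore = H := by
      refine eq_of_le_of_card_ge (normalCore_le H) ?_
      rw [hH2]
      haveI : Nontrivial H.normalCore := ⟨⟨⟨a, ha⟩, 1, fun h => ha1 (congrArg Subtype.val h)⟩⟩
      exact Finite.one_lt_card
    haveI hn : H.Normal := hle ▸ normalCore_normal H
    have hcent : ∀ k : G, Commute k x := fun k => by
      have hk := hn.conj_mem x (mem_zpowers x) k
      have hset : (k * x * k⁻¹) = x := by
        rw [hH, ← mem_powers_iff_mem_zpowers] at hk
        obtain ⟨n, hn'⟩ := hk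
        simp only at hn'
        rcases Nat.even_or_odd n with ⟨j, rfl⟩ | ⟨j, rfl⟩
        · rw [← two_mul, pow_mul, sq, hxx, one_pow] at hn'
          exact absurd (conj_eq_one_iff.1 hn'.symm) hx1
        · rw [pow_succ, pow_mul, sq, hxx, one_pow, one_mul] at hn'
          exact hn'.symm
      exact mul_inv_eq_iff_eq_mul.1 hset
    have : centralizer ({x} : Set G) = ⊤ := eq_top_iff.2 fun k _ => mem_centralizer_single.2 (hcent k)
    rw [cz, this, card_top] at hx
    omega
  have hbij : Function.Bijective (MulAction.toPermHom G (G ⧸ H)) := by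
    refine (Nat.bijective_iff_injective_and_card _).2 ⟨hinj, ?_⟩
    rw [hG6, Nat.card_perm, ← index_eq_card, hHi]
    rfl
  refine ⟨(MulEquiv.ofBijective _ hbij).trans (Equiv.permCongrHom ?_)⟩
  exact Finite.equivFinOfCardEq (by rw [← index_eq_card, hHi])

end CfsgLib.DistinctClass
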