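import Cfsg.Agent.DistinctClass.NineTwo
import Cfsg.Agent.DistinctClass.NineThree
import Cfsg.Agent.DistinctClass.Exponent
import Cfsg.Agent.DistinctClass.Two
import Cfsg.Agent.PLocal.Stability
import Cfsg.Agent.PLocal.Cores
import Cfsg.Agent.Solvable.Frattini

/-!
# Modulo the three-prime core: the configuration of a centraliser of order nine
-/

set_option autoImplicit false
set_option linter.style.haveILetI false
set_option linter.unusedSectionVars false

namespace CfsgLib.DistinctClass

open Subgroup

universe u v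

/-- The hypotheses on the quotient by the three-prime core. -/
structure NineHyp (K : Type u) [Group K] (a b c : K) : Prop where
  rat : Rat K
  solvable : Group.IsSolvable K
  cent : centralizer (Cfsg.pCore 3 K : Set K) ≤ Cfsg.pCore 3 K
  lq : ∀ M : Subgroup K, ∀ _ : M.Normal, IsPGroup 2 (K ⧸ M) → M.index ≤ 4
  inv : a * a = 1
  inv_ne : a ≠ 1
  commute : Commute a b
  cube : orderOf b = 3
  six : cz (a * b) ≤ 6
  nine : cz c ≤ 9
  nine_ord : c ^ 9 = 1
  nine_ne : c ≠ 1

/-- The conclusion. -/
def NineConcl {K : Type u} [Group K] (a b : K) : Prop :=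
  ∃ Q : Sylow 3 K, b ∈ (Q : Subgroup K) ∧ (∀ z ∈ (Q : Subgroup K), a * z * a ∈ (Q : Subgroup K)) ∧
    ∀ (W : Type u) [CommGroup W] [Finite W] (ψ : K →* MulAut W), IsPGroup 5 W →
      ¬ 5 ∣ Nat.card ψ.range → (∀ v, ψ b v = v → v = 1) →
        ∀ s : K, (∃ k, s ^ 2 ^ k = 1) → ψ (s * s) = 1

theorem sixteen_imp_eight : ∀ g : SP,
    SP.mul (SP.mul (SP.mul (SP.mul g g) (SP.mul g g)) (SP.mul (SP.mul g g) (SP.mul g g)))
      (SP.mul (SP.mul (SP.mul g g) (SP.mul g g)) (SP.mul (SP.mul g g) (SP.mul g g))) = SP.one →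
    SP.mul (SP.mul (SP.mul g g) (SP.mul g g)) (SP.mul (SP.mul g g) (SP.mul g g)) = SP.one := by
  decide +kernel

theorem SP.zmod3_cases : ∀ c : ZMod 3, c = 0 ∨ c = 1 ∨ c = -1 := by decide

theorem SP.diag1_sq : ∀ g : SP, g.diag1 = true → SP.mul g g = SP.one := by decide +kernel

theorem SP.diag1_one : SP.one.diag1 = true := by decide +kernel

theorem SP.eA_cyc_singles : ∀ f : Fin 3 → ZMod 3, f ≠ 0 →
    ∃ i : Fin 3, f i ≠ 0 := fun f hf => by
  by_contra h
  push Not at h
  exact hf (funext h)

theorem SP.single_move : ∀ i j : Fin 3, ∃ k : Fin 3,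
    SP.app ([SP.one, SP.cyc, SP.mul SP.cyc SP.cyc][k.val]!) (Pi.single i (1 : ZMod 3)) =
      Pi.single j 1 := by decide +kernel

theorem SP.isolate : ∀ f : Fin 3 → ZMod 3, ∀ i : Fin 3, f i ≠ 0 →
    (f + SP.app ([SP.eA, SP.eB, SP.mul SP.eA SP.eB][i.val]!) f = Pi.single i 1) ∨
      (f + SP.app ([SP.eA, SP.eB, SP.mul SP.eA SP.eB][i.val]!) f = -Pi.single i 1) := by
  decide +kernel

variable {K : Type u} [Group K] [Finite K] {a b c : K}

theorem NineHyp.a_not_mem_of_isPGroup (h : NineHyp K a b c) {P : Subgroup K} (hP : IsPGroup 3 P) :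
    a ∉ P := by
  haveI : Fact (Nat.Prime 3) := ⟨Nat.prime_three⟩
  intro ha
  obtain ⟨e, he⟩ := IsPGroup.iff_card.1 hP
  have h2 : orderOf a ∣ 3 ^ e := he ▸ P.orderOf_dvd_natCard ha
  rw [orderOf_eq_prime (by rw [sq, h.inv]) h.inv_ne] at h2
  exact absurd (Nat.prime_two.dvd_of_dvd_pow h2) (by norm_num)

theorem NineHyp.concl (h : NineHyp K a b c) : NineConcl a b := by
  classical
  haveI : Fact (Nat.Prime 3) := ⟨Nat.prime_three⟩
  haveI : Fact (Nat.Prime 2) := ⟨Nat.prime_two⟩
  haveI := h.solvable
  set Y := Cfsg.pCore 3 K with hY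
  have hYp : IsPGroup 3 Y := PLocal.isPGroup_pCore 3 K
  haveI hYn : Y.Normal := inferInstance
  set F := (frattini Y).map Y.subtype with hF
  haveI hFn : F.Normal := ConjAct.normal_of_characteristic_of_normal
  have hFY : F ≤ Y := map_subtype_le _
  set q := QuotientGroup.mk' F with hq
  have hqs : Function.Surjective q := QuotientGroup.mk'_surjective F
  set V := Y.map q with hV
  haveI hVn : V.Normal := Subgroup.Normal.map inferInstance q hqs
  have hVmem : ∀ z : K, q z ∈ V ↔ z ∈ Y := fun z => by
    refine ⟨fun hz => ?_, fun hz => mem_map_of_mem q hz⟩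
    obtain ⟨y, hy, hyz⟩ := hz
    have h1 : y⁻¹ * z ∈ F := QuotientGroup.eq.1 hyz
    have := Y.mul_mem hy (hFY h1)
    rwa [mul_inv_cancel_left] at this
  have hVcomm : ∀ u v : V, u * v = v * u := by
    rintro ⟨_, u, hu, rfl⟩ ⟨_, v, hv, rfl⟩
    refine Subtype.ext ?_
    show q u * q v = q v * q u
    rw [← commutatorElement_eq_one_iff_mul_comm, ← map_commutatorElement]
    refine (QuotientGroup.eq_one_iff _).2 ⟨_, Solvable.commutator_le_frattini hYp
      (commutator_mem_commutator (mem_top (⟨u, hu⟩ : Y)) (mem_top (⟨v, hv⟩ : Y))), rfl⟩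
  have hVcube : ∀ v : Additive V, 3 • v = 0 := by
    intro v
    obtain ⟨z, hz, hzv⟩ := (Additive.toMul v).2
    show Additive.ofMul ((Additive.toMul v) ^ 3) = 0
    have h1 : (Additive.toMul v) ^ 3 = 1 := by
      refine Subtype.ext ?_
      rw [SubgroupClass.coe_pow, ← hzv, ← map_pow, OneMemClass.coe_one]
      exact (QuotientGroup.eq_one_iff _).2 ⟨_, Solvable.pow_mem_frattini hYp (⟨z, hz⟩ : Y), rfl⟩
    rw [h1]; rfl
  letI : CommGroup V := { (inferInstance : Group V) with mul_comm := hVcomm }
  letI : Module (ZMod 3) (Additive V) :=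
    AddCommGroup.zmodModule (n := 3) (G := Additive V) hVcube
  let R : Rep V (Additive V) :=
    { normal := hVn
      cent := fun z hz => by
        obtain ⟨g, rfl⟩ := hqs z
        refine (hVmem g).2 ?_
        have hk : g ∈ Cfsg.sectionKernel Y F := mem_centralizer_iff.2 fun v hv => (hz v hv).eq.symm
        haveI : (Cfsg.sectionKernel Y F).Normal := by
          rw [Cfsg.sectionKernel]
          haveI : (centralizer ((Y.map q : Subgroup (K ⧸ F)) : Set (K ⧸ F))).Normal := inferInstance
          exact Subgroup.Normal.comap inferInstance _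
        exact PLocal.le_pCore (PLocal.isPGroup_sectionKernel_frattini h.cent) hk
      core := fun M hM hMp => by
        intro z hz
        obtain ⟨g, rfl⟩ := hqs z
        haveI := hM
        exact (hVmem g).2 (PLocal.le_pCore (hMp.comap_of_ker_isPGroup q (by
          rw [QuotientGroup.ker_mk']; exact hYp.to_le hFY)) hz)
      rat := h.rat.quotient F
      solvable := Group.isSolvable_of_surjective hqs
      ρ := actEnd (MulAut.conjNormal : K ⧸ F →* MulAut V)
      j := fun m => ((Additive.toMul m : V) : K ⧸ F)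
      j_mem := fun m => (Additive.toMul m).2
      j_inj := fun m n hmn => Additive.toMul.injective (Subtype.ext hmn)
      j_surj := fun v hv => ⟨Additive.ofMul ⟨v, hv⟩, rfl⟩
      j_add := fun m n => rfl
      j_conj := fun z m => rfl }
  have hcardV : Nat.card V = Nat.card (Additive V) := R.card_eq
  have hIdx : Y.index = V.index := by
    have hcomap : V.comap q = Y := ext fun z => hVmem z
    conv_lhs => rw [← hcomap]
    exact index_comap_of_surjective _ hqs
  -- if `c ∈ Y` then the section has order at most nine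
  have hsmall : c ∈ Y → Nat.card (Additive V) ≤ 9 := by
    intro hc
    rw [← hcardV]
    let ψ : Y →* V := q.subgroupMap Y
    have hψ : Function.Surjective ψ := q.subgroupMap_surjective Y
    set c' : Y := ⟨c, hc⟩
    have h9 : cz c' ≤ 9 := le_trans (Nat.card_le_card_of_injective
      (fun d => (⟨((d : Y) : K), mem_centralizer_single.2
        (congrArg Subtype.val (mem_centralizer_single.1 d.2).eq)⟩ : centralizer ({c} : Set K)))
      (fun d e hde => Subtype.ext (Subtype.ext (congrArg Subtype.val hde :)))) h.nine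
    refine le_trans ?_ ((index_commutator_le_cz c').trans h9)
    rw [show Nat.card V = ψ.ker.index by rw [index_ker, MonoidHom.range_eq_top.2 hψ, card_top]]
    exact Nat.le_of_dvd (Nat.pos_of_ne_zero index_ne_zero_of_finite)
      (index_dvd_of_le (Abelianization.commutator_subset_ker ψ))
  by_cases h3 : 3 ∣ V.index
  swap
  · -- `Y` is the Sylow subgroup
    set Q := hYp.toSylow (by rwa [hIdx]) with hQ
    have hQY : (Q : Subgroup K) = Y := IsPGroup.toSylow_coe _ _
    have hQn : (Q : Subgroup K).Normal := by rw [hQY]; exact hYn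
    have hbY : b ∈ Y := hQY ▸ mem_sylow_of_normal Q hQn (j := 1)
      (by rw [pow_one, ← h.cube, pow_orderOf_eq_one])
    have hcY : c ∈ Y := hQY ▸ mem_sylow_of_normal Q hQn (j := 2) h.nine_ord
    have hM9 := hsmall hcY
    have haa : a⁻¹ = a := inv_eq_of_mul_eq_one_right h.inv
    refine ⟨Q, hQY ▸ hbY, fun z hz => ?_, ?_⟩
    · rw [hQY] at hz ⊢
      simpa [haa] using hYn.conj_mem z hz a
    · intro W _ _ ψ _ _ _ s ⟨k, hk⟩
      have hidx2 : ∀ p, p.Prime → p ∣ V.index → p = 2 := by
        intro p hp hpd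
        haveI := Fact.mk hp
        by_contra hp2
        have hp3 : p ≠ 3 := fun h => h3 (h ▸ hpd)
        rw [index_eq_card] at hpd
        obtain ⟨z, hz⟩ := exists_prime_orderOf_dvd_card' p hpd
        obtain ⟨g, rfl⟩ := QuotientGroup.mk'_surjective V z
        have hgV : g ∉ V := fun hg => by
          rw [show (QuotientGroup.mk' V) g = 1 from (QuotientGroup.eq_one_iff g).2 hg, orderOf_one] at hz
          exact hp.ne_one hz.symm
        have hgp : g ^ p ∈ V := (QuotientGroup.eq_one_iff _).1 (by
          show QuotientGroup.mk' V (g ^ p) = 1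
          rw [map_pow, ← hz, pow_orderOf_eq_one])
        haveI := R.finite_M
        let σ : Equiv.Perm (Additive V) :=
          { toFun := R.ρ g
            invFun := R.ρ g⁻¹
            left_inv := R.rho_cancel g
            right_inv := R.rho_cancel' g }
        have hσp : σ ^ p = 1 := by
          refine Equiv.ext fun m => ?_
          rw [← Equiv.Perm.iterate_eq_pow, Equiv.Perm.one_apply]
          show (R.ρ g : Additive V → Additive V)^[p] m = m
          rw [← Module.End.coe_pow, ← map_pow, R.rho_of_mem hgp, Module.End.one_apply]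
        have hmod := isPGroup_three_fixed σ hσp
        set Fx := LinearMap.ker (R.ρ g - 1) with hFx
        have hFc : Nat.card {m // σ m = m} = Nat.card Fx :=
          Nat.card_congr (Equiv.subtypeEquivRight fun m => by
            rw [hFx, LinearMap.mem_ker, LinearMap.sub_apply, sub_eq_zero, Module.End.one_apply]; rfl)
        rw [hFc] at hmod
        obtain ⟨n, hn⟩ := IsPGroup.iff_card.1 R.isPGroup
        rw [hcardV] at hn
        obtain ⟨i, hi, hieq⟩ := (Nat.dvd_prime_pow Nat.prime_three (m := n)).1
          (hn ▸ Fx.toAddSubgroup.card_addSubgroup_dvd_card : Nat.card Fx ∣ 3 ^ n)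
        have hin : i ≠ n := fun hin => hgV (R.mem_of_rho (LinearMap.ext fun m => by
          have hb : Function.Bijective (Subtype.val : Fx → Additive V) :=
            Subtype.val_injective.bijective_of_nat_card_le (by rw [hn, ← hin]; exact hieq.ge)
          obtain ⟨⟨m', hm'⟩, rfl⟩ := hb.2 m
          rw [hFx, LinearMap.mem_ker, LinearMap.sub_apply, sub_eq_zero] at hm'
          exact hm'))
        have hn2 : n ≤ 2 := by
          by_contra hh
          have : 3 ^ 3 ≤ 3 ^ n := Nat.pow_le_pow_right (by norm_num) (by omega)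
          omega
        have hp5 : 5 ≤ p := by
          have := hp.two_le
          rcases (show p = 2 ∨ p = 3 ∨ p = 4 ∨ 5 ≤ p by omega) with h' | h' | h' | h'
          · exact absurd h' hp2
          · exact absurd h' hp3
          · exact absurd (h' ▸ hp) (by decide)
          · exact h'
        rw [hn, hieq] at hmod
        have hd := (Nat.modEq_iff_dvd' (Nat.pow_le_pow_right (by norm_num) hi)).1 hmod.symm
        have hcases : 3 ^ n - 3 ^ i = 2 ∨ 3 ^ n - 3 ^ i = 8 ∨ 3 ^ n - 3 ^ i = 6 := by
          interval_cases n <;> interval_cases i <;> simp_all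
        rcases hcases with e | e | e <;> rw [e] at hd
        · exact absurd (Nat.le_of_dvd (by norm_num) hd) (by omega)
        · have := (Nat.prime_dvd_prime_iff_eq hp Nat.prime_two).1
            (hp.dvd_of_dvd_pow (show p ∣ 2 ^ 3 from hd))
          omega
        · rcases hp.dvd_mul.1 (show p ∣ 2 * 3 from hd) with h' | h'
          · have := (Nat.prime_dvd_prime_iff_eq hp Nat.prime_two).1 h'
            omega
          · have := (Nat.prime_dvd_prime_iff_eq hp Nat.prime_three).1 h'
            omega
      have hpg : IsPGroup 2 (K ⧸ Y) := by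
        refine IsPGroup.of_card (n := Y.index.primeFactorsList.length) ?_
        rw [← index_eq_card]
        refine Nat.eq_prime_pow_of_unique_prime_dvd index_ne_zero_of_finite fun {d} hd hdd => ?_
        exact hidx2 d hd (hIdx ▸ hdd)
      have hle := h.lq Y hYn hpg
      obtain ⟨n, hn⟩ := IsPGroup.iff_card.1 hpg
      rw [← index_eq_card] at hn
      have hcomm : ∀ u v : K ⧸ Y, u * v = v * u := by
        intro u v
        rcases (show n = 0 ∨ n = 1 ∨ n = 2 by
          by_contra hh
          have : 2 ^ 3 ≤ 2 ^ n := Nat.pow_le_pow_right two_pos (by omega)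
          omega) with rfl | rfl | rfl
        · haveI := (Nat.card_eq_one_iff_unique.1
            ((Y.index_eq_card).symm.trans hn)).1
          exact Subsingleton.elim _ _
        · haveI := isCyclic_of_prime_card (α := K ⧸ Y) (p := 2) ((Y.index_eq_card).symm.trans hn)
          obtain ⟨g, hg⟩ := IsCyclic.exists_generator (α := K ⧸ Y)
          obtain ⟨i, rfl⟩ := hg u
          obtain ⟨j, rfl⟩ := hg v
          exact ((Commute.refl g).zpow_zpow i j).eq
        · haveI := IsPGroup.isMulCommutative_of_card_eq_prime_sq (p := 2) (G := K ⧸ Y)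
            ((Y.index_eq_card).symm.trans hn)
          exact mul_comm' u v
      have hss : s * s ∈ Y := by
        rw [← QuotientGroup.eq_one_iff, QuotientGroup.mk_mul]
        exact (h.rat.quotient Y).sq_eq_one_of_comm hcomm _
      obtain ⟨e, he⟩ := IsPGroup.iff_card.1 hYp
      have h1 : orderOf (s * s) ∣ 3 ^ e := he ▸ Y.orderOf_dvd_natCard hss
      have h2 : orderOf (s * s) ∣ 2 ^ k := orderOf_dvd_of_pow_eq_one (by
        rw [(Commute.refl s).mul_pow, hk, one_mul])
      have h3' : orderOf (s * s) = 1 :=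
        Nat.eq_one_of_dvd_coprimes (Nat.Coprime.pow e k (by norm_num : Nat.Coprime 3 2)) h1 h2
      rw [orderOf_eq_one_iff.1 h3', map_one]
  · -- three divides the index
    haveI := R.finite_M
    have hVne : ∃ m : Additive V, m ≠ 0 := by
      by_contra hno
      push Not at hno
      have htop : V = ⊤ := eq_top_iff.2 fun z _ => R.cent z fun v hv => by
        obtain ⟨m, rfl⟩ := R.j_surj v hv
        rw [hno m, R.j_zero]
        exact Commute.one_right z
      rw [htop, index_top] at h3
      norm_num at h3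
    obtain ⟨t₀, ht₀, ht₀3⟩ : ∃ t, t ∉ V ∧ t ^ 3 ∈ V := by
      rw [index_eq_card] at h3
      obtain ⟨z, hz⟩ := exists_prime_orderOf_dvd_card' 3 h3
      obtain ⟨g, rfl⟩ := QuotientGroup.mk'_surjective V z
      refine ⟨g, fun hg => ?_, (QuotientGroup.eq_one_iff _).1 ?_⟩
      · rw [show (QuotientGroup.mk' V) g = 1 from (QuotientGroup.eq_one_iff g).2 hg, orderOf_one] at hz
        norm_num at hz
      · show QuotientGroup.mk' V (g ^ 3) = 1
        rw [map_pow, ← hz, pow_orderOf_eq_one]
    have h9lt : 9 < Nat.card (Additive V) := by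
      by_contra hh
      exact R.false_of_card_le_nine (Nat.not_lt.1 hh) ht₀ ht₀3
    have hcY : c ∉ Y := fun hc => by
      have := hsmall hc
      omega
    set t := q c with ht
    have htV : t ∉ V := fun hh => hcY ((hVmem c).1 hh)
    have hczt : cz t ≤ 9 := (cz_map_le q hqs c).trans h.nine
    set Fx := LinearMap.ker (R.ρ t - 1) with hFx
    have hmFx : ∀ m, m ∈ Fx ↔ R.ρ t m = m := fun m => by
      rw [hFx, LinearMap.mem_ker, LinearMap.sub_apply, sub_eq_zero, Module.End.one_apply]
    -- the order of `t` modulo `V`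
    set k := orderOf (QuotientGroup.mk' V t) with hk
    have hk9 : k ∣ 3 ^ 2 := orderOf_dvd_of_pow_eq_one (by
      rw [← map_pow, ht, ← map_pow, show 3 ^ 2 = 9 from rfl, h.nine_ord, map_one, map_one])
    have hle : k * Nat.card Fx ≤ 9 := by
      refine le_trans ?_ hczt
      rw [show k = Nat.card (Fin k) from (Nat.card_fin k).symm, ← Nat.card_prod]
      refine Nat.card_le_card_of_injective
        (fun p => (⟨t ^ (p.1 : ℕ) * R.j (p.2 : Additive V), mem_centralizer_single.2
          (((Commute.refl t).pow_left _).mul_left (R.commute_of_fix ((hmFx _).1 p.2.2)).symm)⟩ :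
            centralizer ({t} : Set (K ⧸ F)))) ?_
      rintro ⟨i, m⟩ ⟨i', m'⟩ hh
      have h' : t ^ (i : ℕ) * R.j (m : Additive V) = t ^ (i' : ℕ) * R.j (m' : Additive V) :=
        congrArg Subtype.val hh
      have h1 := congrArg (QuotientGroup.mk' V) h'
      rw [map_mul, map_mul, map_pow, map_pow,
        show QuotientGroup.mk' V (R.j (m : Additive V)) = 1 from (QuotientGroup.eq_one_iff _).2 (R.j_mem _),
        show QuotientGroup.mk' V (R.j (m' : Additive V)) = 1 from (QuotientGroup.eq_one_iff _).2 (R.j_mem _),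
        mul_one, mul_one] at h1
      obtain rfl : i = i' := Fin.ext (pow_injOn_Iio_orderOf i.2 i'.2 h1)
      obtain rfl : m = m' := Subtype.ext (R.j_inj (mul_left_cancel h'))
      rfl
    have hFx2 : 2 ≤ Nat.card Fx := by
      let σ : Equiv.Perm (Additive V) :=
        { toFun := R.ρ t
          invFun := R.ρ t⁻¹
          left_inv := R.rho_cancel t
          right_inv := R.rho_cancel' t }
      obtain ⟨m₀, hm₀⟩ := hVne
      have hd : 3 ∣ Nat.card (Additive V) := by
        obtain ⟨n, hn⟩ := IsPGroup.iff_card.1 R.isPGroup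
        rw [hcardV] at hn
        rw [hn]
        refine dvd_pow_self 3 ?_
        rintro rfl
        omega
      haveI := Fintype.ofFinite (Additive V)
      obtain ⟨m, hm, hm0⟩ := Equiv.Perm.exists_fixed_point_of_prime' (p := 3) (n := 2)
        (by rwa [← Nat.card_eq_fintype_card]) (σ := σ)
        (Equiv.ext fun m => by
          rw [← Equiv.Perm.iterate_eq_pow, Equiv.Perm.one_apply]
          show (R.ρ t : Additive V → Additive V)^[3 ^ 2] m = m
          rw [← Module.End.coe_pow, ← map_pow, ht, ← map_pow, show 3 ^ 2 = 9 from rfl, h.nine_ord,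
            map_one, map_one, Module.End.one_apply])
        (a := (0 : Additive V)) (map_zero (R.ρ t))
      haveI : Nontrivial Fx := ⟨⟨⟨m, (hmFx m).2 hm⟩, 0, fun hh => hm0 (congrArg Subtype.val hh)⟩⟩
      exact Finite.one_lt_card
    have hk3 : k = 3 := by
      have hk1 : k ≠ 1 := fun hk1 => htV ((QuotientGroup.eq_one_iff t).1
        (orderOf_eq_one_iff.1 (hk ▸ hk1)))
      obtain ⟨i, hi, hieq⟩ := (Nat.dvd_prime_pow Nat.prime_three).1 hk9
      interval_cases i
      · exact absurd hieq hk1
      · exact hieq.trans (pow_one 3)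
      · rw [hieq] at hle
        nlinarith
    have ht3 : t ^ 3 ∈ V := (QuotientGroup.eq_one_iff _).1 (by
      show QuotientGroup.mk' V (t ^ 3) = 1
      rw [map_pow, ← hk3, hk, pow_orderOf_eq_one])
    rw [hk3] at hle
    have hfix3 : Nat.card {m : Additive V // R.ρ t m = m} ≤ 3 := by
      rw [← Nat.card_congr (Equiv.subtypeEquivRight hmFx)]
      show Nat.card Fx ≤ 3
      omega
    have hM : Nat.card (Additive V) = 27 := by
      set T := R.ρ t - 1 with hT
      have hkerle : ∀ A B : Module.End (ZMod 3) (Additive V),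
          Nat.card (LinearMap.ker (A * B)) ≤ Nat.card (LinearMap.ker A) * Nat.card (LinearMap.ker B) := by
        intro A B
        rw [← Nat.card_prod]
        have hg : ∀ m : LinearMap.ker (A * B), B m ∈ LinearMap.ker A := fun m => by
          have := m.2
          rw [LinearMap.mem_ker, Module.End.mul_apply] at this
          exact LinearMap.mem_ker.2 this
        let g : LinearMap.ker (A * B) → LinearMap.ker A := fun m => ⟨B m, hg m⟩
        let sec : LinearMap.ker A → LinearMap.ker (A * B) := Function.invFun g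
        have hsec : ∀ m, g (sec (g m)) = g m := fun m => Function.invFun_eq ⟨m, rfl⟩
        refine Nat.card_le_card_of_injective
          (fun m => (g m, (⟨(m : Additive V) - sec (g m), by
            rw [LinearMap.mem_ker, map_sub, sub_eq_zero]
            exact (congrArg Subtype.val (hsec m)).symm⟩ : LinearMap.ker B))) ?_
        intro m m' hmm
        simp only [Prod.mk.injEq, Subtype.mk.injEq] at hmm
        rw [hmm.1] at hmm
        exact Subtype.ext (sub_left_injective hmm.2)
      have h1 : Nat.card (LinearMap.ker T) ≤ 3 := by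
        show Nat.card Fx ≤ 3
        omega
      have h3T : T * (T * T) = 0 := by
        have hone : R.ρ t * (R.ρ t * R.ρ t) = 1 := by
          rw [← map_mul, ← map_mul, ← pow_three, R.rho_of_mem ht3]
        refine LinearMap.ext fun m => ?_
        have hm := congrArg (fun S : Module.End (ZMod 3) (Additive V) => S m) hone
        simp only [Module.End.mul_apply, Module.End.one_apply] at hm
        simp only [hT, Module.End.mul_apply, LinearMap.sub_apply, Module.End.one_apply, map_sub,
          LinearMap.zero_apply, hm]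
        calc _ = (3 : ZMod 3) • (R.ρ t m - R.ρ t (R.ρ t m)) := by
              rw [show (3 : ZMod 3) = 1 + (1 + 1) by rfl]
              simp only [add_smul, one_smul]
              abel
          _ = 0 := by rw [show (3 : ZMod 3) = 0 from rfl, zero_smul]
      have h27 : Nat.card (Additive V) ≤ 27 := by
        calc Nat.card (Additive V) = Nat.card (LinearMap.ker (T * (T * T))) := by
              rw [h3T, LinearMap.ker_zero]
              exact (Nat.card_congr Submodule.topEquiv.toEquiv).symm
          _ ≤ Nat.card (LinearMap.ker T) * Nat.card (LinearMap.ker (T * T)) := hkerle _ _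
          _ ≤ 3 * (Nat.card (LinearMap.ker T) * Nat.card (LinearMap.ker T)) :=
              Nat.mul_le_mul h1 (hkerle _ _)
          _ ≤ 3 * (3 * 3) := Nat.mul_le_mul_left _ (Nat.mul_le_mul h1 h1)
      obtain ⟨n, hn⟩ := IsPGroup.iff_card.1 R.isPGroup
      rw [hcardV] at hn
      have hn3 : n = 3 := by
        by_contra hh
        rcases (show n ≤ 2 ∨ 4 ≤ n by omega) with h' | h'
        · have : 3 ^ n ≤ 3 ^ 2 := Nat.pow_le_pow_right (by norm_num) h'
          omega
        · have : 3 ^ 4 ≤ 3 ^ n := Nat.pow_le_pow_right (by norm_num) h'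
          omega
      rw [hn, hn3]; rfl
    obtain ⟨C⟩ := R.exists_coords hM htV ht3 hfix3
    have ha2 : q a * q a = 1 := by rw [← map_mul, h.inv, map_one]
    have ha1 : q a ≠ 1 := fun hh => h.a_not_mem_of_isPGroup (hYp.to_le hFY)
      ((QuotientGroup.eq_one_iff a).1 hh)
    obtain ⟨hneg, hbV, hsurj⟩ := C.neg_and_surjective ha2 ha1 (h.commute.map q)
      (by rw [← map_pow, ← h.cube, pow_orderOf_eq_one, map_one])
      (le_trans (by rw [← map_mul]; exact cz_map_le q hqs _) h.six)
    have hbY : b ∉ Y := fun hh => hbV ((hVmem b).2 hh)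
    have haa : a⁻¹ = a := inv_eq_of_mul_eq_one_right h.inv
    -- `a` centralises nothing in `Y`
    have hCa : ∀ z ∈ Y, Commute a z → z = 1 := by
      intro z hz hza
      by_contra hz1
      set Z := Y ⊓ centralizer ({a} : Set K) with hZ
      have hzZ : z ∈ Z := ⟨hz, mem_centralizer_single.2 hza.symm⟩
      have hbZ : ∀ y ∈ Z, b * y * b⁻¹ ∈ Z := fun y hy => ⟨hYn.conj_mem y hy.1 b,
        mem_centralizer_single.2 ((((h.commute.symm).mul_left
          (mem_centralizer_single.1 hy.2)).mul_left h.commute.symm.inv_left))⟩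
      have hb3 : b * (b * b) = 1 := by rw [← pow_three, ← h.cube, pow_orderOf_eq_one]
      have hbi : b⁻¹ = b * b := inv_eq_of_mul_eq_one_right hb3
      have hbZ' : ∀ y ∈ Z, b⁻¹ * y * b ∈ Z := fun y hy => by
        have := hbZ _ (hbZ y hy)
        convert this using 1
        rw [hbi]
        calc b * b * y * b = b * (b * y * b⁻¹) * b⁻¹ * (b * (b * b)) := by group
          _ = b * (b * y * b⁻¹) * b⁻¹ := by rw [hb3, mul_one, hbi]
          _ = b * (b * y * (b * b)) * (b * b) := by rw [hbi]
      let σ : Equiv.Perm Z :=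
        { toFun := fun y => ⟨b * y * b⁻¹, hbZ y y.2⟩
          invFun := fun y => ⟨b⁻¹ * y * b, hbZ' y y.2⟩
          left_inv := fun y => Subtype.ext (by simp only; group)
          right_inv := fun y => Subtype.ext (by simp only; group) }
      have hZd : 3 ∣ Nat.card Z := by
        obtain ⟨n, hn⟩ := IsPGroup.iff_card.1 (hYp.to_le (inf_le_left : Z ≤ Y))
        rw [hn]
        refine dvd_pow_self 3 ?_
        rintro rfl
        rw [pow_zero, card_eq_one] at hn
        exact hz1 (mem_bot.1 (hn ▸ hzZ))
      haveI := Fintype.ofFinite Z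
      obtain ⟨y, hy, hy1⟩ := Equiv.Perm.exists_fixed_point_of_prime' (p := 3) (n := 1)
        (by rwa [← Nat.card_eq_fintype_card]) (σ := σ)
        (Equiv.ext fun y => Subtype.ext (by
          rw [pow_one, pow_three]
          show b * (b * (b * (y : K) * b⁻¹) * b⁻¹) * b⁻¹ = y
          calc b * (b * (b * (y : K) * b⁻¹) * b⁻¹) * b⁻¹ = (b * (b * b)) * y * (b * (b * b))⁻¹ := by group
            _ = y := by rw [hb3, one_mul, inv_one, mul_one]))
        (a := (1 : Z)) (Subtype.ext (by simp [σ]))
      have hyb : Commute b (y : K) := mul_inv_eq_iff_eq_mul.1 (congrArg Subtype.val hy)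
      have hy3 : orderOf (y : K) ∣ cz (a * b) :=
        (centralizer ({a * b} : Set K)).orderOf_dvd_natCard (mem_centralizer_single.2
          ((mem_centralizer_single.1 y.2.2).mul_right hyb.symm))
      have h6 : cz (a * b) = 6 := by
        have hd : 6 ∣ cz (a * b) := by
          have ho : orderOf (a * b) = 6 := by
            rw [h.commute.orderOf_mul_eq_mul_orderOf_of_coprime
              (by rw [orderOf_eq_prime (by rw [sq, h.inv]) h.inv_ne, h.cube]; norm_num),
              orderOf_eq_prime (by rw [sq, h.inv]) h.inv_ne, h.cube]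
          rw [← ho]
          exact (centralizer ({a * b} : Set K)).orderOf_dvd_natCard
            (mem_centralizer_single.2 (Commute.refl _))
        exact le_antisymm h.six (Nat.le_of_dvd (cz_pos _) hd)
      -- the whole centraliser is generated by `a` and `b`
      have hgen : centralizer ({a * b} : Set K) = zpowers (a * b) :=
        (eq_of_le_of_card_ge (zpowers_le.2 (mem_centralizer_single.2 (Commute.refl _))) (by
          rw [Nat.card_zpowers, show Nat.card (centralizer ({a * b} : Set K)) = cz (a * b) from rfl, h6,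
            h.commute.orderOf_mul_eq_mul_orderOf_of_coprime
              (by rw [orderOf_eq_prime (by rw [sq, h.inv]) h.inv_ne, h.cube]; norm_num),
            orderOf_eq_prime (by rw [sq, h.inv]) h.inv_ne, h.cube])).symm
      obtain ⟨i, hi⟩ : (y : K) ∈ zpowers (a * b) := hgen ▸ mem_centralizer_single.2
        ((mem_centralizer_single.1 y.2.2).mul_right hyb.symm)
      change (a * b) ^ i = (y : K) at hi
      rw [h.commute.mul_zpow] at hi
      have hbiY : b ^ i ∈ Y := by
        rcases Int.even_or_odd i with ⟨j, rfl⟩ | ⟨j, rfl⟩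
        · rw [← two_mul, zpow_mul, zpow_two, h.inv, one_zpow, one_mul] at hi
          rw [two_mul] at hi
          rw [hi]; exact y.2.1
        · exfalso
          rw [zpow_add a, zpow_mul, zpow_two, h.inv, one_zpow, one_mul, zpow_one] at hi
          obtain ⟨n, hn⟩ := IsPGroup.iff_card.1 hYp
          have ho : orderOf ((y : K)) ∣ 3 ^ n := hn ▸ Y.orderOf_dvd_natCard y.2.1
          have h2 : orderOf (a * b ^ (2 * j + 1)) = orderOf a * orderOf (b ^ (2 * j + 1)) :=
            (h.commute.zpow_right _).orderOf_mul_eq_mul_orderOf_of_coprime (by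
              rw [orderOf_eq_prime (by rw [sq, h.inv]) h.inv_ne]
              refine Nat.Coprime.coprime_dvd_right
                (orderOf_dvd_of_mem_zpowers (zpow_mem (mem_zpowers b) _)) ?_
              rw [h.cube]; norm_num)
          rw [hi, orderOf_eq_prime (by rw [sq, h.inv] : a ^ 2 = 1) h.inv_ne] at h2
          exact absurd (Nat.prime_two.dvd_of_dvd_pow ((Dvd.intro _ h2.symm).trans ho)) (by norm_num)
      by_cases hbi1 : b ^ i = 1
      · refine hy1 (Subtype.ext ?_)
        show (y : K) = 1
        rw [← hi, hbi1, mul_one]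
        rcases Int.even_or_odd i with ⟨j, rfl⟩ | ⟨j, rfl⟩
        · rw [← two_mul, zpow_mul, zpow_two, h.inv, one_zpow]
        · exfalso
          rw [hbi1, mul_one, zpow_add, zpow_mul, zpow_two, h.inv, one_zpow, one_mul, zpow_one] at hi
          exact h.a_not_mem_of_isPGroup hYp (hi ▸ y.2.1)
      · refine hbY ?_
        have hgen2 : zpowers (b ^ i) = zpowers b :=
          eq_of_le_of_card_ge (zpowers_le.2 (zpow_mem (mem_zpowers b) i)) (by
            rw [Nat.card_zpowers, Nat.card_zpowers, h.cube]
            rcases (Nat.dvd_prime Nat.prime_three).1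
              ((orderOf_dvd_of_mem_zpowers (zpow_mem (mem_zpowers b) i)).trans (dvd_of_eq h.cube))
              with e | e
            · exact absurd (orderOf_eq_one_iff.1 e) hbi1
            · exact e.ge)
        exact (zpowers_le.2 hbiY) (hgen2 ▸ mem_zpowers b)
    let θ : Y →* Y := (MulAut.conjNormal a : Y ≃* Y).toMonoidHom
    have hθf : MonoidHom.FixedPointFree θ := fun z hz => by
      have h1 : a * (z : K) * a⁻¹ = z := congrArg Subtype.val hz
      exact Subtype.ext (hCa z z.2 (mul_inv_eq_iff_eq_mul.1 h1))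
    have hθ2 : Function.Involutive θ := fun z => Subtype.ext (by
      show a * (a * (z : K) * a⁻¹) * a⁻¹ = z
      calc a * (a * (z : K) * a⁻¹) * a⁻¹ = (a * a) * z * (a * a)⁻¹ := by group
        _ = z := by rw [h.inv, one_mul, inv_one, mul_one])
    have hYcomm : ∀ u ∈ Y, ∀ v ∈ Y, Commute u v := fun u hu v hv =>
      congrArg Subtype.val (hθf.commute_all_of_involutive hθ2 ⟨u, hu⟩ ⟨v, hv⟩).eq
    -- the quotient by `Y`
    let r : K →* (K ⧸ F) := q
    have hπY : ∀ z, C.π (q z) = SP.one ↔ z ∈ Y := fun z => by rw [C.π_eq_one_iff, hVmem]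
    have hidx48 : V.index = 48 := by
      rw [index_eq_card]
      let φ : (K ⧸ F) ⧸ V → SP := Quotient.lift C.π (fun x y hxy => by
        have hv : x⁻¹ * y ∈ V := QuotientGroup.leftRel_apply.1 hxy
        conv_rhs => rw [show y = x * (x⁻¹ * y) from (mul_inv_cancel_left x y).symm, C.π_mul,
          (C.π_eq_one_iff _).2 hv, ← C.π_one, ← C.π_mul, mul_one])
      have hφ : Function.Bijective φ := by
        refine ⟨fun x y hxy => ?_, fun p => ?_⟩
        · induction x using QuotientGroup.induction_on with | H x => ?_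
          induction y using QuotientGroup.induction_on with | H y => ?_
          have hxy' : C.π x = C.π y := hxy
          refine QuotientGroup.eq.2 ((C.π_eq_one_iff _).1 ?_)
          rw [C.π_mul, ← hxy', ← C.π_mul, inv_mul_cancel, C.π_one]
        · obtain ⟨x, hx⟩ := hsurj p
          exact ⟨QuotientGroup.mk x, hx⟩
      rw [Nat.card_eq_of_bijective φ hφ, Nat.card_eq_fintype_card]
      rfl
    set P := Y ⊔ zpowers b with hP
    have hbp : IsPGroup 3 (zpowers b) :=
      IsPGroup.of_card (n := 1) (by rw [Nat.card_zpowers, h.cube, pow_one])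
    have hPp : IsPGroup 3 P := hYp.to_sup_of_normal_left hbp
    obtain ⟨Q, hQ⟩ := hPp.exists_le_sylow
    have hQP : (Q : Subgroup K) = P := by
      refine (eq_of_le_of_card_ge hQ ?_).symm
      obtain ⟨n, hn⟩ := IsPGroup.iff_card.1 hYp
      obtain ⟨i, hi⟩ := IsPGroup.iff_card.1 Q.isPGroup'
      obtain ⟨l, hl⟩ := IsPGroup.iff_card.1 hPp
      have hlt : Nat.card Y < Nat.card P := by
        by_contra hh
        exact hbY ((eq_of_le_of_card_ge (le_sup_left : Y ≤ P) (Nat.not_lt.1 hh)).symm ▸
          mem_sup_right (mem_zpowers b))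
      rw [hn, hl] at hlt
      have hnl : n < l := (Nat.pow_lt_pow_iff_right (by norm_num)).1 hlt
      have hd : 3 ^ i ∣ 3 ^ n * 48 := by
        rw [← hi, ← hn, ← hidx48, ← hIdx, Y.card_mul_index]
        exact card_subgroup_dvd_card _
      have hd2 : 3 ^ i ∣ 3 ^ (n + 1) * 16 := by rwa [pow_succ, mul_assoc]
      have hd3 : 3 ^ i ∣ 3 ^ (n + 1) :=
        (Nat.Coprime.pow_left i (by norm_num : Nat.Coprime 3 16)).dvd_of_dvd_mul_right hd2
      have hle' := (Nat.pow_dvd_pow_iff_le_right (by norm_num)).1 hd3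
      rw [hi, hl]
      exact Nat.pow_le_pow_right (by norm_num) (by omega)
    refine ⟨Q, hQP ▸ mem_sup_right (mem_zpowers b), fun z hz => ?_, ?_⟩
    · rw [hQP] at hz ⊢
      have hmap : P.map (MulAut.conj a).toMonoidHom ≤ P := by
        rw [hP, Subgroup.map_sup]
        refine sup_le (le_sup_of_le_left ?_) (le_sup_of_le_right ?_)
        · rintro _ ⟨y, hy, rfl⟩
          exact hYn.conj_mem y hy a
        · rw [MonoidHom.map_zpowers, zpowers_le]
          show a * b * a⁻¹ ∈ zpowers b
          rw [h.commute.eq, mul_inv_cancel_right]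
          exact mem_zpowers b
      have := hmap ⟨z, hz, rfl⟩
      change a * z * a⁻¹ ∈ P at this
      rwa [haa] at this
    intro W _ _ ψ hW5 hrange hfix s hs
    obtain ⟨k', hk'⟩ := hs
    haveI : Fact (Nat.Prime 5) := ⟨by norm_num⟩
    have hW3 : (Nat.card W).Coprime 3 := by
      obtain ⟨e, he⟩ := IsPGroup.iff_card.1 hW5
      rw [he]
      exact Nat.Coprime.pow_left e (by norm_num)
    have hconjfix : ∀ g : K, ∀ v, ψ (g * b * g⁻¹) v = v → v = 1 := fun g v hv => by
      rw [map_mul, map_mul, MulAut.mul_apply, MulAut.mul_apply] at hv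
      have h1 := congrArg (ψ g⁻¹) hv
      rw [← MulAut.mul_apply, ← map_mul, inv_mul_cancel, map_one, MulAut.one_apply] at h1
      exact (ψ g⁻¹).injective ((hfix _ h1).trans (map_one _).symm)
    -- `b` centralises the image of `Y`
    have hcen : ∀ y ∈ Y, ψ (b * y * b⁻¹ * y⁻¹) = 1 := by
      let d : Y →* Y :=
        { toFun := fun y => ⟨b * y * b⁻¹ * (y : K)⁻¹, Y.mul_mem (hYn.conj_mem _ y.2 b) (Y.inv_mem y.2)⟩
          map_one' := Subtype.ext (by simp)
          map_mul' := fun u v => Subtype.ext (by
            show b * ((u : K) * v) * b⁻¹ * ((u : K) * v)⁻¹ =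
              b * u * b⁻¹ * (u : K)⁻¹ * (b * v * b⁻¹ * (v : K)⁻¹)
            have hc1 : Commute (b * (v : K) * b⁻¹ * (v : K)⁻¹) (u : K)⁻¹ :=
              hYcomm _ (Y.mul_mem (hYn.conj_mem _ v.2 b) (Y.inv_mem v.2)) _ (Y.inv_mem u.2)
            calc b * ((u : K) * v) * b⁻¹ * ((u : K) * v)⁻¹
                = b * u * b⁻¹ * ((b * v * b⁻¹ * (v : K)⁻¹) * (u : K)⁻¹) := by group
              _ = _ := by rw [hc1.eq]; group) }
      set dd := (ψ.comp Y.subtype).comp d with hdd
      intro y hy
      have : dd.range = ⊥ := by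
        by_contra hne
        -- a nontrivial fixed element
        have hRp : IsPGroup 3 dd.range := by
          intro r
          obtain ⟨z, hz⟩ := r.2
          obtain ⟨i, hi⟩ := hYp z
          exact ⟨i, Subtype.ext (by rw [SubgroupClass.coe_pow, ← hz, ← map_pow, hi, map_one]; rfl)⟩
        have hinvr : ∀ r ∈ dd.range, ψ b * r * (ψ b)⁻¹ ∈ dd.range := by
          rintro _ ⟨z, rfl⟩
          refine ⟨⟨b * z * b⁻¹, hYn.conj_mem _ z.2 b⟩, ?_⟩
          show ψ (b * (b * (z : K) * b⁻¹) * b⁻¹ * (b * (z : K) * b⁻¹)⁻¹) =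
            ψ b * ψ (b * (z : K) * b⁻¹ * (z : K)⁻¹) * (ψ b)⁻¹
          rw [← map_inv, ← map_mul, ← map_mul]
          congr 1
          group
        have hinvr' : ∀ r ∈ dd.range, (ψ b)⁻¹ * r * ψ b ∈ dd.range := by
          intro r hr
          have h2 := hinvr _ (hinvr r hr)
          convert h2 using 1
          have hb3' : ψ b * (ψ b * ψ b) = 1 := by
            rw [← map_mul, ← map_mul, ← pow_three, ← h.cube, pow_orderOf_eq_one, map_one]
          have hbi' := inv_eq_of_mul_eq_one_right hb3'
          calc (ψ b)⁻¹ * r * ψ b = ψ b * ψ b * r * ψ b := by rw [hbi']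
            _ = ψ b * (ψ b * r * (ψ b)⁻¹) * (ψ b)⁻¹ * (ψ b * (ψ b * ψ b)) := by group
            _ = ψ b * (ψ b * r * (ψ b)⁻¹) * (ψ b)⁻¹ := by rw [hb3', mul_one]
        let σ : Equiv.Perm dd.range :=
          { toFun := fun r => ⟨ψ b * r * (ψ b)⁻¹, hinvr r r.2⟩
            invFun := fun r => ⟨(ψ b)⁻¹ * r * ψ b, hinvr' r r.2⟩
            left_inv := fun r => Subtype.ext (by simp only; group)
            right_inv := fun r => Subtype.ext (by simp only; group) }
        haveI : Finite (MulAut W) := Finite.of_injective (fun f => (f : W → W)) DFunLike.coe_injective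
        have hd3 : 3 ∣ Nat.card dd.range := by
          obtain ⟨n, hn⟩ := IsPGroup.iff_card.1 hRp
          rw [hn]
          refine dvd_pow_self 3 ?_
          rintro rfl
          rw [pow_zero, card_eq_one] at hn
          exact hne hn
        haveI := Fintype.ofFinite dd.range
        obtain ⟨r, hr, hr1⟩ := Equiv.Perm.exists_fixed_point_of_prime' (p := 3) (n := 1)
          (by rwa [← Nat.card_eq_fintype_card]) (σ := σ)
          (Equiv.ext fun r => Subtype.ext (by
            rw [pow_one, pow_three]
            show ψ b * (ψ b * (ψ b * (r : MulAut W) * (ψ b)⁻¹) * (ψ b)⁻¹) * (ψ b)⁻¹ = r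
            have hb3' : ψ b * (ψ b * ψ b) = 1 := by
              rw [← map_mul, ← map_mul, ← pow_three, ← h.cube, pow_orderOf_eq_one, map_one]
            calc ψ b * (ψ b * (ψ b * (r : MulAut W) * (ψ b)⁻¹) * (ψ b)⁻¹) * (ψ b)⁻¹
                = (ψ b * (ψ b * ψ b)) * r * (ψ b * (ψ b * ψ b))⁻¹ := by group
              _ = r := by rw [hb3', one_mul, inv_one, mul_one]))
          (a := (1 : dd.range)) (Subtype.ext (by simp [σ]))
        obtain ⟨n, hn⟩ := IsPGroup.iff_orderOf.1 hRp r
        have hn0 : n ≠ 0 := fun h0 => hr1 (by rw [h0, pow_zero, orderOf_eq_one_iff] at hn; exact hn)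
        obtain ⟨n', rfl⟩ := Nat.exists_eq_succ_of_ne_zero hn0
        set r' := r ^ 3 ^ n' with hr'
        have hr'o : orderOf r' = 3 := by
          rw [hr', orderOf_pow' _ (pow_ne_zero _ (by norm_num)), hn]
          rw [Nat.gcd_eq_right (pow_dvd_pow 3 (Nat.le_succ n')), pow_succ,
            Nat.mul_div_cancel_left _ (pow_pos (by norm_num) n')]
        have hcom0 : Commute (ψ b) (r : MulAut W) :=
          mul_inv_eq_iff_eq_mul.1 (congrArg Subtype.val hr)
        have hcom : Commute (ψ b) (r' : MulAut W) := by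
          rw [hr', SubgroupClass.coe_pow]
          exact hcom0.pow_right _
        obtain ⟨z, hz⟩ := r'.2
        have hz' : ψ (b * (z : K) * b⁻¹ * (z : K)⁻¹) = (r' : MulAut W) := hz
        have hrinv : ∀ z : Y, ∀ v, (ψ b * (ψ (b * (z : K) * b⁻¹ * (z : K)⁻¹))⁻¹) v = v →
            Commute (ψ b) (ψ (b * (z : K) * b⁻¹ * (z : K)⁻¹)) → v = 1 := by
          intro z v hv hc
          rw [hc.inv_right.eq, ← map_inv, ← map_mul] at hv
          refine hconjfix (z : K) v ?_
          convert hv using 3
          group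
        have hone : (r' : MulAut W)⁻¹ = 1 := by
          refine noncyclic_trivial hW3 hcom.inv_right (by rw [← map_pow, ← h.cube, pow_orderOf_eq_one, map_one])
            (by rw [inv_pow, ← SubgroupClass.coe_pow, ← hr'o, pow_orderOf_eq_one, OneMemClass.coe_one,
              inv_one]) hfix (fun v hv => ?_) (fun v hv => ?_)
          · rw [← hz'] at hv hcom
            exact hrinv z v hv hcom
          · have hz2 : ψ (b * ((z * z : Y) : K) * b⁻¹ * ((z * z : Y) : K)⁻¹) =
                (r' : MulAut W) * (r' : MulAut W) := by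
              have hh := map_mul dd z z
              rw [hz] at hh
              exact hh
            rw [← mul_inv_rev, ← hz2] at hv
            exact hrinv (z * z) v hv (by rw [hz2]; exact hcom.mul_right hcom)
        have hr'1 : r' = 1 := Subtype.ext (inv_eq_one.1 hone)
        rw [hr'1, orderOf_one] at hr'o
        norm_num at hr'o
      have hmem : dd ⟨y, hy⟩ ∈ dd.range := ⟨_, rfl⟩
      rw [this, mem_bot] at hmem
      exact hmem
    -- `Y` acts trivially
    set Kr := Y ⊓ ψ.ker with hKr
    haveI : Kr.Normal := inferInstance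
    have hKmem : ∀ g : K ⧸ F, ∀ m, R.j m ∈ Kr.map q → R.j (R.ρ g m) ∈ Kr.map q := fun g m hm => by
      rw [R.j_conj]
      exact (Subgroup.Normal.map (inferInstance : Kr.Normal) q hqs).conj_mem _ hm g
    have hKadd : ∀ m n, R.j m ∈ Kr.map q → R.j n ∈ Kr.map q → R.j (m + n) ∈ Kr.map q :=
      fun m n hm hn => by rw [R.j_add]; exact Subgroup.mul_mem _ hm hn
    obtain ⟨f, hf0, hfK⟩ : ∃ f, f ≠ 0 ∧ R.j (C.ι f) ∈ Kr.map q := by
      have hmove : R.ρ (q b) ≠ 1 := fun hh => hbV (R.mem_of_rho hh)
      obtain ⟨m, hm⟩ : ∃ m, R.ρ (q b) m ≠ m := by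
        by_contra hh
        push Not at hh
        exact hmove (LinearMap.ext hh)
      obtain ⟨f, hf⟩ := C.ι_bij.2 (R.ρ (q b) m + -m)
      have hι0 : C.ι 0 = 0 := by simpa using C.ι_add 0 0
      refine ⟨f, fun h0 => hm ?_, ?_⟩
      · rw [h0, hι0] at hf
        rwa [eq_comm, ← sub_eq_add_neg, sub_eq_zero] at hf
      · rw [hf, R.j_add, R.j_conj]
        obtain ⟨y, hy, hym⟩ := R.j_mem m
        refine ⟨b * y * b⁻¹ * y⁻¹, ⟨Y.mul_mem (hYn.conj_mem y hy b) (Y.inv_mem hy), hcen y hy⟩, ?_⟩
        have hneg : R.j (-m) = (R.j m)⁻¹ := eq_inv_of_mul_eq_one_left (by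
          rw [← R.j_add, neg_add_cancel, R.j_zero])
        rw [hneg, map_mul, map_mul, map_mul, map_inv, map_inv, hym]
    have hall : ∀ f, R.j (C.ι f) ∈ Kr.map q := by
      have happ : ∀ p, ∀ f, R.j (C.ι f) ∈ Kr.map q → R.j (C.ι (SP.app p f)) ∈ Kr.map q := by
        intro p f hf
        obtain ⟨g, hg⟩ := hsurj p
        rw [← hg, ← C.spec]
        exact hKmem g _ hf
      obtain ⟨i, hi⟩ := SP.eA_cyc_singles f hf0
      have hneg : ∀ f, R.j (C.ι f) ∈ Kr.map q → R.j (C.ι (-f)) ∈ Kr.map q := fun f hf => by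
        have := happ SP.neg f hf
        rwa [show SP.app SP.neg f = -f from funext fun j => by fin_cases j <;> rfl] at this
      have hsingle : R.j (C.ι (Pi.single i 1)) ∈ Kr.map q := by
        have h1 := hKadd _ _ hfK (happ ([SP.eA, SP.eB, SP.mul SP.eA SP.eB][i.val]!) f hfK)
        rw [← C.ι_add] at h1
        rcases SP.isolate f i hi with e | e <;> rw [e] at h1
        · exact h1
        · have := hneg _ h1
          rwa [neg_neg] at this
      have hsingles : ∀ j, R.j (C.ι (Pi.single j 1)) ∈ Kr.map q := fun j => by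
        obtain ⟨k, hk⟩ := SP.single_move i j
        exact hk ▸ happ _ _ hsingle
      intro f
      rw [SP.decompose f, C.ι_add, C.ι_add]
      have hι0 : C.ι 0 = 0 := by simpa using C.ι_add 0 0
      have hsc : ∀ (c : ZMod 3) j, R.j (C.ι (c • Pi.single j 1)) ∈ Kr.map q := by
        intro c j
        rcases SP.zmod3_cases c with rfl | rfl | rfl
        · rw [zero_smul, hι0, R.j_zero]; exact Subgroup.one_mem _
        · rw [one_smul]; exact hsingles j
        · rw [neg_one_smul]; exact hneg _ (hsingles j)
      exact hKadd _ _ (hKadd _ _ (hsc _ _) (hsc _ _)) (hsc _ _)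
    have hYker : ∀ y ∈ Y, ψ y = 1 := by
      have hsup : (Kr.subgroupOf Y) ⊔ frattini Y = ⊤ := by
        rw [eq_top_iff]
        rintro ⟨y, hy⟩ -
        obtain ⟨m, hm⟩ := R.j_surj _ ((hVmem y).2 hy)
        obtain ⟨f, rfl⟩ := C.ι_bij.2 m
        obtain ⟨k, hk, hky⟩ := hall f
        rw [hm] at hky
        obtain ⟨e, he, hey⟩ := (QuotientGroup.eq.1 hky : k⁻¹ * y ∈ F)
        rw [show (⟨y, hy⟩ : Y) = ⟨k, hk.1⟩ * e from Subtype.ext (by
          show y = k * (e : K)
          rw [show (e : K) = k⁻¹ * y from hey, mul_inv_cancel_left])]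
        exact mul_mem_sup (show (⟨k, hk.1⟩ : Y) ∈ Kr.subgroupOf Y from hk) he
      have htop := Solvable.eq_top_of_sup_frattini hsup
      intro y hy
      exact ((htop ▸ mem_top (⟨y, hy⟩ : Y) : (⟨y, hy⟩ : Y) ∈ Kr.subgroupOf Y) : y ∈ Kr).2
    -- the diagonal part
    let ψ' : K ⧸ Y →* MulAut W := QuotientGroup.lift Y ψ (fun y hy => hYker y hy)
    let E : Subgroup K :=
      { carrier := {g | (C.π (q g)).diag1 = true}
        mul_mem' := fun {u v} hu hv => by
          show (C.π (q (u * v))).diag1 = true
          rw [map_mul, C.π_mul]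
          exact SP.diag1_mul _ _ hu hv
        one_mem' := by
          show (C.π (q 1)).diag1 = true
          rw [map_one, C.π_one]
          exact SP.diag1_one
        inv_mem' := fun {u} hu => by
          show (C.π (q u⁻¹)).diag1 = true
          have hsq : u * u ∈ Y := (hπY _).1 (by rw [map_mul, C.π_mul]; exact SP.diag1_sq _ hu)
          rw [show u⁻¹ = u * (u * u)⁻¹ by group, map_mul, C.π_mul,
            (hπY _).2 (Y.inv_mem hsq), ← C.π_one, ← C.π_mul, mul_one]
          exact hu }
    have hEmem : ∀ g, g ∈ E ↔ (C.π (q g)).diag1 = true := fun _ => Iff.rfl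
    set E' := E.map (QuotientGroup.mk' Y) with hE'
    have hE2 : IsPGroup 2 E' := by
      rintro ⟨_, g, hg, rfl⟩
      refine ⟨1, Subtype.ext ?_⟩
      show (QuotientGroup.mk' Y g) ^ 2 ^ 1 = 1
      rw [pow_one, sq, ← map_mul]
      exact (QuotientGroup.eq_one_iff _).2
        ((hπY _).1 (by rw [map_mul, C.π_mul]; exact SP.diag1_sq _ ((hEmem g).1 hg)))
    have hE3 : ¬ 3 ∣ Nat.card E' := fun hh => by
      obtain ⟨n, hn⟩ := IsPGroup.iff_card.1 hE2
      rw [hn] at hh
      exact absurd (Nat.prime_three.dvd_of_dvd_pow hh) (by norm_num)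
    have hrange' : ¬ 5 ∣ Nat.card ψ'.range := by
      have e : ψ'.range = ψ.range := by
        ext r
        constructor
        · rintro ⟨g, rfl⟩
          obtain ⟨g, rfl⟩ := QuotientGroup.mk'_surjective Y g
          exact ⟨g, rfl⟩
        · rintro ⟨g, rfl⟩
          exact ⟨QuotientGroup.mk' Y g, rfl⟩
      rwa [e]
    have hb1 : C.π (q b) ≠ SP.one := fun hh => hbY ((hπY b).1 hh)
    have hb3 : SP.mul (C.π (q b)) (SP.mul (C.π (q b)) (C.π (q b))) = SP.one := by
      rw [← C.π_mul, ← C.π_mul, ← map_mul, ← map_mul, ← pow_three, ← h.cube, pow_orderOf_eq_one,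
        map_one, C.π_one]
    have hkill := act_trivial ψ' hW5 hrange' (w := QuotientGroup.mk' Y b)
      (by rw [← map_pow, ← h.cube, pow_orderOf_eq_one, map_one]) hfix E' hE3
      (by
        rintro _ ⟨g, hg, rfl⟩
        refine ⟨b * g * b⁻¹, (hEmem _).2 ?_, by rw [map_mul, map_mul, map_inv]⟩
        rw [map_mul, map_mul, C.π_mul, C.π_mul]
        refine SP.diag_conj _ _ _ ?_ ((hEmem g).1 hg)
        rw [← C.π_mul, ← map_mul, mul_inv_cancel, map_one, C.π_one])
      (by
        rintro _ ⟨g, hg, rfl⟩ hc
        refine (QuotientGroup.eq_one_iff g).2 ((hπY g).1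
          (SP.diag_fixed _ _ hb3 hb1 ((hEmem g).1 hg) ?_))
        have hmem : (b * g)⁻¹ * (g * b) ∈ Y := QuotientGroup.eq.1
          (by rw [QuotientGroup.mk_mul, QuotientGroup.mk_mul]; exact hc.eq)
        rw [← C.π_mul, ← C.π_mul, ← map_mul, ← map_mul]
        conv_lhs => rw [show g * b = b * g * ((b * g)⁻¹ * (g * b)) from (mul_inv_cancel_left _ _).symm,
          map_mul q (b * g), C.π_mul, (hπY _).2 hmem, ← C.π_one, ← C.π_mul, mul_one])
    have hmemE : s * s ∈ E := by
      rw [hEmem, map_mul, C.π_mul]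
      refine SP.sq_diag _ (sixteen_imp_eight _ ?_)
      have hsK : orderOf (QuotientGroup.mk' Y s) ∣ 16 := by
        have h1 : orderOf (QuotientGroup.mk' Y s) ∣ 2 ^ k' :=
          orderOf_dvd_of_pow_eq_one (by rw [← map_pow, hk', map_one])
        have h2 : orderOf (QuotientGroup.mk' Y s) ∣ 48 := by
          rw [← hidx48, ← hIdx, index_eq_card]; exact orderOf_dvd_natCard _
        obtain ⟨i, -, hi⟩ := (Nat.dvd_prime_pow Nat.prime_two).1 h1
        rw [hi] at h2 ⊢
        have hle4 : i ≤ 4 := by
          by_contra hh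
          have h32 : 2 ^ 5 ∣ 48 := (pow_dvd_pow 2 (by omega)).trans h2
          norm_num at h32
        exact (pow_dvd_pow 2 hle4)
      have h16 : (s ^ 16 : K) ∈ Y := by
        rw [← QuotientGroup.eq_one_iff, QuotientGroup.mk_pow]
        exact orderOf_dvd_iff_pow_eq_one.1 hsK
      have h16' : s ^ 16 = s * s * (s * s) * (s * s * (s * s)) * (s * s * (s * s) * (s * s * (s * s))) := by
        simp only [pow_succ, pow_zero, one_mul, mul_assoc]
      simp only [← C.π_mul, ← map_mul, ← h16']
      exact (hπY _).2 h16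
    have h' := hkill _ (mem_map_of_mem (QuotientGroup.mk' Y) hmemE)
    exact h'

end CfsgLib.DistinctClass
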