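import Cfsg.Agent.DistinctClass.Coord

/-!
# Sections of order at most nine
-/

set_option autoImplicit false
set_option linter.style.haveILetI false

namespace CfsgLib.DistinctClass

open Subgroup

/-- Two by two matrices over the field with three elements. -/
abbrev MT : Type := ZMod 3 × ZMod 3 × ZMod 3 × ZMod 3

namespace MT

set_option synthInstance.maxSize 2048

/-- The product. -/
def mul (p q : MT) : MT :=
  (p.1 * q.1 + p.2.1 * q.2.2.1, p.1 * q.2.1 + p.2.1 * q.2.2.2,
    p.2.2.1 * q.1 + p.2.2.2 * q.2.2.1, p.2.2.1 * q.2.1 + p.2.2.2 * q.2.2.2)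

def one : MT := (1, 0, 0, 1)
def up : MT := (1, 1, 0, 1)
def lo : MT := (1, 0, 1, 1)

/-- The determinant. -/
def det (p : MT) : ZMod 3 := p.1 * p.2.2.2 - p.2.1 * p.2.2.1

/-- The trace. -/
def tr (p : MT) : ZMod 3 := p.1 + p.2.2.2

theorem unit_up : ∀ a : ZMod 3, a ≠ 0 →
    (1, a, 0, 1) = up ∨ mul (1, a, 0, 1) (1, a, 0, 1) = up := by decide +kernel

theorem unit_lo : ∀ a : ZMod 3, a ≠ 0 →
    (1, 0, a, 1) = lo ∨ mul (1, 0, a, 1) (1, 0, a, 1) = lo := by decide +kernel

theorem exists_bad : ∀ d e : MT, mul d e = one → mul d up = mul (mul up up) d →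
    ∃ a ∈ [one, up, lo, mul up lo, mul lo up, mul up up, mul lo lo],
      (mul d a).det = -1 ∧ (mul d a).tr ≠ 0 := by decide +kernel

theorem bad_not_conj : ∀ p g : MT, p.det = -1 → p.tr ≠ 0 → g.det ≠ 0 →
    mul g p ≠ mul (mul (mul (mul p p) (mul p p)) p) g := by decide +kernel

theorem det_ne_zero : ∀ g h : MT, mul g h = one → g.det ≠ 0 := by decide +kernel

theorem pow_eight : ∀ p : MT, p.det = -1 → p.tr ≠ 0 →
    mul (mul (mul p p) (mul p p)) (mul (mul p p) (mul p p)) = one := by decide +kernel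

end MT

theorem cube_eq_one_imp : ∀ y : ZMod 3, y * (y * y) = 1 → y = 1 := by decide

variable {X : Type*} [Group X] [Finite X] {V : Subgroup X} {M : Type*} [AddCommGroup M]
  [Module (ZMod 3) M]

/-- A section of order at most nine has complement of order prime to three. -/
theorem Rep.false_of_card_le_nine (R : Rep V M) (hM : Nat.card M ≤ 9) {t : X} (ht : t ∉ V)
    (ht3 : t ^ 3 ∈ V) : False := by
  classical
  haveI := R.finite_M
  haveI := R.normal
  haveI : Fact (Nat.Prime 3) := ⟨Nat.prime_three⟩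
  set T := R.ρ t with hT
  have hT3 : T * (T * T) = 1 := by
    rw [hT, ← map_mul, ← map_mul, ← pow_three, R.rho_of_mem ht3]
  have hT1 : T ≠ 1 := fun h => ht (R.mem_of_rho h)
  obtain ⟨n, hn⟩ : ∃ n, Nat.card M = 3 ^ n := by
    rw [← R.card_eq]
    exact IsPGroup.iff_card.1 R.isPGroup
  have hn1 : 1 ≤ n := by
    by_contra h
    have h1 : Nat.card M = 1 := by rw [hn, show n = 0 by omega, pow_zero]
    haveI := (Nat.card_eq_one_iff_unique.1 h1).1
    exact hT1 (LinearMap.ext fun m => Subsingleton.elim _ _)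
  obtain ⟨e₁, -, he₁, hTe₁⟩ := exists_fixed_nonzero T hT3 ⊤ (fun _ _ => Submodule.mem_top) (by
    rw [Nat.card_congr Submodule.topEquiv.toEquiv, hn]
    exact dvd_pow_self 3 (by omega))
  obtain ⟨v, hv⟩ : ∃ v : M, ∀ c : ZMod 3, v ≠ c • e₁ := by
    by_contra h
    push Not at h
    exact hT1 (LinearMap.ext fun m => by
      obtain ⟨c, rfl⟩ := h m
      rw [map_smul, hTe₁, Module.End.one_apply])
  have hbasis : ∀ a b : M, a ≠ 0 → (∀ c : ZMod 3, b ≠ c • a) →
      ∀ m : M, ∃ x y : ZMod 3, m = x • a + y • b := by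
    intro a b ha hb
    have hinj : Function.Injective (fun p : ZMod 3 × ZMod 3 => p.1 • a + p.2 • b) := by
      intro p q hpq
      have h : (p.1 - q.1) • a + (p.2 - q.2) • b = 0 := by
        have hpq' : p.1 • a + p.2 • b = q.1 • a + q.2 • b := hpq
        linear_combination (norm := module) hpq'
      have hy : p.2 - q.2 = 0 := by
        by_contra hne
        refine hb (-(p.2 - q.2)⁻¹ * (p.1 - q.1)) ?_
        have hb' : (p.2 - q.2) • b = -((p.1 - q.1) • a) := eq_neg_of_add_eq_zero_right h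
        rw [← inv_smul_smul₀ hne b, hb', smul_neg, smul_smul, ← neg_smul, neg_mul]
      have hx : p.1 - q.1 = 0 := by
        rw [hy, zero_smul, add_zero, smul_eq_zero] at h
        exact h.resolve_right ha
      exact Prod.ext (sub_eq_zero.1 hx) (sub_eq_zero.1 hy)
    have hc : Nat.card M ≤ Nat.card (ZMod 3 × ZMod 3) := by
      rw [Nat.card_prod, Nat.card_zmod]; exact hM
    intro m
    obtain ⟨⟨x, y⟩, h⟩ := (hinj.bijective_of_nat_card_le hc).2 m
    exact ⟨x, y, h.symm⟩
  -- some conjugate of `t` fixes another line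
  obtain ⟨g, hg⟩ : ∃ g : X, ∀ c : ZMod 3, R.ρ g e₁ ≠ c • e₁ := by
    by_contra h
    push Not at h
    let K : Subgroup X :=
      { carrier := {a | R.ρ a e₁ = e₁ ∧ ∀ m, ∃ c : ZMod 3, R.ρ a m = m + c • e₁}
        mul_mem' := fun {a b} ha hb => ⟨by rw [map_mul, Module.End.mul_apply, hb.1, ha.1], fun m => by
          obtain ⟨c, hc⟩ := hb.2 m
          obtain ⟨d, hd⟩ := ha.2 m
          exact ⟨d + c, by rw [map_mul, Module.End.mul_apply, hc, map_add, map_smul, ha.1, hd, add_smul,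
            add_assoc]⟩⟩
        one_mem' := ⟨by rw [map_one, Module.End.one_apply], fun m => ⟨0, by
          rw [map_one, Module.End.one_apply, zero_smul, add_zero]⟩⟩
        inv_mem' := fun {a} ha => ⟨by conv_lhs => rw [← ha.1, R.rho_cancel],
          fun m => by
            obtain ⟨c, hc⟩ := ha.2 m
            refine ⟨-c, ?_⟩
            have h2 := congrArg (R.ρ a⁻¹) hc
            rw [R.rho_cancel, map_add, map_smul] at h2
            have h1 : R.ρ a⁻¹ e₁ = e₁ := by conv_lhs => rw [← ha.1, R.rho_cancel]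
            rw [h1] at h2
            rw [neg_smul, ← sub_eq_add_neg, eq_sub_iff_add_eq]
            exact h2.symm⟩ }
    have hmK : ∀ a, a ∈ K ↔ R.ρ a e₁ = e₁ ∧ ∀ m, ∃ c : ZMod 3, R.ρ a m = m + c • e₁ := fun _ => Iff.rfl
    have hKn : K.Normal := ⟨fun a ha x => by
      obtain ⟨d, hd⟩ := h x⁻¹
      refine (hmK _).2 ⟨?_, fun m => ?_⟩
      · rw [map_mul, map_mul, Module.End.mul_apply, Module.End.mul_apply, hd, map_smul,
          ((hmK a).1 ha).1, ← hd, R.rho_cancel']
      · obtain ⟨c, hc⟩ := ((hmK a).1 ha).2 (R.ρ x⁻¹ m)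
        obtain ⟨e, he⟩ := h x
        refine ⟨c * e, ?_⟩
        rw [map_mul, map_mul, Module.End.mul_apply, Module.End.mul_apply, hc, map_add, map_smul,
          R.rho_cancel', he, smul_smul]⟩
    have hK3 : IsPGroup 3 K := by
      intro a
      have h3 : (a : X) ^ 3 ∈ V := R.mem_of_rho (LinearMap.ext fun m => by
        obtain ⟨c, hc⟩ := ((hmK a).1 a.2).2 m
        rw [Module.End.one_apply, pow_three, map_mul, map_mul, Module.End.mul_apply,
          Module.End.mul_apply, hc, map_add, map_smul, ((hmK a).1 a.2).1, hc, map_add, map_add,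
          map_smul, ((hmK a).1 a.2).1, hc, add_assoc, add_assoc, ← add_smul, ← add_smul,
          show c + (c + c) = (3 : ZMod 3) * c by ring, show (3 : ZMod 3) = 0 from rfl, zero_mul,
          zero_smul, add_zero])
      obtain ⟨i, hi⟩ := R.isPGroup ⟨_, h3⟩
      refine ⟨1 + i, Subtype.ext ?_⟩
      rw [pow_add, pow_one, pow_mul, SubgroupClass.coe_pow, SubgroupClass.coe_pow]
      exact congrArg Subtype.val hi
    refine ht (R.core K hKn hK3 ((hmK t).2 ⟨hTe₁, fun m => ?_⟩))
    obtain ⟨x, y, hm⟩ := hbasis e₁ v he₁ hv (T v)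
    have hy : y = 1 := by
      refine cube_eq_one_imp y ?_
      have h2 : T (T (T v)) = v := congrArg (fun S : Module.End (ZMod 3) M => S v) hT3
      simp only [hm, map_add, map_smul, hTe₁, smul_add, smul_smul] at h2
      by_contra hne
      have hne' : y * (y * y) - 1 ≠ 0 := sub_ne_zero.2 hne
      refine hv (-(y * (y * y) - 1)⁻¹ * (x + (y * x + y * (y * x)))) ?_
      have h4 : (y * (y * y) - 1) • v = -((x + (y * x + y * (y * x))) • e₁) := by
        rw [eq_neg_iff_add_eq_zero, sub_smul, one_smul, add_smul, add_smul]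
        simp only [smul_smul, ← mul_assoc] at h2 ⊢
        linear_combination (norm := module) h2
      rw [← inv_smul_smul₀ hne' v, h4, smul_neg, smul_smul, ← neg_smul, neg_mul]
    obtain ⟨a, b, rfl⟩ := hbasis e₁ v he₁ hv m
    refine ⟨b * x, ?_⟩
    rw [← hT, map_add, map_smul, map_smul, hTe₁, hm, hy, one_smul, smul_add, smul_smul]
    abel
  -- coordinates
  set e₂ := R.ρ g e₁ with he₂
  have hb := hbasis e₁ e₂ he₁ hg
  have hmat : ∀ a : X, ∃ p : MT, R.ρ a e₁ = p.1 • e₁ + p.2.2.1 • e₂ ∧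
      R.ρ a e₂ = p.2.1 • e₁ + p.2.2.2 • e₂ := fun a => by
    obtain ⟨x, y, h1⟩ := hb (R.ρ a e₁)
    obtain ⟨z, w, h2⟩ := hb (R.ρ a e₂)
    exact ⟨(x, z, y, w), h1, h2⟩
  choose π hπ using hmat
  have hcoef : ∀ x y x' y' : ZMod 3, x • e₁ + y • e₂ = x' • e₁ + y' • e₂ → x = x' ∧ y = y' := by
    intro x y x' y' h
    have hy : y = y' := by
      by_contra hne
      have hne' : y - y' ≠ 0 := sub_ne_zero.2 hne
      refine hg (-(y - y')⁻¹ * (x - x')) ?_
      have h' : (y - y') • e₂ = -((x - x') • e₁) := by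
        rw [eq_neg_iff_add_eq_zero]
        linear_combination (norm := module) h
      rw [← inv_smul_smul₀ hne' e₂, h', smul_neg, smul_smul, ← neg_smul, neg_mul]
    subst hy
    refine ⟨?_, rfl⟩
    rw [add_left_inj, ← sub_eq_zero, ← sub_smul, smul_eq_zero] at h
    exact sub_eq_zero.1 (h.resolve_right he₁)
  have hπu : ∀ (a : X) (p : MT), R.ρ a e₁ = p.1 • e₁ + p.2.2.1 • e₂ →
      R.ρ a e₂ = p.2.1 • e₁ + p.2.2.2 • e₂ → π a = p := by
    intro a p h1 h2
    obtain ⟨q1, q3⟩ := hcoef _ _ _ _ ((hπ a).1.symm.trans h1)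
    obtain ⟨q2, q4⟩ := hcoef _ _ _ _ ((hπ a).2.symm.trans h2)
    exact Prod.ext q1 (Prod.ext q2 (Prod.ext q3 q4))
  have hmul : ∀ a b : X, π (a * b) = MT.mul (π a) (π b) := by
    intro a b
    refine hπu _ _ ?_ ?_ <;>
      simp only [map_mul, Module.End.mul_apply, (hπ b).1, (hπ b).2, map_add, map_smul, (hπ a).1,
        (hπ a).2, MT.mul] <;>
      module
  have hone : π 1 = MT.one := hπu _ _ (by simp [MT.one]) (by simp [MT.one])
  -- the two transvections
  have hself : ∀ (a : X) (p : M) (_ : p ≠ 0) (q : M) (_ : ∀ c : ZMod 3, q ≠ c • p),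
      R.ρ a p = p → R.ρ a * (R.ρ a * R.ρ a) = 1 → R.ρ a ≠ 1 →
      ∃ x : ZMod 3, x ≠ 0 ∧ R.ρ a q = x • p + q := by
    intro a p hp q hq hap ha3 ha1
    obtain ⟨x, y, h1⟩ := hbasis p q hp hq (R.ρ a q)
    have hy : y = 1 := by
      refine cube_eq_one_imp y ?_
      have h2 : R.ρ a (R.ρ a (R.ρ a q)) = q := congrArg (fun S : Module.End (ZMod 3) M => S q) ha3
      simp only [h1, map_add, map_smul, hap, smul_add, smul_smul] at h2
      by_contra hne
      have hne' : y * (y * y) - 1 ≠ 0 := sub_ne_zero.2 hne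
      refine hq (-(y * (y * y) - 1)⁻¹ * (x + (y * x + y * (y * x)))) ?_
      have h4 : (y * (y * y) - 1) • q = -((x + (y * x + y * (y * x))) • p) := by
        rw [eq_neg_iff_add_eq_zero]
        linear_combination (norm := module) h2
      rw [← inv_smul_smul₀ hne' q, h4, smul_neg, smul_smul, ← neg_smul, neg_mul]
    refine ⟨x, fun hx => ha1 (LinearMap.ext fun m => ?_), by rw [h1, hy, one_smul]⟩
    obtain ⟨c, d, rfl⟩ := hbasis p q hp hq m
    rw [hy, hx, zero_smul, zero_add, one_smul] at h1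
    rw [map_add, map_smul, map_smul, hap, h1, Module.End.one_apply]
  obtain ⟨x, hx, hTe₂⟩ := hself t e₁ he₁ e₂ hg hTe₁ hT3 hT1
  have hπt : π t = (1, x, 0, 1) :=
    hπu _ _ (by simp only [one_smul, zero_smul, add_zero]; exact hTe₁)
      (by simp only [one_smul]; exact hTe₂)
  obtain ⟨c, hc⟩ : ∃ c : X, π c = MT.up ∧ ∀ d, d * t * d⁻¹ = t⁻¹ → π d * 1 = π d ∧
      d * c * d⁻¹ = c⁻¹ := by
    rcases MT.unit_up x hx with h | h
    · exact ⟨t, hπt.trans h, fun d hd => ⟨mul_one _, hd⟩⟩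
    · exact ⟨t * t, by rw [hmul, hπt, h], fun d hd => ⟨mul_one _, by
        calc d * (t * t) * d⁻¹ = (d * t * d⁻¹) * (d * t * d⁻¹) := by group
          _ = (t * t)⁻¹ := by rw [hd]; group⟩⟩
  obtain ⟨hcu, hcinv⟩ := hc
  obtain ⟨d, hd⟩ := R.rat.exists_inv t
  have hdc := (hcinv d hd).2
  set t' := g * t * g⁻¹ with ht'
  have ht'e₂ : R.ρ t' e₂ = e₂ := by
    rw [he₂, ht', map_mul, map_mul, Module.End.mul_apply, Module.End.mul_apply, R.rho_cancel, hTe₁]
  have ht'3 : R.ρ t' * (R.ρ t' * R.ρ t') = 1 := by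
    rw [← map_mul, ← map_mul]
    refine R.rho_of_mem ?_
    rw [← pow_three, ht', conj_pow]
    exact R.normal.conj_mem _ ht3 g
  have he₂0 : e₂ ≠ 0 := fun h => hg 0 (by rw [h, zero_smul])
  have he12 : ∀ k : ZMod 3, e₁ ≠ k • e₂ := by
    intro k hk
    by_cases hk0 : k = 0
    · rw [hk0, zero_smul] at hk; exact he₁ hk
    · refine hg k⁻¹ ?_
      show e₂ = _
      rw [hk, inv_smul_smul₀ hk0]
  have ht'1 : R.ρ t' ≠ 1 := fun h => ht (by
    simpa [ht', mul_assoc] using R.normal.conj_mem _ (R.mem_of_rho h) g⁻¹)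
  obtain ⟨y, hy, ht'e₁⟩ := hself t' e₂ he₂0 e₁ he12 ht'e₂ ht'3 ht'1
  have hπt' : π t' = (1, 0, y, 1) :=
    hπu _ _ (by simp only [one_smul]; rw [ht'e₁, add_comm])
      (by simp only [one_smul, zero_smul, zero_add]; exact ht'e₂)
  obtain ⟨l, hl⟩ : ∃ l : X, π l = MT.lo := by
    rcases MT.unit_lo y hy with h | h
    · exact ⟨t', hπt'.trans h⟩
    · exact ⟨t' * t', by rw [hmul, hπt', h]⟩
  have hdu : MT.mul (π d) MT.up = MT.mul (MT.mul MT.up MT.up) (π d) := by
    have hc3 : π (c * c) = π c⁻¹ := by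
      have h3 : MT.mul MT.up (MT.mul MT.up MT.up) = MT.one := by decide +kernel
      have h4 : MT.mul (π c⁻¹) (π c) = MT.one := by rw [← hmul, inv_mul_cancel, hone]
      rw [hmul, hcu]
      rw [hcu] at h4
      revert h4
      generalize π c⁻¹ = q
      revert q
      decide +kernel
    have h5 : d * c = c⁻¹ * d := by rw [← hdc]; group
    have h6 := congrArg π h5
    rw [hmul, hmul, ← hc3, hmul, hcu] at h6
    exact h6
  obtain ⟨q, hq, hdet, htr⟩ := MT.exists_bad (π d) (π d⁻¹)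
    (by rw [← hmul, mul_inv_cancel, hone]) hdu
  obtain ⟨w, hw⟩ : ∃ w : X, π w = q := by
    simp only [List.mem_cons, List.not_mem_nil, or_false] at hq
    rcases hq with rfl | rfl | rfl | rfl | rfl | rfl | rfl
    · exact ⟨1, hone⟩
    · exact ⟨c, hcu⟩
    · exact ⟨l, hl⟩
    · exact ⟨c * l, by rw [hmul, hcu, hl]⟩
    · exact ⟨l * c, by rw [hmul, hcu, hl]⟩
    · exact ⟨c * c, by rw [hmul, hcu]⟩
    · exact ⟨l * l, by rw [hmul, hl]⟩
  set a := d * w with ha
  have hπa : π a = MT.mul (π d) q := by rw [ha, hmul, hw]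
  have ha8 : a ^ 8 ∈ V := by
    refine R.mem_of_rho ?_
    have h8 : π (a * a * (a * a) * (a * a * (a * a))) = MT.one := by
      simp only [hmul, hπa]
      exact MT.pow_eight _ hdet htr
    have h1 := (hπ (a * a * (a * a) * (a * a * (a * a)))).1
    have h2 := (hπ (a * a * (a * a) * (a * a * (a * a)))).2
    rw [h8] at h1 h2
    simp only [MT.one, one_smul, zero_smul, add_zero, zero_add] at h1 h2
    rw [show a ^ 8 = a * a * (a * a) * (a * a * (a * a)) by
      simp only [pow_succ, pow_zero, one_mul, mul_assoc]]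
    refine LinearMap.ext fun m => ?_
    obtain ⟨x', y', rfl⟩ := hb m
    rw [map_add, map_smul, map_smul, h1, h2, Module.End.one_apply]
  have ha24 : orderOf a ∣ 24 := by
    refine orderOf_dvd_of_pow_eq_one ?_
    obtain ⟨m, hm⟩ := R.j_surj _ ha8
    rw [show 24 = 8 * 3 from rfl, pow_mul, ← hm, pow_three, ← R.j_add, ← R.j_add,
      show m + (m + m) = (3 : ZMod 3) • m by
        rw [show (3 : ZMod 3) = 1 + (1 + 1) by rfl, add_smul, add_smul, one_smul],
      show (3 : ZMod 3) = 0 from rfl, zero_smul, R.j_zero]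
  obtain ⟨k, hk⟩ := R.rat.exists_conj (x := a) (k := 5)
    (Nat.Coprime.coprime_dvd_right ha24 (by norm_num))
  refine MT.bad_not_conj (π a) (π k) (hπa ▸ hdet) (hπa ▸ htr)
    (MT.det_ne_zero _ (π k⁻¹) (by rw [← hmul, mul_inv_cancel, hone])) ?_
  have h7 : k * a = a * a * (a * a) * a * k := by
    rw [show a * a * (a * a) * a = a ^ 5 by simp only [pow_succ, pow_zero, one_mul, mul_assoc], ← hk]
    group
  have h9 := congrArg π h7
  simpa only [hmul] using h9

end CfsgLib.DistinctClass
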