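import Cfsg.Agent.DistinctClass.Exponent

/-!
# Sums of reciprocals over admissible numbers

A number is admissible if every prime `p ≥ 5` dividing it does so to the power `eExp p`. The sum
of `1 / n` over admissible numbers with prescribed `2`- and `3`-parts is at most
`(∑ 2⁻ᵃ) * (∑ 3⁻ᵇ) * 1.076`.
-/

set_option autoImplicit false

namespace CfsgLib.DistinctClass

open Finset

/-- The possible centraliser orders. -/
def Adm (n : ℕ) : Prop := ∀ p, p.Prime → 5 ≤ p → p ∣ n → p ^ eExp p ∣ n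

/-- The contribution of the prime `p`. -/
noncomputable def xq (p : ℕ) : ℚ := ((1 : ℚ) / p) ^ eExp p / (1 - 1 / p)

theorem geom_le {r : ℚ} (h0 : 0 ≤ r) (h1 : r < 1) (n : ℕ) :
    ∑ j ∈ range n, r ^ j ≤ 1 / (1 - r) := by
  have h : (∑ j ∈ range n, r ^ j) * (1 - r) = 1 - r ^ n := by
    induction n with
    | zero => simp
    | succ n ih => rw [sum_range_succ, add_mul, ih]; ring
  rw [le_div_iff₀ (by linarith), h]
  have := pow_nonneg h0 n
  linarith

theorem xq_nonneg {p : ℕ} (hp : 2 ≤ p) : 0 ≤ xq p := by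
  have h : (1 : ℚ) / p ≤ 1 / 2 := by
    gcongr
    exact_mod_cast hp
  exact div_nonneg (by positivity) (by linarith)

theorem sum_inv_pow_le {r : ℚ} (h0 : 0 ≤ r) (h1 : r < 1) {e : ℕ} (A : Finset ℕ)
    (hA : ∀ a ∈ A, e ≤ a) : ∑ a ∈ A, r ^ a ≤ r ^ e / (1 - r) := by
  calc ∑ a ∈ A, r ^ a = r ^ e * ∑ a ∈ A, r ^ (a - e) := by
        rw [Finset.mul_sum]
        exact sum_congr rfl fun a ha => by rw [← pow_add, Nat.add_sub_cancel' (hA a ha)]
    _ = r ^ e * ∑ b ∈ A.image (fun a => a - e), r ^ b := by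
        rw [Finset.sum_image fun a ha b hb h => by
          have := hA a ha
          have := hA b hb
          have h' : a - e = b - e := h
          omega]
    _ ≤ r ^ e * ∑ b ∈ range ((A.image fun a => a - e).sup id + 1), r ^ b := by
        refine mul_le_mul_of_nonneg_left (sum_le_sum_of_subset_of_nonneg (fun b hb => ?_)
          fun b _ _ => pow_nonneg h0 b) (pow_nonneg h0 e)
        have := Finset.le_sup (f := id) hb
        rw [id] at this
        exact mem_range.2 (by omega)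
    _ ≤ r ^ e * (1 / (1 - r)) := mul_le_mul_of_nonneg_left (geom_le h0 h1 _) (pow_nonneg h0 e)
    _ = r ^ e / (1 - r) := by rw [mul_one_div]

theorem sum_le_prod (P : Finset ℕ) (hP : ∀ p ∈ P, p.Prime ∧ 5 ≤ p) (M : Finset ℕ)
    (hM : ∀ m ∈ M, m ≠ 0 ∧ m.primeFactors ⊆ P ∧ Adm m) :
    ∑ m ∈ M, (1 : ℚ) / m ≤ ∏ p ∈ P, (1 + xq p) := by
  induction P using Finset.induction generalizing M with
  | empty =>
    have hsub : M ⊆ {1} := fun m hm => by
      obtain ⟨h0, h1, -⟩ := hM m hm
      rw [mem_singleton]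
      by_contra h
      obtain ⟨q, hq, hqm⟩ := Nat.exists_prime_and_dvd h
      exact absurd (h1 (Nat.mem_primeFactors.2 ⟨hq, hqm, h0⟩)) (notMem_empty q)
    calc ∑ m ∈ M, (1 : ℚ) / m ≤ ∑ m ∈ ({1} : Finset ℕ), (1 : ℚ) / m :=
          sum_le_sum_of_subset_of_nonneg hsub fun m _ _ => by positivity
      _ = _ := by simp
  | insert q P hq ih =>
    obtain ⟨hqp, hq5⟩ := hP q (mem_insert_self q P)
    set ν : ℕ → ℕ := fun m => m.factorization q with hν
    set rest : ℕ → ℕ := fun m => m / q ^ m.factorization q with hrest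
    have hdec : ∀ m, q ^ ν m * rest m = m := fun m => Nat.ordProj_mul_ordCompl_eq_self m q
    have h1 : ∀ m ∈ M, rest m ≠ 0 ∧ (rest m).primeFactors ⊆ P ∧ Adm (rest m) := by
      intro m hm
      obtain ⟨h0, hsub, hadm⟩ := hM m hm
      have hr0 : rest m ≠ 0 := (Nat.ordCompl_pos q h0).ne'
      have hnd : ¬ q ∣ rest m := Nat.not_dvd_ordCompl hqp h0
      have hrd : rest m ∣ m := Dvd.intro_left _ (hdec m)
      refine ⟨hr0, fun r hr => ?_, fun r hr h5 hrm => ?_⟩
      · have hr' := Nat.mem_primeFactors.1 hr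
        rcases mem_insert.1 (hsub (Nat.mem_primeFactors.2 ⟨hr'.1, hr'.2.1.trans hrd, h0⟩)) with h | h
        · exact absurd (h ▸ hr'.2.1) hnd
        · exact h
      · have hrq : r ≠ q := fun h => hnd (h ▸ hrm)
        have h2 := hadm r hr h5 (hrm.trans hrd)
        rw [← hdec m] at h2
        exact (Nat.Coprime.pow _ _ ((Nat.coprime_primes hr hqp).2 hrq)).dvd_of_dvd_mul_left h2
    have hν' : ∀ m ∈ M, ν m = 0 ∨ eExp q ≤ ν m := by
      intro m hm
      rcases Nat.eq_zero_or_pos (ν m) with h | h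
      · exact Or.inl h
      · right
        obtain ⟨h0, -, hadm⟩ := hM m hm
        have h2 := hadm q hqp hq5 (Nat.dvd_of_factorization_pos h.ne')
        exact (hqp.pow_dvd_iff_le_factorization h0).1 h2
    have hinj : Set.InjOn (fun m => (ν m, rest m)) M := fun a _ b _ h => by
      simp only [Prod.mk.injEq] at h
      rw [← hdec a, ← hdec b, h.1, h.2]
    calc ∑ m ∈ M, (1 : ℚ) / m
        = ∑ m ∈ M, ((1 : ℚ) / q) ^ ν m * (1 / (rest m : ℕ)) := sum_congr rfl fun m _ => by
          conv_lhs => rw [← hdec m]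
          rw [Nat.cast_mul, Nat.cast_pow, div_pow, one_pow, div_mul_div_comm, one_mul]
      _ = ∑ x ∈ M.image (fun m => (ν m, rest m)), ((1 : ℚ) / q) ^ x.1 * (1 / (x.2 : ℕ)) := by
          rw [sum_image hinj]
      _ ≤ ∑ x ∈ (M.image ν) ×ˢ (M.image rest), ((1 : ℚ) / q) ^ x.1 * (1 / (x.2 : ℕ)) := by
          refine sum_le_sum_of_subset_of_nonneg (fun x hx => ?_) fun x _ _ => by positivity
          obtain ⟨m, hm, rfl⟩ := mem_image.1 hx
          exact mem_product.2 ⟨mem_image_of_mem ν hm, mem_image_of_mem rest hm⟩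
      _ = (∑ a ∈ M.image ν, ((1 : ℚ) / q) ^ a) * ∑ r ∈ M.image rest, (1 : ℚ) / r := by
          rw [sum_product, sum_mul]
          exact sum_congr rfl fun a _ => by rw [mul_sum]
      _ ≤ (1 + xq q) * ∏ p ∈ P, (1 + xq p) := by
          have hq2 : (1 : ℚ) / q < 1 := by
            rw [div_lt_one (by exact_mod_cast hqp.pos)]
            exact_mod_cast hqp.one_lt
          refine mul_le_mul ?_ (ih (fun p hp => hP p (mem_insert_of_mem hp)) _ fun r hr => by
            obtain ⟨m, hm, rfl⟩ := mem_image.1 hr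
            exact h1 m hm) (sum_nonneg fun r _ => by positivity)
            (add_nonneg zero_le_one (xq_nonneg hqp.two_le))
          have hsplit : M.image ν ⊆ insert 0 ((M.image ν).filter fun a => eExp q ≤ a) := by
            intro a ha
            obtain ⟨m, hm, rfl⟩ := mem_image.1 ha
            rcases hν' m hm with h | h
            · exact mem_insert.2 (Or.inl h)
            · exact mem_insert.2 (Or.inr (mem_filter.2 ⟨ha, h⟩))
          refine (sum_le_sum_of_subset_of_nonneg hsplit fun a _ _ => by positivity).trans ?_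
          rw [sum_insert (fun h => by
            have := (mem_filter.1 h).2
            have : 0 < eExp q := by unfold eExp; split_ifs <;> omega
            omega), pow_zero]
          exact add_le_add le_rfl
            (sum_inv_pow_le (by positivity) hq2 _ fun a ha => (mem_filter.1 ha).2)
      _ = _ := by rw [prod_insert hq]

theorem prod_tail_le : ∀ B : ℕ, 11 ≤ B →
    (∏ n ∈ Ico 11 B, (1 + xq n)) * (1 + (2 / 5 : ℚ) / ((B : ℚ) - 1) ^ 3) ≤ 1 + 1 / 2500 := by
  intro B hB
  induction B, hB using Nat.le_induction with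
  | base => norm_num
  | succ B hB ih =>
    rw [prod_Ico_succ_top (by omega)]
    refine le_trans ?_ ih
    rw [mul_assoc]
    refine mul_le_mul_of_nonneg_left ?_ (prod_nonneg fun n hn => by
      have := (mem_Ico.1 hn).1
      exact add_nonneg zero_le_one (xq_nonneg (by omega)))
    have he : eExp B = 4 := by rw [eExp, if_neg (by omega)]
    have hb : (11 : ℚ) ≤ B := by exact_mod_cast hB
    have hx : xq B = 1 / ((B : ℚ) ^ 3 * (B - 1)) := by
      rw [xq, he]
      field_simp
    rw [hx, Nat.cast_succ, add_sub_cancel_right]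
    have hB1 : (0 : ℚ) < B - 1 := by linarith
    have hB0 : (0 : ℚ) < B := by linarith
    have hf : (2 / 5 : ℚ) / (B : ℚ) ^ 3 ≤ 1 / 1000 := by
      rw [div_le_iff₀ (by positivity)]
      nlinarith [pow_le_pow_left₀ (by norm_num) hb 3]
    have key : 1 / ((B : ℚ) ^ 3 * (B - 1)) * (1 + 1 / 1000) + (2 / 5) / (B : ℚ) ^ 3 ≤
        (2 / 5) / ((B : ℚ) - 1) ^ 3 := by
      field_simp
      nlinarith
    calc (1 + 1 / ((B : ℚ) ^ 3 * (B - 1))) * (1 + (2 / 5) / (B : ℚ) ^ 3)
        = 1 + (2 / 5) / (B : ℚ) ^ 3 +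
          1 / ((B : ℚ) ^ 3 * (B - 1)) * (1 + (2 / 5) / (B : ℚ) ^ 3) := by ring
      _ ≤ 1 + (2 / 5) / (B : ℚ) ^ 3 + 1 / ((B : ℚ) ^ 3 * (B - 1)) * (1 + 1 / 1000) := by
          gcongr
      _ ≤ 1 + (2 / 5) / ((B : ℚ) - 1) ^ 3 := by linarith

/-- The general bound, for a set `S` of primes `5`, `7` allowed. -/
theorem prod_le (P : Finset ℕ) (hP : ∀ p ∈ P, p.Prime ∧ 5 ≤ p) :
    ∏ p ∈ P, (1 + xq p) ≤ (if 5 ∈ P then 21 / 20 else 1) * (43 / 42) * (1 + 1 / 2500) := by
  have hsub : P ⊆ (if 5 ∈ P then {5} else (∅ : Finset ℕ)) ∪ ({7} ∪ Ico 11 (P.sup id + 12)) := by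
    intro p hp
    obtain ⟨hpp, h5⟩ := hP p hp
    have := Finset.le_sup (f := id) hp
    rw [id] at this
    rcases (show p = 5 ∨ p = 6 ∨ p = 7 ∨ p = 8 ∨ p = 9 ∨ p = 10 ∨ 11 ≤ p by omega)
      with rfl | rfl | rfl | rfl | rfl | rfl | h11
    · simp [hp]
    · exact absurd hpp (by decide)
    · simp
    · exact absurd hpp (by decide)
    · exact absurd hpp (by decide)
    · exact absurd hpp (by decide)
    · exact mem_union_right _ (mem_union_right _ (mem_Ico.2 ⟨h11, by omega⟩))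
  refine le_trans (prod_le_prod_of_subset_of_one_le hsub (fun p hp => ?_) fun p hp _ => ?_) ?_
  · exact add_nonneg zero_le_one (xq_nonneg (hP p hp).1.two_le)
  · have h2 : 2 ≤ p := by
      simp only [mem_union, mem_singleton, mem_Ico] at hp
      rcases hp with hp | hp | hp
      · split_ifs at hp <;> simp at hp
        omega
      · omega
      · omega
    linarith [xq_nonneg h2]
  rw [prod_union, prod_union]
  · rw [prod_singleton, mul_assoc]
    refine mul_le_mul ?_ (mul_le_mul ?_ ?_ ?_ (by norm_num)) ?_ ?_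
    · split_ifs
      · rw [prod_singleton, xq, eExp]; norm_num
      · rw [prod_empty]
    · rw [xq, eExp]; norm_num
    · have h := prod_tail_le (P.sup id + 12) (by omega)
      refine le_trans (le_mul_of_one_le_right (prod_nonneg fun n hn => ?_) ?_) h
      · have := (mem_Ico.1 hn).1
        exact add_nonneg zero_le_one (xq_nonneg (by omega))
      · have : (11 : ℚ) ≤ ((P.sup id + 12 : ℕ) : ℚ) := by exact_mod_cast (by omega : 11 ≤ P.sup id + 12)
        have : (0 : ℚ) ≤ (2 / 5) / (((P.sup id + 12 : ℕ) : ℚ) - 1) ^ 3 :=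
          div_nonneg (by norm_num) (pow_nonneg (by linarith) 3)
        linarith
    · refine prod_nonneg fun n hn => ?_
      have := (mem_Ico.1 hn).1
      exact add_nonneg zero_le_one (xq_nonneg (by omega))
    · refine mul_nonneg (add_nonneg zero_le_one (xq_nonneg (by norm_num))) (prod_nonneg fun n hn => ?_)
      have := (mem_Ico.1 hn).1
      exact add_nonneg zero_le_one (xq_nonneg (by omega))
    · split_ifs <;> norm_num
  · rw [disjoint_left]
    intro a ha
    simp only [mem_singleton, mem_Ico] at ha ⊢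
    omega
  · rw [disjoint_left]
    intro a ha
    split_ifs at ha <;> simp at ha
    simp only [mem_union, mem_singleton, mem_Ico]
    omega

/-- **The pool bound.** -/
theorem pool (F A B : Finset ℕ) (hF : ∀ n ∈ F, n ≠ 0 ∧ n.factorization 2 ∈ A ∧
    n.factorization 3 ∈ B ∧ Adm n) (C : ℚ) (hC : 1076 / 1000 ≤ C ∨
      (1025 / 1000 ≤ C ∧ ∀ n ∈ F, ¬ 5 ∣ n)) :
    ∑ n ∈ F, (1 : ℚ) / n ≤ (∑ a ∈ A, (1 / 2 : ℚ) ^ a) * (∑ b ∈ B, (1 / 3 : ℚ) ^ b) * C := by
  set m : ℕ → ℕ := fun n => n / 2 ^ n.factorization 2 / 3 ^ (n / 2 ^ n.factorization 2).factorization 3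
    with hm
  have h3 : ∀ n ∈ F, (n / 2 ^ n.factorization 2).factorization 3 = n.factorization 3 := fun n hn => by
    rw [Nat.factorization_ordCompl, Finsupp.erase_ne (by norm_num)]
  have hdec : ∀ n ∈ F, 2 ^ n.factorization 2 * (3 ^ n.factorization 3 * m n) = n := fun n hn => by
    rw [← h3 n hn, hm, Nat.ordProj_mul_ordCompl_eq_self, Nat.ordProj_mul_ordCompl_eq_self]
  have hm' : ∀ n ∈ F, m n ≠ 0 ∧ Adm (m n) ∧ m n ∣ n ∧ ¬ 2 ∣ m n ∧ ¬ 3 ∣ m n := fun n hn => by
    have h0 := (hF n hn).1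
    have hd : m n ∣ n := Dvd.intro_left _ ((mul_assoc _ _ _).trans (hdec n hn))
    have hn0 : n / 2 ^ n.factorization 2 ≠ 0 := (Nat.ordCompl_pos 2 h0).ne'
    have h2' : ¬ 3 ∣ m n := Nat.not_dvd_ordCompl Nat.prime_three hn0
    have h1' : ¬ 2 ∣ m n := fun h => Nat.not_dvd_ordCompl Nat.prime_two h0
      (h.trans (Nat.ordCompl_dvd _ 3))
    refine ⟨(Nat.ordCompl_pos 3 hn0).ne', fun p hp h5 hpm => ?_, hd, h1', h2'⟩
    have h4 := (hF n hn).2.2.2 p hp h5 (hpm.trans hd)
    rw [← hdec n hn] at h4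
    exact (Nat.Coprime.pow _ _ ((Nat.coprime_primes hp Nat.prime_three).2 (by omega))).dvd_of_dvd_mul_left
      ((Nat.Coprime.pow _ _ ((Nat.coprime_primes hp Nat.prime_two).2 (by omega))).dvd_of_dvd_mul_left h4)
  set M := F.image m with hM
  set P := M.biUnion Nat.primeFactors with hP
  have hPP : ∀ p ∈ P, p.Prime ∧ 5 ≤ p := by
    intro p hp
    obtain ⟨k, hk, hpk⟩ := mem_biUnion.1 hp
    obtain ⟨n, hn, rfl⟩ := mem_image.1 hk
    obtain ⟨hpp, hpd, -⟩ := Nat.mem_primeFactors.1 hpk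
    refine ⟨hpp, ?_⟩
    have h2 := hpp.two_le
    rcases (show p = 2 ∨ p = 3 ∨ p = 4 ∨ 5 ≤ p by omega) with rfl | rfl | rfl | h
    · exact absurd hpd (hm' n hn).2.2.2.1
    · exact absurd hpd (hm' n hn).2.2.2.2
    · exact absurd hpp (by decide)
    · exact h
  have hMC : ∑ k ∈ M, (1 : ℚ) / k ≤ C := by
    refine (sum_le_prod P hPP M fun k hk => ?_).trans ((prod_le P hPP).trans ?_)
    · obtain ⟨n, hn, rfl⟩ := mem_image.1 hk
      exact ⟨(hm' n hn).1, fun p hp => mem_biUnion.2 ⟨m n, hk, hp⟩, (hm' n hn).2.1⟩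
    · rcases hC with h | ⟨h, h5⟩
      · refine le_trans ?_ h
        split_ifs <;> norm_num
      · rw [if_neg]
        · refine le_trans ?_ h
          norm_num
        · intro hp
          obtain ⟨k, hk, hpk⟩ := mem_biUnion.1 hp
          obtain ⟨n, hn, rfl⟩ := mem_image.1 hk
          exact h5 n hn ((Nat.mem_primeFactors.1 hpk).2.1.trans (hm' n hn).2.2.1)
  have hinj : Set.InjOn (fun n => ((n.factorization 2, n.factorization 3), m n)) F :=
    fun a ha b hb h => by
      simp only [Prod.mk.injEq] at h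
      rw [← hdec a ha, ← hdec b hb, h.1.1, h.1.2, h.2]
  calc ∑ n ∈ F, (1 : ℚ) / n
      = ∑ n ∈ F, (1 / 2 : ℚ) ^ n.factorization 2 * (1 / 3) ^ n.factorization 3 * (1 / (m n : ℕ)) :=
        sum_congr rfl fun n hn => by
          conv_lhs => rw [← hdec n hn]
          push_cast
          rw [div_pow, div_pow, one_pow, one_pow, div_mul_div_comm, div_mul_div_comm, one_mul,
            one_mul, mul_assoc]
    _ = ∑ x ∈ F.image (fun n => ((n.factorization 2, n.factorization 3), m n)),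
          (1 / 2 : ℚ) ^ x.1.1 * (1 / 3) ^ x.1.2 * (1 / (x.2 : ℕ)) := by rw [sum_image hinj]
    _ ≤ ∑ x ∈ (A ×ˢ B) ×ˢ M, (1 / 2 : ℚ) ^ x.1.1 * (1 / 3) ^ x.1.2 * (1 / (x.2 : ℕ)) := by
        refine sum_le_sum_of_subset_of_nonneg (fun x hx => ?_) fun x _ _ => by positivity
        obtain ⟨n, hn, rfl⟩ := mem_image.1 hx
        exact mem_product.2 ⟨mem_product.2 ⟨(hF n hn).2.1, (hF n hn).2.2.1⟩, mem_image_of_mem m hn⟩
    _ = (∑ a ∈ A, (1 / 2 : ℚ) ^ a) * (∑ b ∈ B, (1 / 3 : ℚ) ^ b) * ∑ k ∈ M, (1 : ℚ) / k := by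
        rw [sum_product, sum_mul_sum, sum_mul, sum_product]
        refine sum_congr rfl fun a _ => ?_
        rw [sum_mul]
        exact sum_congr rfl fun b _ => by rw [mul_sum]
    _ ≤ _ := mul_le_mul_of_nonneg_left hMC (mul_nonneg (sum_nonneg fun a _ => by positivity)
        (sum_nonneg fun b _ => by positivity))

end CfsgLib.DistinctClass
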