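import Cfsg.Agent.DistinctClass.Counting
import Cfsg.Agent.DistinctClass.Two
import Cfsg.Agent.EPPOSeven.Dihedral
import Cfsg.Agent.PLocal.PSolvable
import Cfsg.Agent.PLocal.Cores
import Mathlib.GroupTheory.SpecificGroups.Cyclic

/-!
# Centraliser orders three and four do not occur
-/

set_option autoImplicit false
set_option linter.style.haveILetI false

namespace CfsgLib.DistinctClass

open Subgroup

variable {G : Type*} [Group G] [Finite G]

/-- An element of order `p` whose centraliser has `p`-part `p` generates a Sylow subgroup. -/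
theorem sylow_eq_zpowers {p : ℕ} [Fact p.Prime] {z : G} (hz : orderOf z = p)
    (hv : (cz z).factorization p = 1) :
    ∃ P : Sylow p G, (P : Subgroup G) = zpowers z := by
  have hp : p.Prime := Fact.out
  obtain ⟨P, hP⟩ := (IsPGroup.of_card (n := 1) (by rw [Nat.card_zpowers, hz, pow_one]) :
    IsPGroup p (zpowers z)).exists_le_sylow
  refine ⟨P, le_antisymm ?_ hP⟩
  have hC : (P : Subgroup G) ⊓ centralizer ({z} : Set G) = zpowers z := by
    refine (eq_of_le_of_card_ge (le_inf hP (zpowers_le.2 (mem_centralizer_single.2 (Commute.refl z))))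
      ?_).symm
    rw [Nat.card_zpowers, hz]
    obtain ⟨n, hn⟩ := IsPGroup.iff_card.1 (P.isPGroup'.to_le
      (inf_le_left : (P : Subgroup G) ⊓ centralizer ({z} : Set G) ≤ _))
    have h1 : p ^ n ∣ cz z := hn ▸ card_dvd_of_le inf_le_right
    rw [hp.pow_dvd_iff_le_factorization (cz_pos z).ne', hv] at h1
    rw [hn]
    calc p ^ n ≤ p ^ 1 := Nat.pow_le_pow_right hp.pos h1
      _ = p := pow_one p
  haveI : Nontrivial (P : Subgroup G) := ⟨⟨⟨z, hP (mem_zpowers z)⟩, 1, fun h => by
    rw [show z = 1 from congrArg Subtype.val h, orderOf_one] at hz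
    exact hp.ne_one hz.symm⟩⟩
  haveI := P.isPGroup'.center_nontrivial
  obtain ⟨⟨e, he⟩, he1⟩ := exists_ne (1 : center (P : Subgroup G))
  have hec : ∀ a ∈ (P : Subgroup G), Commute a (e : G) := fun a ha =>
    congrArg Subtype.val (mem_center_iff.1 he ⟨a, ha⟩)
  have hez : (e : G) ∈ zpowers z :=
    hC ▸ ⟨e.2, mem_centralizer_single.2 (hec z (hP (mem_zpowers z))).symm⟩
  have hgen : zpowers (e : G) = zpowers z := by
    refine eq_of_le_of_card_ge (zpowers_le.2 hez) ?_
    rw [Nat.card_zpowers, Nat.card_zpowers, hz]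
    have h1 : orderOf (e : G) ∣ p := (orderOf_dvd_of_mem_zpowers hez).trans (dvd_of_eq hz)
    rcases (Nat.dvd_prime hp).1 h1 with h | h
    · rw [orderOf_eq_one_iff] at h
      exact absurd (Subtype.ext (Subtype.ext h)) he1
    · exact h.ge
  intro a ha
  rw [← hC]
  refine ⟨ha, mem_centralizer_single.2 ?_⟩
  obtain ⟨k, hk⟩ := (hgen ▸ mem_zpowers z : z ∈ zpowers (e : G))
  rw [← show (e : G) ^ k = z from hk]
  exact (hec a ha).zpow_right k

/-- If some centraliser has order three, then elements of even order have centralisers of order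
prime to three. -/
theorem factorization_three_eq_zero {z : G} (hz : cz z = 3) (hn : Nat.card G ≠ 3) {g : G}
    (hg : 2 ∣ orderOf g) : (cz g).factorization 3 = 0 := by
  haveI : Fact (Nat.Prime 3) := ⟨Nat.prime_three⟩
  by_contra h
  have h3 : 3 ∣ cz g := Nat.dvd_of_factorization_pos h
  have hz3 : orderOf z = 3 :=
    ((Nat.dvd_prime Nat.prime_three).1 (hz ▸ orderOf_dvd_cz z)).resolve_left fun h1 => hn (by
      rw [← cz_one (G := G), ← hz, orderOf_eq_one_iff.1 h1])
  obtain ⟨P, hP⟩ := sylow_eq_zpowers (p := 3) hz3 (by rw [hz]; exact Nat.prime_three.factorization_self)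
  obtain ⟨⟨t, htC⟩, ht⟩ := exists_prime_orderOf_dvd_card' 3 h3
  rw [orderOf_mk] at ht
  obtain ⟨Q, hQ⟩ := (IsPGroup.of_card (n := 1) (by rw [Nat.card_zpowers, ht, pow_one]) :
    IsPGroup 3 (zpowers t)).exists_le_sylow
  obtain ⟨k, hk⟩ := MulAction.exists_smul_eq G Q P
  have htP : k * t * k⁻¹ ∈ (P : Subgroup G) := by
    rw [← hk, Sylow.coe_subgroup_smul]
    exact mem_smul_pointwise_iff_exists _ _ _ |>.2 ⟨t, hQ (mem_zpowers t), rfl⟩
  rw [hP] at htP
  have hord : orderOf (k * t * k⁻¹) = 3 := ht ▸ orderOf_injective (MulAut.conj k).toMonoidHom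
    (MulAut.conj k).injective t
  have hgen : zpowers (k * t * k⁻¹) = zpowers z :=
    eq_of_le_of_card_ge (zpowers_le.2 htP) (by rw [Nat.card_zpowers, Nat.card_zpowers, hord, hz3])
  have hc : Commute (k * g * k⁻¹) z := by
    obtain ⟨j, hj⟩ := (hgen ▸ mem_zpowers z : z ∈ zpowers (k * t * k⁻¹))
    rw [← show (k * t * k⁻¹) ^ j = z from hj]
    refine Commute.zpow_right ?_ j
    have := (mem_centralizer_single.1 htC).symm.map (MulAut.conj k).toMonoidHom
    simpa using this
  have h2 : orderOf (k * g * k⁻¹) ∣ 3 := hz ▸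
    (centralizer ({z} : Set G)).orderOf_dvd_natCard (mem_centralizer_single.2 hc)
  have h2' : orderOf (k * g * k⁻¹) = orderOf g := orderOf_injective (MulAut.conj k).toMonoidHom
    (MulAut.conj k).injective g
  rw [h2'] at h2
  have := hg.trans h2
  omega

/-- The normaliser of a cyclic subgroup in a rational group induces all its automorphisms. -/
theorem totient_mul_dvd (hR : Rat G) (a : G) : (orderOf a).totient * orderOf a ∣ Nat.card G := by
  classical
  set N := normalizer ((zpowers a : Subgroup G) : Set G) with hN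
  have haN : a ∈ N := le_normalizer (mem_zpowers a)
  set a' : N := ⟨a, haN⟩ with ha'
  have hmem : ∀ y : {y : N | IsConj a' y}, ((y.1 : N) : G) ∈ zpowers a ∧
      orderOf ((y.1 : N) : G) = orderOf a := by
    rintro ⟨y, hy⟩
    obtain ⟨g, rfl⟩ := isConj_iff.1 hy
    refine ⟨(mem_normalizer_iff.1 g.2 a).1 (mem_zpowers a), ?_⟩
    exact orderOf_injective (MulAut.conj (g : G)).toMonoidHom (MulAut.conj (g : G)).injective a
  let F : {y : N | IsConj a' y} → {y : zpowers a | orderOf y = orderOf a} :=
    fun y => ⟨⟨_, (hmem y).1⟩, by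
      show orderOf (⟨_, (hmem y).1⟩ : zpowers a) = orderOf a
      rw [orderOf_mk]; exact (hmem y).2⟩
  have hF : Function.Bijective F := by
    refine ⟨fun y₁ y₂ h => Subtype.ext (Subtype.ext ?_), fun y => ?_⟩
    · exact congrArg (fun z : {y : zpowers a | orderOf y = orderOf a} => ((z.1 : zpowers a) : G)) h
    · obtain ⟨⟨b, hb⟩, hbo⟩ := y
      change orderOf (⟨b, hb⟩ : zpowers a) = orderOf a at hbo
      rw [orderOf_mk] at hbo
      rw [← mem_powers_iff_mem_zpowers] at hb
      obtain ⟨k, rfl⟩ := hb
      have hk : k.Coprime (orderOf a) := by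
        have h1 := orderOf_pow (n := k) a
        simp only at hbo
        rw [hbo] at h1
        have hg : (orderOf a).gcd k = 1 := by
          rcases Nat.lt_or_ge 1 ((orderOf a).gcd k) with h | h
          · exact absurd h1 (Nat.div_lt_self (orderOf_pos a) h).ne'
          · have := Nat.gcd_pos_of_pos_left k (orderOf_pos a)
            omega
        exact Nat.Coprime.symm hg
      obtain ⟨g, hg⟩ := hR.exists_conj hk
      have hgN : g ∈ N := by
        rw [hN, mem_normalizer_iff_map_conj_eq]
        refine eq_of_le_of_card_ge ?_ ?_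
        · rw [MonoidHom.map_zpowers, zpowers_le]
          show g * a * g⁻¹ ∈ zpowers a
          rw [hg]
          exact pow_mem (mem_zpowers a) k
        · rw [card_map_of_injective (MulAut.conj g).injective]
      refine ⟨⟨⟨g * a * g⁻¹, N.mul_mem (N.mul_mem hgN haN) (N.inv_mem hgN)⟩,
        isConj_iff.2 ⟨⟨g, hgN⟩, rfl⟩⟩, Subtype.ext (Subtype.ext ?_)⟩
      exact hg
  have hcard : Nat.card {y : N | IsConj a' y} = (orderOf a).totient := by
    haveI := Fintype.ofFinite G
    rw [Nat.card_eq_of_bijective F hF, Nat.card_eq_fintype_card, ← Set.toFinset_card,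
      Set.toFinset_setOf]
    exact IsCyclic.card_orderOf_eq_totient (α := zpowers a)
      (by rw [← Nat.card_eq_fintype_card, Nat.card_zpowers])
  have h1 := card_class_mul_cz a'
  rw [hcard] at h1
  refine dvd_trans ?_ N.card_subgroup_dvd_card
  rw [← h1]
  exact Nat.mul_dvd_mul_left _ (by rw [← orderOf_mk a haN]; exact orderOf_dvd_cz a')

omit [Finite G] in
theorem two_perm : ∀ σ τ : Equiv.Perm (Fin 3), Equiv.Perm.sign σ = 1 → σ ≠ 1 →
    (∀ i, σ i ≠ i) ∧ (τ * τ = 1 → σ * τ = τ * σ → τ = 1) := by decide

section four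

variable {x : G} (S : Sylow 2 G) (hx : cz x = 4) (hS : centralizer ({x} : Set G) ≤ (S : Subgroup G))

include hx hS

theorem cz_in_sylow : cz (⟨x, hS (mem_centralizer_single.2 (Commute.refl x))⟩ : (S : Subgroup G)) = 4 := by
  rw [← hx]
  refine Nat.card_congr ⟨fun y => ⟨y.1.1, mem_centralizer_single.2 ?_⟩,
    fun y => ⟨⟨y.1, hS y.2⟩, mem_centralizer_single.2 ?_⟩, fun y => rfl, fun y => rfl⟩
  · exact congrArg Subtype.val (mem_centralizer_single.1 y.2).eq
  · exact Subtype.ext (mem_centralizer_single.1 y.2).eq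

theorem four_dvd_sylow : 4 ∣ Nat.card (S : Subgroup G) := hx ▸ card_dvd_of_le hS

theorem card_sylow_le (hR : Rat G) : Nat.card (S : Subgroup G) = 4 ∨ Nat.card (S : Subgroup G) = 8 := by
  haveI : Fact (Nat.Prime 2) := ⟨Nat.prime_two⟩
  obtain ⟨n, hn⟩ := IsPGroup.iff_card.1 S.isPGroup'
  have hn2 : 2 ≤ n := by
    have h := four_dvd_sylow S hx hS
    rw [hn, show (4 : ℕ) = 2 ^ 2 from rfl, Nat.pow_dvd_pow_iff_le_right (by norm_num)] at h
    exact h
  rcases (show n = 2 ∨ n = 3 ∨ 4 ≤ n by omega) with rfl | rfl | h4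
  · exact Or.inl hn
  · exact Or.inr hn
  exfalso
  have hidx := EPPOSeven.index_commutator_of_centralizer_four hn (by omega) _ (cz_in_sylow S hx hS)
  obtain ⟨a, ha⟩ := MaxClassTwo.exists_cyclic_index_two (by omega) hn hidx
  have h1 := totient_mul_dvd hR (a : G)
  rw [orderOf_coe, ha, Nat.totient_prime_pow Nat.prime_two (by omega),
    show 2 - 1 = 1 from rfl, mul_one, ← pow_add] at h1
  have h2 : 2 ^ (n - 1 - 1 + (n - 1)) ∣ 2 ^ n := by
    rw [← hn]
    rw [S.card_eq_multiplicity]
    exact pow_dvd_pow _ ((Nat.prime_two.pow_dvd_iff_le_factorization Nat.card_pos.ne').1 h1)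
  rw [Nat.pow_dvd_pow_iff_le_right (by norm_num)] at h2
  omega

theorem factorization_two_le (hR : Rat G) (g : G) : (cz g).factorization 2 ≤ 3 := by
  haveI : Fact (Nat.Prime 2) := ⟨Nat.prime_two⟩
  have h1 := (Nat.factorization_le_iff_dvd (cz_pos g).ne' Nat.card_pos.ne').2
    (card_subgroup_dvd_card (centralizer ({g} : Set G))) 2
  have h2 := S.card_eq_multiplicity
  rcases card_sylow_le S hx hS hR with h | h <;> rw [h] at h2
  · have : (Nat.card G).factorization 2 = 2 :=
      (Nat.pow_right_injective le_rfl (h2.trans rfl.symm : 2 ^ 2 = 2 ^ _)).symm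
    omega
  · have : (Nat.card G).factorization 2 = 3 :=
      (Nat.pow_right_injective le_rfl (h2.trans rfl.symm : 2 ^ 3 = 2 ^ _)).symm
    omega

theorem center_le_commutator (h8 : Nat.card (S : Subgroup G) = 8) :
    center (S : Subgroup G) ≤ commutator (S : Subgroup G) := by
  haveI : Fact (Nat.Prime 2) := ⟨Nat.prime_two⟩
  set x' : (S : Subgroup G) := ⟨x, hS (mem_centralizer_single.2 (Commute.refl x))⟩
  have hx' : cz x' = 4 := cz_in_sylow S hx hS
  have hxZ : x' ∉ center (S : Subgroup G) := fun h => by
    have : centralizer ({x'} : Set (S : Subgroup G)) = ⊤ :=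
      eq_top_iff.2 fun y _ => mem_centralizer_single.2 (mem_center_iff.1 h y)
    rw [cz, this, card_top, h8] at hx'
    omega
  have hZC : center (S : Subgroup G) < centralizer ({x'} : Set (S : Subgroup G)) := by
    refine lt_of_le_of_ne (fun y hy => mem_centralizer_single.2 (mem_center_iff.1 hy x').symm) ?_
    exact fun h => hxZ (h ▸ mem_centralizer_single.2 (Commute.refl x'))
  have hne : commutator (S : Subgroup G) ≠ ⊥ := fun h =>
    hxZ (commutator_eq_bot_iff_le_centralizer.1 h (mem_top x') |> fun hh => mem_center_iff.2 fun y =>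
      mem_centralizer_iff.1 hh y (mem_top y))
  obtain ⟨z, hz, hzc, hzo⟩ := OddOrder.BG4.exists_central_orderOf_prime S.isPGroup' hne
  have h2 : Nat.card (center (S : Subgroup G)) ≤ 2 := by
    have hd : Nat.card (center (S : Subgroup G)) ∣ 4 := hx' ▸ card_dvd_of_le hZC.le
    have hlt : Nat.card (center (S : Subgroup G)) ≠ 4 := fun h =>
      hZC.ne (eq_of_le_of_card_ge hZC.le (h ▸ hx'.le))
    obtain ⟨j, hj, hjeq⟩ := (Nat.dvd_prime_pow Nat.prime_two (m := 2)).1 hd
    interval_cases j <;> rw [hjeq] at hlt ⊢ <;> omega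
  rw [← eq_of_le_of_card_ge (zpowers_le.2 hzc) (by rw [Nat.card_zpowers, hzo]; exact h2)]
  exact zpowers_le.2 hz

theorem factorization_two_le_two (hR : Rat G) {g : G} (hg : g ∉ commutator G) :
    (cz g).factorization 2 ≤ 2 := by
  classical
  haveI : Fact (Nat.Prime 2) := ⟨Nat.prime_two⟩
  by_contra hlt
  have h3 : (cz g).factorization 2 = 3 := by
    have := factorization_two_le S hx hS hR g
    omega
  have hmul := S.card_eq_multiplicity
  have hle := (Nat.factorization_le_iff_dvd (cz_pos g).ne' Nat.card_pos.ne').2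
    (card_subgroup_dvd_card (centralizer ({g} : Set G))) 2
  have h8 : Nat.card (S : Subgroup G) = 8 := by
    rcases card_sylow_le S hx hS hR with h | h
    · exfalso
      rw [h] at hmul
      have : (Nat.card G).factorization 2 = 2 :=
        (Nat.pow_right_injective le_rfl (hmul.trans rfl.symm : 2 ^ 2 = 2 ^ _)).symm
      omega
    · exact h
  obtain ⟨T⟩ := (inferInstance : Nonempty (Sylow 2 (centralizer ({g} : Set G))))
  have hT : Nat.card (T : Subgroup (centralizer ({g} : Set G))) = 8 := by
    rw [T.card_eq_multiplicity, show Nat.card (centralizer ({g} : Set G)) = cz g from rfl, h3]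
    rfl
  set T' := (T : Subgroup (centralizer ({g} : Set G))).map (centralizer ({g} : Set G)).subtype
  have hT'c : Nat.card T' = 8 := by rw [card_map_of_injective (subtype_injective _), hT]
  obtain ⟨R, hR'⟩ := (T.isPGroup'.map (centralizer ({g} : Set G)).subtype).exists_le_sylow
  obtain ⟨k, hk⟩ := MulAction.exists_smul_eq G R S
  -- a conjugate of `g` centralises `S`
  have hcS : ∀ s ∈ (S : Subgroup G), Commute (k * g * k⁻¹) s := by
    intro s hs
    have hRT : T' = (R : Subgroup G) := by
      refine eq_of_le_of_card_ge hR' ?_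
      rw [hT'c, R.card_eq_multiplicity, ← hmul, h8]
    rw [← hk, Sylow.coe_subgroup_smul] at hs
    obtain ⟨r, hr, rfl⟩ := (mem_smul_pointwise_iff_exists _ _ _).1 hs
    rw [← hRT] at hr
    obtain ⟨⟨r', hr'⟩, -, rfl⟩ := hr
    exact (mem_centralizer_single.1 hr').symm.map (MulAut.conj k).toMonoidHom
  set g' := k * g * k⁻¹ with hg'
  have hg'D : g' ∉ commutator G := fun h => hg (by
    simpa [hg', mul_assoc] using Subgroup.Normal.conj_mem inferInstance _ h k⁻¹)
  obtain ⟨e, m, hm, hord⟩ := Nat.exists_eq_pow_mul_and_not_dvd (orderOf_pos g').ne' 2 (by norm_num)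
  set u := g' ^ m with hu
  have huD : u ∉ commutator G := by
    intro h
    refine hg'D ?_
    obtain ⟨j, hj⟩ := Nat.not_even_iff_odd.1 (fun h' => hm h'.two_dvd)
    have h2 : g' ^ 2 ∈ commutator G := by
      rw [← QuotientGroup.eq_one_iff, QuotientGroup.mk_pow, sq]
      exact hR.hom_sq (Abelianization.of (G := G)) g'
    rw [hu, hj, pow_succ, pow_mul] at h
    exact (Subgroup.mul_mem_cancel_left _ ((commutator G).pow_mem h2 j)).1 h
  have hu2 : IsPGroup 2 (zpowers u) := by
    have h : u ^ (2 ^ e) = 1 := by rw [hu, ← pow_mul, mul_comm, ← hord, pow_orderOf_eq_one]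
    obtain ⟨i, -, hi⟩ := (Nat.dvd_prime_pow Nat.prime_two).1 (orderOf_dvd_of_pow_eq_one h)
    exact IsPGroup.of_card (n := i) (by rw [Nat.card_zpowers, hi])
  have huS : u ∈ (S : Subgroup G) := by
    have hn : (S : Subgroup G) ≤ normalizer ((zpowers u : Subgroup G) : Set G) := fun s hs =>
      centralizer_le_normalizer _ (mem_centralizer_iff.2 fun w hw => by
        obtain ⟨i, rfl⟩ := hw
        exact (((hcS s hs).pow_left m).zpow_left i).eq)
    have hp := S.isPGroup'.to_sup_of_normal_right' hu2 hn
    exact (S.is_maximal' hp le_sup_left).le (mem_sup_right (mem_zpowers u))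
  have huc : (⟨u, huS⟩ : (S : Subgroup G)) ∈ center (S : Subgroup G) :=
    mem_center_iff.2 fun y => Subtype.ext ((hcS y y.2).pow_left m).symm.eq
  refine huD ?_
  have := Subgroup.mem_map_of_mem (S : Subgroup G).subtype (center_le_commutator S hx hS h8 huc)
  rw [Subgroup.map_subtype_commutator] at this
  exact commutator_mono le_top le_top this

theorem four_le_index_or (hsol : Group.IsSolvable G) (hR : Rat G) :
    4 ≤ (commutator G).index ∨ ∃ π : G →* Equiv.Perm (Fin 3), Function.Surjective π ∧
      ∀ y : G, Equiv.Perm.sign (π y) = 1 → π y ≠ 1 → ∀ t : G, t * t = 1 → Commute y t → t = 1 := by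
  classical
  haveI : Fact (Nat.Prime 2) := ⟨Nat.prime_two⟩
  haveI := hsol
  set K := Cfsg.pPrimeCore 2 G with hK
  haveI : Group.IsSolvable (G ⧸ K) := Group.isSolvable_of_surjective (QuotientGroup.mk'_surjective K)
  set f := QuotientGroup.mk' K with hf
  have hfs : Function.Surjective f := QuotientGroup.mk'_surjective K
  set E := Cfsg.pCore 2 (G ⧸ K) with hE
  have hCE : centralizer (E : Set (G ⧸ K)) ≤ E :=
    PLocal.centralizer_pCore_le PLocal.isPSolvable_of_isSolvable
      (PLocal.pPrimeCore_quotient_pPrimeCore_eq_bot 2 G)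
  haveI hEn : E.Normal := inferInstance
  set S' := S.mapSurjective hfs with hS'
  have hKc := PLocal.coprime_card_pPrimeCore 2 G
  have hScard : Nat.card (S' : Subgroup (G ⧸ K)) = Nat.card (S : Subgroup G) := by
    have hh : Function.Injective ((f.comp (S : Subgroup G).subtype)) := by
      rw [← MonoidHom.ker_eq_bot_iff, eq_bot_iff]
      intro s hs
      rw [MonoidHom.mem_ker, MonoidHom.comp_apply, hf, QuotientGroup.mk'_apply,
        QuotientGroup.eq_one_iff] at hs
      have := PLocal.disjoint_of_isPGroup_of_coprime S.isPGroup' hKc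
      exact mem_bot.2 (Subtype.ext (mem_bot.1 (this ▸ (⟨s.2, hs⟩ : (s : G) ∈ (S : Subgroup G) ⊓ K))))
    rw [hS', Sylow.coe_mapSurjective]
    exact Nat.card_congr (Equiv.ofBijective
      (fun s : (S : Subgroup G) => (⟨f s, mem_map_of_mem f s.2⟩ : (S : Subgroup G).map f))
      ⟨fun a b h => hh (congrArg Subtype.val h), fun ⟨y, s, hs, hsy⟩ =>
        ⟨⟨s, hs⟩, Subtype.ext hsy⟩⟩).symm
  have hES : E ≤ (S' : Subgroup (G ⧸ K)) := PLocal.pCore_le_sylow S'
  have h4S := four_dvd_sylow S hx hS
  by_cases hEeq : E = (S' : Subgroup (G ⧸ K))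
  · -- the quotient is a two-group
    left
    have hodd : ∀ y : G ⧸ K, y ∈ E := by
      by_contra hcon
      push Not at hcon
      obtain ⟨y, hy⟩ := hcon
      have hntr : Nontrivial ((G ⧸ K) ⧸ E) := QuotientGroup.nontrivial_iff.2 fun h => hy (h ▸ mem_top y)
      have hlt := Group.IsSolvable.commutator_lt_top_of_nontrivial ((G ⧸ K) ⧸ E)
      have h2 := isPGroup_abelianization ((hR.map f hfs).quotient E)
      obtain ⟨j, hj⟩ := IsPGroup.iff_card.1 h2
      have hdv : (commutator ((G ⧸ K) ⧸ E)).index ∣ E.index := by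
        rw [index_eq_card E]; exact index_dvd_card _
      rw [index_eq_card, hj] at hdv
      have hj0 : j ≠ 0 := fun h => hlt.ne (index_eq_one.1 (by rw [index_eq_card, hj, h, pow_zero]))
      exact S'.not_dvd_index (hEeq ▸ (dvd_pow_self 2 hj0).trans hdv)
    have hEtop : E = ⊤ := eq_top_iff.2 fun y _ => hodd y
    have hQcard : Nat.card (G ⧸ K) = Nat.card (S : Subgroup G) := by
      rw [← hScard, ← hEeq, hEtop, card_top]
    -- a normal subgroup of index four with abelian quotient
    obtain ⟨Z, hZn, hZ⟩ : ∃ Z : Subgroup (G ⧸ K), Z.Normal ∧ Z.index = 4 := by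
      rcases card_sylow_le S hx hS hR with h | h
      · exact ⟨⊥, inferInstance, by rw [index_bot, hQcard, h]⟩
      · haveI : Nontrivial (G ⧸ K) := Finite.one_lt_card_iff_nontrivial.1 (by omega)
        have hpg : IsPGroup 2 (G ⧸ K) := IsPGroup.of_card (n := 3) (by rw [hQcard, h]; rfl)
        obtain ⟨z, -, hz, hzo⟩ := OddOrder.BG4.exists_central_orderOf_prime hpg
          (N := (⊤ : Subgroup (G ⧸ K))) (fun hh => by
            have := congrArg (fun L : Subgroup (G ⧸ K) => Nat.card L) hh
            simp only [card_top, card_bot, hQcard, h] at this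
            omega)
        refine ⟨zpowers z, ⟨fun a ha g => ?_⟩, ?_⟩
        · obtain ⟨i, rfl⟩ := ha
          rw [show g * z ^ i * g⁻¹ = z ^ i from mul_inv_eq_iff_eq_mul.2
            (mem_center_iff.1 ((center _).zpow_mem hz i) g)]
          exact ⟨i, rfl⟩
        · have := (zpowers z).card_mul_index
          rw [Nat.card_zpowers, hzo, hQcard, h] at this
          omega
    have hcomm : commutator G ≤ (Z.comap f) := by
      haveI : IsMulCommutative ((G ⧸ K) ⧸ Z) :=
        IsPGroup.isMulCommutative_of_card_eq_prime_sq (p := 2) (by rw [← index_eq_card, hZ]; rfl)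
      refine (commutator_def G).le.trans (commutator_le.2 fun a _ b _ => ?_)
      rw [mem_comap, ← QuotientGroup.eq_one_iff (N := Z)]
      have h := map_commutatorElement ((QuotientGroup.mk' Z).comp f) a b
      simp only [MonoidHom.comp_apply, QuotientGroup.mk'_apply] at h
      rw [h, commutatorElement_eq_one_iff_mul_comm]
      exact mul_comm' _ _
    have h := index_dvd_of_le hcomm
    rw [index_comap_of_surjective _ hfs, hZ] at h
    exact Nat.le_of_dvd (Nat.pos_of_ne_zero (commutator G).index_ne_zero_of_finite) h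
  · right
    obtain ⟨a, ha⟩ := IsPGroup.iff_card.1 (S'.isPGroup'.to_le hES)
    have hlt : Nat.card E < Nat.card (S' : Subgroup (G ⧸ K)) := by
      by_contra hh
      exact hEeq (eq_of_le_of_card_ge hES (Nat.not_lt.1 hh))
    have h24 : 2 ∣ Nat.card (G ⧸ K) :=
      ((show 2 ∣ 4 by norm_num).trans (h4S.trans hScard.symm.dvd)).trans (card_subgroup_dvd_card _)
    rw [hScard] at hlt
    have h8 : Nat.card (S : Subgroup G) = 8 ∧ a = 2 := by
      rcases (show a = 0 ∨ a = 1 ∨ 2 ≤ a by omega) with rfl | rfl | h
      · exfalso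
        rw [pow_zero, card_eq_one] at ha
        rw [ha, centralizer_eq_top_iff_subset.2 (by simp [coe_bot, (center (G ⧸ K)).one_mem]),
          le_bot_iff] at hCE
        have : Subsingleton (G ⧸ K) := Subgroup.subsingleton_iff.1 ⟨fun L L' => by
          rw [eq_bot_iff.2 (le_top.trans_eq hCE : L ≤ ⊥), eq_bot_iff.2 (le_top.trans_eq hCE : L' ≤ ⊥)]⟩
        rw [Nat.card_of_subsingleton (1 : G ⧸ K)] at h24
        omega
      · exfalso
        have hcen : E ≤ center (G ⧸ K) := by
          intro e he
          rw [mem_center_iff]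
          intro g
          by_cases he1 : e = 1
          · rw [he1]; simp
          have hconj := hEn.conj_mem e he g
          have h2 : (E : Set (G ⧸ K)) = {1, e} := by
            refine (Set.eq_of_subset_of_ncard_le ?_ ?_ (Set.toFinite _)).symm
            · rintro w (rfl | rfl)
              · exact E.one_mem
              · exact he
            · rw [← Nat.card_coe_set_eq, SetLike.coe_sort_coe, ha, Set.ncard_pair (Ne.symm he1)]
              norm_num
          rcases (h2 ▸ hconj : g * e * g⁻¹ ∈ ({1, e} : Set (G ⧸ K))) with h | h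
          · exact absurd (conj_eq_one_iff.1 h) he1
          · exact mul_inv_eq_iff_eq_mul.1 h
        have hC : centralizer (E : Set (G ⧸ K)) = ⊤ := centralizer_eq_top_iff_subset.2 hcen
        rw [hC, top_le_iff] at hCE
        have h4 := (h4S.trans hScard.symm.dvd).trans (card_subgroup_dvd_card (S' : Subgroup (G ⧸ K)))
        rw [← card_top (G := G ⧸ K), ← hCE, ha] at h4
        norm_num at h4
      · rcases card_sylow_le S hx hS hR with h' | h'
        · exfalso
          rw [h', ha] at hlt
          have : 2 ^ 2 ≤ 2 ^ a := Nat.pow_le_pow_right two_pos h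
          omega
        · refine ⟨h', ?_⟩
          rw [h', ha] at hlt
          by_contra hne
          have : 2 ^ 3 ≤ 2 ^ a := Nat.pow_le_pow_right two_pos (by omega)
          omega
    obtain ⟨h8, rfl⟩ := h8
    let T := {e : E // e ≠ 1}
    let c : G ⧸ K →* Equiv.Perm T :=
      { toFun := fun g => Equiv.Perm.subtypePerm (MulAut.conjNormal g : E ≃* E).toEquiv fun e => by
          show (MulAut.conjNormal g : E ≃* E) e ≠ 1 ↔ e ≠ 1
          exact not_congr ⟨fun h => (MulAut.conjNormal g).injective (h.trans (map_one _).symm),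
            fun h => by rw [h, map_one]⟩
        map_one' := by
          ext e
          simp [Equiv.Perm.subtypePerm_apply]
        map_mul' := fun g h => by
          ext e
          simp [Equiv.Perm.subtypePerm_apply, mul_assoc] }
    have hT : Nat.card T = 3 := by
      haveI := Fintype.ofFinite (G ⧸ K)
      rw [Nat.card_eq_fintype_card, Fintype.card_subtype_compl, Fintype.card_subtype_eq,
        ← Nat.card_eq_fintype_card, ha]
      rfl
    have hcapp : ∀ (g : G ⧸ K) (e : T), (((c g e).1 : E) : G ⧸ K) = g * (e.1 : G ⧸ K) * g⁻¹ :=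
      fun g e => rfl
    have hker : ∀ g, c g = 1 → g ∈ E := fun g hg => hCE (mem_centralizer_iff.2 fun e he => by
      by_cases he1 : (⟨e, he⟩ : E) = 1
      · rw [show e = 1 from congrArg Subtype.val he1, one_mul, mul_one]
      · have h := hcapp g ⟨⟨e, he⟩, he1⟩
        rw [hg, Equiv.Perm.one_apply] at h
        exact (mul_inv_eq_iff_eq_mul.1 h.symm).symm)
    haveI hEc : IsMulCommutative E := IsPGroup.isMulCommutative_of_card_eq_prime_sq (p := 2) ha
    have hEk : E ≤ c.ker := fun g hg => by
      refine MonoidHom.mem_ker.2 (Equiv.ext fun e => Subtype.ext (Subtype.ext ?_))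
      rw [hcapp, Equiv.Perm.one_apply]
      exact mul_inv_eq_iff_eq_mul.2 (congrArg Subtype.val (mul_comm' (⟨g, hg⟩ : E) e.1))
    have hkE : c.ker = E := le_antisymm (fun g hg => hker g (MonoidHom.mem_ker.1 hg)) hEk
    have hr : Nat.card c.range = 6 := by
      have hmul := (c.ker).card_mul_index
      rw [index_ker, hkE, ha] at hmul
      have hd : Nat.card c.range ∣ 6 := by
        refine (card_subgroup_dvd_card _).trans ?_
        rw [Nat.card_perm, hT]; rfl
      have h8' : 8 ∣ Nat.card (G ⧸ K) := h8 ▸ hScard ▸ card_subgroup_dvd_card _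
      rw [← hmul] at h8'
      have hne2 : Nat.card c.range ≠ 2 := by
        intro h2
        refine hEeq (le_antisymm hES ?_)
        have hQ : Nat.card (G ⧸ K) = 8 := by rw [← hmul, h2]; rfl
        haveI : (S' : Subgroup (G ⧸ K)).Normal := by
          have : (S' : Subgroup (G ⧸ K)) = ⊤ := eq_top_of_card_eq _ (by rw [hScard, h8, hQ])
          rw [this]; infer_instance
        exact PLocal.le_pCore S'.isPGroup'
      have hle : Nat.card c.range ≤ 6 := Nat.le_of_dvd (by norm_num) hd
      interval_cases hh : Nat.card c.range <;> omega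
    have hsurj : Function.Surjective c := by
      rw [← MonoidHom.range_eq_top]
      exact eq_top_of_card_eq _ (by rw [hr, Nat.card_perm, hT]; rfl)
    refine ⟨(Equiv.permCongrHom (Finite.equivFinOfCardEq hT)).toMonoidHom.comp (c.comp f),
      (Equiv.permCongrHom _).surjective.comp (hsurj.comp hfs), ?_⟩
    intro y hy hy1 t ht hyt
    set e := Equiv.permCongrHom (Finite.equivFinOfCardEq hT) with he
    change Equiv.Perm.sign (e (c (f y))) = 1 at hy
    change e (c (f y)) ≠ 1 at hy1
    obtain ⟨hfix, hcen⟩ := two_perm (e (c (f y))) (e (c (f t))) hy hy1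
    have hct : c (f t) = 1 := by
      refine e.injective ((hcen ?_ ?_).trans (map_one e).symm)
      · rw [← map_mul, ← map_mul, ← map_mul, ht, map_one, map_one, map_one]
      · rw [← map_mul, ← map_mul, ← map_mul, hyt.eq, map_mul, map_mul, map_mul]
    have htE : f t ∈ E := hker _ hct
    by_contra ht1
    have hft : f t ≠ 1 := by
      intro h
      rw [hf, QuotientGroup.mk'_apply, QuotientGroup.eq_one_iff] at h
      have h2 : orderOf t = 2 := orderOf_eq_prime (by rw [sq, ht]) ht1
      exact (PLocal.not_dvd_iff_coprime.1 hKc) ((dvd_of_eq h2.symm).trans (K.orderOf_dvd_natCard h))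
    set et : T := ⟨⟨f t, htE⟩, fun h => hft (congrArg Subtype.val h)⟩ with het
    refine hfix (Finite.equivFinOfCardEq hT et) ?_
    rw [he, Equiv.permCongrHom_coe, Equiv.permCongr_apply, Equiv.symm_apply_apply]
    refine congrArg _ (Subtype.ext (Subtype.ext ?_))
    rw [hcapp]
    show f y * f t * (f y)⁻¹ = f t
    rw [← map_mul, hyt.eq, map_mul, mul_inv_cancel_right]

end four

/-- No centraliser has order three. -/
theorem cz_ne_three_of_four [Nontrivial G] (hI : Inj G) (hsol : Group.IsSolvable G)
    (h2 : ∀ g : G, cz g ≠ 2) (z : G) : cz z ≠ 3 := by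
  intro hz
  have hR := rat_of_inj hI
  haveI := hsol
  have hidx : 2 ≤ (commutator G).index := by
    have h1 : (commutator G).index ≠ 1 := fun h =>
      (Group.IsSolvable.commutator_lt_top_of_nontrivial G).ne (index_eq_one.1 h)
    have := (commutator G).index_ne_zero_of_finite
    omega
  have hn : Nat.card G ≠ 3 := fun h => by
    have h1 := (commutator G).index_dvd_card
    rw [h] at h1
    obtain ⟨j, hj⟩ := IsPGroup.iff_card.1 (isPGroup_abelianization hR)
    rw [← index_eq_card] at hj
    have := Nat.le_of_dvd (by norm_num) h1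
    rcases j with _ | _ | j
    · omega
    · rw [hj] at h1; norm_num at h1
    · have : 2 ^ 2 ≤ 2 ^ (j + 1 + 1) := Nat.pow_le_pow_right two_pos (by omega)
      omega
  have hev : ∀ y : G, y ∉ commutator G → 2 ∣ orderOf y := fun y hy =>
    two_dvd_orderOf (isPGroup_abelianization hR) hy
  have hhalf : (1 / 2 : ℚ) ≤ 1 - 1 / ((commutator G).index : ℚ) := by
    have h : (2 : ℚ) ≤ (commutator G).index := by exact_mod_cast hidx
    have : 1 / ((commutator G).index : ℚ) ≤ 1 / 2 := by gcongr
    linarith
  by_cases h4 : ∃ x : G, cz x = 4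
  · obtain ⟨x, hx⟩ := h4
    haveI : Fact (Nat.Prime 2) := ⟨Nat.prime_two⟩
    obtain ⟨S, hS⟩ := (IsPGroup.of_card (n := 2) hx :
      IsPGroup 2 (centralizer ({x} : Set G))).exists_le_sylow
    have h := compl_le hI hsol (commutator G) (a := 7 / 8)
      (sumBound_of_subset (P := fun a => 1 ≤ a ∧ a ≤ 3) (by norm_num) {1, 2, 3}
        (fun a ha => by simp only [Finset.mem_insert, Finset.mem_singleton]; omega)
        (by norm_num [Finset.sum_insert]))
      (b := 1) (sumBound_of_subset (P := fun b => b = 0) (by norm_num) {0}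
        (fun b hb => by simp [hb]) (by simp))
      {2}
      (fun y hy => ⟨⟨one_le_factorization_two (hev y hy), factorization_two_le S hx hS hR y⟩,
        factorization_three_eq_zero hz hn (hev y hy), by simp [h2 y]⟩)
      (fun n hn => by
        simp only [Finset.mem_singleton] at hn
        subst hn
        exact ⟨by norm_num, adm_of_lt_five (by norm_num) (by norm_num),
          by rw [Nat.prime_two.factorization_self]; norm_num,
          Nat.factorization_eq_zero_of_not_dvd (by norm_num)⟩)
    norm_num at h hhalf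
    linarith
  · push Not at h4
    have h := compl_le hI hsol (commutator G) sumBound_two_pos
      (b := 1) (sumBound_of_subset (P := fun b => b = 0) (by norm_num) {0}
        (fun b hb => by simp [hb]) (by simp))
      {2, 4}
      (fun y hy => ⟨one_le_factorization_two (hev y hy),
        factorization_three_eq_zero hz hn (hev y hy), by simp [h2 y, h4 y]⟩)
      (fun n hn => by
        simp only [Finset.mem_insert, Finset.mem_singleton] at hn
        rcases hn with rfl | rfl <;>
        exact ⟨by norm_num, adm_of_lt_five (by norm_num) (by norm_num),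
          (Nat.prime_two.pow_dvd_iff_le_factorization (by norm_num)).1 (by norm_num),
          Nat.factorization_eq_zero_of_not_dvd (by norm_num)⟩)
    norm_num at h hhalf
    linarith

/-- No centraliser has order four. -/
theorem cz_ne_four [Nontrivial G] (hI : Inj G) (hsol : Group.IsSolvable G)
    (h2 : ∀ g : G, cz g ≠ 2) (x : G) : cz x ≠ 4 := by
  intro hx
  classical
  have hR := rat_of_inj hI
  haveI := hsol
  haveI : Fact (Nat.Prime 2) := ⟨Nat.prime_two⟩
  obtain ⟨S, hS⟩ := (IsPGroup.of_card (n := 2) hx :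
    IsPGroup 2 (centralizer ({x} : Set G))).exists_le_sylow
  have hev : ∀ y : G, y ∉ commutator G → 2 ∣ orderOf y := fun y hy =>
    two_dvd_orderOf (isPGroup_abelianization hR) hy
  have hle : (commutator G).index ≤ 4 := hx ▸ index_commutator_le_cz x
  have hbound : (commutator G).index ≠ 4 := by
    intro h4
    have h := compl_le hI hsol (commutator G) (a := 3 / 4)
      (sumBound_of_subset (P := fun a => 1 ≤ a ∧ a ≤ 2) (by norm_num) {1, 2}
        (fun a ha => by simp only [Finset.mem_insert, Finset.mem_singleton]; omega)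
        (by norm_num [Finset.sum_insert]))
      sumBound_three_all {2}
      (fun y hy => ⟨⟨one_le_factorization_two (hev y hy), factorization_two_le_two S hx hS hR hy⟩,
        trivial, by simp [h2 y]⟩)
      (fun n hn => by
        simp only [Finset.mem_singleton] at hn
        subst hn
        exact ⟨by norm_num, adm_of_lt_five (by norm_num) (by norm_num),
          by rw [Nat.prime_two.factorization_self]; norm_num, trivial⟩)
    rw [h4] at h
    norm_num at h
  have h1 : (commutator G).index ≠ 1 := fun h =>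
    (Group.IsSolvable.commutator_lt_top_of_nontrivial G).ne (index_eq_one.1 h)
  have hidx : (commutator G).index = 2 := by
    obtain ⟨j, hj⟩ := IsPGroup.iff_card.1 (isPGroup_abelianization hR)
    rw [← index_eq_card] at hj
    rcases j with _ | _ | _ | j
    · exact absurd hj h1
    · exact hj
    · exact absurd hj hbound
    · have : 2 ^ 3 ≤ 2 ^ (j + 1 + 1 + 1) := Nat.pow_le_pow_right two_pos (by omega)
      omega
  rcases four_le_index_or S hx hS hsol hR with h | ⟨π, hπ, hfree⟩
  · omega
  set M := π.ker with hM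
  have hMi : M.index = 6 := by
    rw [hM, index_ker, MonoidHom.range_eq_top.2 hπ, card_top, Nat.card_perm, Nat.card_fin]
    rfl
  have hD : commutator G = (Equiv.Perm.sign.comp π).ker := by
    have hle' : commutator G ≤ (Equiv.Perm.sign.comp π).ker :=
      Abelianization.commutator_subset_ker _
    refine eq_of_le_of_card_ge hle' ?_
    have hs : (Equiv.Perm.sign.comp π).ker.index = 2 := by
      rw [index_ker, MonoidHom.range_eq_top.2 (fun a => by
        obtain ⟨s, hs⟩ := Equiv.Perm.sign_surjective (Fin 3) a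
        obtain ⟨y, hy⟩ := hπ s
        exact ⟨y, by rw [MonoidHom.comp_apply, hy, hs]⟩), card_top,
        Nat.card_eq_fintype_card, Fintype.card_units_int]
    have e1 := (Equiv.Perm.sign.comp π).ker.card_mul_index
    have e2 := (commutator G).card_mul_index
    rw [hs] at e1
    rw [hidx] at e2
    omega
  have hMD : M ≤ commutator G := fun y hy => by
    rw [hD, MonoidHom.mem_ker, MonoidHom.comp_apply, MonoidHom.mem_ker.1 hy, map_one]
  set Y : Set G := (commutator G : Set G) \ (M : Set G) with hY
  have hYcard : (Nat.card Y : ℚ) = Nat.card G / 3 := by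
    have e3 := Set.ncard_sdiff_add_ncard_of_subset (show (M : Set G) ⊆ commutator G from hMD)
      (Set.toFinite _)
    rw [← Nat.card_coe_set_eq, ← Nat.card_coe_set_eq, ← Nat.card_coe_set_eq, ← hY,
      SetLike.coe_sort_coe, SetLike.coe_sort_coe] at e3
    have e1 := M.card_mul_index
    have e2 := (commutator G).card_mul_index
    rw [hMi] at e1
    rw [hidx] at e2
    have e4 : 3 * Nat.card Y = Nat.card G := by omega
    rw [← e4, Nat.cast_mul]
    norm_num
  have hodd : ∀ y ∈ Y, (cz y).factorization 2 = 0 := by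
    rintro y ⟨hyD, hyM⟩
    refine Nat.factorization_eq_zero_of_not_dvd fun h => ?_
    obtain ⟨⟨t, htC⟩, ht⟩ := exists_prime_orderOf_dvd_card' 2 h
    rw [orderOf_mk] at ht
    have h1 : t = 1 := hfree y (by
        have := hD ▸ hyD
        rwa [SetLike.mem_coe, MonoidHom.mem_ker, MonoidHom.comp_apply] at this)
      (fun h => hyM (MonoidHom.mem_ker.2 h)) t (by rw [← sq, ← ht, pow_orderOf_eq_one])
      (mem_centralizer_single.1 htC).symm
    rw [h1, orderOf_one] at ht
    norm_num at ht
  have h := mass_le hI hsol Y (a := 1)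
    (sumBound_of_subset (P := fun a => a = 0) (by norm_num) {0} (fun a ha => by simp [ha]) (by simp))
    sumBound_three_all {1, 3} (1076 / 1000)
    (fun y hy => ⟨hodd y hy, trivial, by
      have := two_le_cz hI y
      simp only [Finset.mem_insert, Finset.mem_singleton, not_or]
      exact ⟨by omega, cz_ne_three_of_four hI hsol h2 y⟩⟩)
    (fun n hn => by
      simp only [Finset.mem_insert, Finset.mem_singleton] at hn
      rcases hn with rfl | rfl <;>
      exact ⟨by norm_num, adm_of_lt_five (by norm_num) (by norm_num),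
        Nat.factorization_eq_zero_of_not_dvd (by norm_num), trivial⟩)
    (Or.inl le_rfl)
  rw [hYcard] at h
  norm_num [Finset.sum_insert] at h
  have : (0 : ℚ) < Nat.card G := by exact_mod_cast Nat.card_pos
  nlinarith

end CfsgLib.DistinctClass
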